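import Cfsg.Agent.Lib.OddTau.NonabelianSylow
import Cfsg.Agent.Lib.FiniteGroupStructure.ConjAbelian
import Cfsg.Agent.Lib.Coprime.Generation

/-!
# BG 12.8, 12.10: the `τ₂(M)`-part of a complement of `M_σ`
-/

set_option autoImplicit false
set_option linter.style.haveILetI false
set_option linter.unusedSectionVars false

open scoped Pointwise commutatorElement

namespace Cfsg.Agent.Lib.OddTau.TauTwoAbelian

open Cfsg.Agent.Lib.OddOrder Cfsg.Agent.Lib.OddOrder.MinSimple Cfsg.Agent.Lib.OddTau.Basic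
  Cfsg.Agent.Lib.OddTau.Exceptional

universe u

variable {G : Type u} [Group G] [Finite G]

/-- BG 4.20 for a plane: the derived group acts as an `r`-group. -/
theorem derived_centralizes (hodd : Odd (Nat.card G)) {r : ℕ} [Fact r.Prime] (hr2 : r ≠ 2)
    {T W : Subgroup G} (hTs : Group.IsSolvable T) (hTW : T ≤ Subgroup.normalizer (W : Set G))
    (hW : Cfsg.IsElementaryAbelian r W) (hWc : Nat.card W ≤ r ^ 2) {z : G} (hz : z ∈ ⁅T, T⁆)
    (hzo : (orderOf z).Coprime r) : z ∈ Subgroup.centralizer (W : Set G) := by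
  haveI := hTs
  haveI := hW.1
  letI : CommGroup W := { (inferInstance : Group W) with mul_comm := mul_comm' }
  let f : T →* MulAut W := W.normalizerMonoidHom.comp (Subgroup.inclusion hTW)
  haveI : Group.IsSolvable f.range :=
    Group.isSolvable_of_surjective f.rangeRestrict_surjective
  have hexp := OddGL2.commutator_pow_eq_one_of_action r hr2
    ((hodd.of_dvd_nat T.card_subgroup_dvd_card).of_dvd_nat
      (Subgroup.card_dvd_of_surjective _ f.rangeRestrict_surjective))
    (fun x : W => Subtype.ext (hW.2 x x.2)) hWc f.range.subtype f.range.subtype_injective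
  rw [← Subgroup.map_subtype_commutator] at hz
  obtain ⟨y, hy, rfl⟩ := hz
  have hy' : f.rangeRestrict y ∈ commutator f.range := by
    rw [commutator_def] at hy ⊢
    have h := Subgroup.mem_map_of_mem f.rangeRestrict hy
    rw [Subgroup.map_commutator] at h
    exact Subgroup.commutator_mono le_top le_top h
  have hfy : f y ^ r = 1 := by simpa using congrArg Subtype.val (hexp _ hy')
  have hfy1 : f y = 1 := orderOf_eq_one_iff.1 <| Nat.eq_one_of_dvd_coprimes hzo
    ((orderOf_map_dvd f y).trans (by rw [Subgroup.subtype_apply, Subgroup.orderOf_coe]))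
    (orderOf_dvd_of_pow_eq_one hfy)
  rw [Subgroup.mem_centralizer_iff]
  intro w hw
  have h0 := congrArg Subtype.val (DFunLike.congr_fun hfy1 (⟨w, hw⟩ : W))
  have h1 : (y : G) * w * (y : G)⁻¹ = w := h0
  exact (mul_inv_eq_iff_eq_mul.1 h1).symm

/-- A prime dividing a complement of `M_σ` is outside `σ(M)`. -/
theorem not_sigma_of_dvd (hG : Cfsg.IsMinSimpleOddOrder G) {M E : Subgroup G} (hM : IsCoatom M)
    (hE : Cfsg.IsComplIn E (Cfsg.sigmaCore M) M) {q : ℕ} (hq : q.Prime) (hqE : q ∣ Nat.card E) :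
    q ∉ Cfsg.sigma M := fun hσ => by
  haveI := Fact.mk hq
  obtain ⟨y, hy⟩ := exists_prime_orderOf_dvd_card' (G := E) q hqE
  have hyo : orderOf (y : G) = q := by rw [Subgroup.orderOf_coe, hy]
  have hmem := pgroup_le_sigmaCore hG hM hσ (X := Subgroup.zpowers (y : G))
    (IsPGroup.of_card (n := 1) (by rw [Nat.card_zpowers, hyo, pow_one]))
    (Subgroup.zpowers_le.2 (hE.1 y.2)) (Subgroup.mem_zpowers _)
  have h1 : (y : G) ∈ E ⊓ Cfsg.sigmaCore M := ⟨y.2, hmem⟩
  rw [hE.2.2.1, Subgroup.mem_bot] at h1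
  exact hq.ne_one (by rw [← hyo, h1, orderOf_one])

/-- BG 12.10(a). -/
theorem isMulCommutative_of_sigma' (hG : Cfsg.IsMinSimpleOddOrder G) {M : Subgroup G}
    (hM : IsCoatom M) {N : Subgroup G} (hNM : N ≤ M) (hN : Group.IsNilpotent N)
    (h : ∀ q : ℕ, q.Prime → q ∣ Nat.card N → q ∉ Cfsg.sigma M) : IsMulCommutative N := by
  refine FiniteGroupStructure.ConjAbelian.comm_of_sylow hN fun q _ P => ?_
  by_contra hna
  have hna' : ¬ IsMulCommutative ↥((P : Subgroup N).map N.subtype) := fun hc => hna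
    ⟨⟨fun a b => Subtype.ext (N.subtype_injective (congrArg Subtype.val
      (hc.is_comm.comm ⟨_, Subgroup.mem_map_of_mem N.subtype a.2⟩
        ⟨_, Subgroup.mem_map_of_mem N.subtype b.2⟩)))⟩⟩
  have hne : (P : Subgroup N) ≠ ⊥ := fun e => hna (by rw [e]; infer_instance)
  exact h q Fact.out ((SigmaEmbedding.ne_one_of_pgroup P.2 hne).trans
    (P : Subgroup N).card_subgroup_dvd_card)
    (Nonabelian.mem_sigma hG hM (P.2.map _) hna' ((Subgroup.map_subtype_le _).trans hNM))

variable {p : ℕ} [hp : Fact p.Prime] {M A E : Subgroup G}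

/-- An abelian Sylow subgroup over `A` centralizes it. -/
theorem sylow_le_centralizer {S : Sylow p G} (hAS : A ≤ S)
    (hab : IsMulCommutative (S : Subgroup G)) :
    (S : Subgroup G) ≤ Subgroup.centralizer (A : Set G) :=
  (Subgroup.le_centralizer_iff_isMulCommutative.2 hab).trans
    (Subgroup.centralizer_le (SetLike.coe_subset_coe.2 hAS))

/-- `N(S) ≤ N(A)`. -/
theorem normalizer_sylow_le (h : Ctx M p A) {S : Sylow p G} (hAS : A ≤ S)
    (hab : IsMulCommutative (S : Subgroup G)) :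
    Subgroup.normalizer ((S : Subgroup G) : Set G) ≤ Subgroup.normalizer (A : Set G) :=
  fun g hg => Subgroup.mem_normalizer_fintype fun x hx =>
    Sylow.mem_of_centralizes h
      (sylow_le_centralizer hAS hab ((Subgroup.mem_normalizer_iff.1 hg x).1 (hAS hx)))
      (by rw [conj_pow, h.elem.2 x hx, mul_one, mul_inv_cancel])

/-- `S` centralizes `O_{p'}(C(A))`. -/
theorem core_le_centralizer (h : Ctx M p A) {S : Sylow p G} (hAS : A ≤ S)
    (hab : IsMulCommutative (S : Subgroup G)) :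
    NormedConstrained.pO p (Subgroup.centralizer (A : Set G)) ≤
      Subgroup.centralizer ((S : Subgroup G) : Set G) := by
  set C := Subgroup.centralizer (A : Set G) with hC
  set K := NormedConstrained.pO p C with hK
  set N := Subgroup.normalizer (A : Set G) with hN
  have hKC : K ≤ C := NormedConstrained.pO_le C
  have hSC : (S : Subgroup G) ≤ C := sylow_le_centralizer hAS hab
  have hKco : (Nat.card K).Coprime p := NormedConstrained.pO_coprime C
  have hNK : N ≤ Subgroup.normalizer (K : Set G) :=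
    (Fitting.normalizer_le_normalizer_centralizer A).trans
      (CharP.normalizer_le_normalizer_map_char _)
  have hSN : (S : Subgroup G) ≤ N := hSC.trans (Subgroup.centralizer_le_normalizer _)
  have hNs : Group.IsSolvable N :=
    solvable_of_ne_top h.min (normalizer_ne_top h.min h.ne_bot (pgroup_ne_top h.min h.isPGroup))
  have hSd : (S : Subgroup G) ≤ ⁅N, N⁆ :=
    (SylowNormalizer.le_derived_normalizer h.min (PLengthOne.of_ne_top h.min p) S).trans
      (Subgroup.commutator_mono (normalizer_sylow_le h hAS hab) (normalizer_sylow_le h hAS hab))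
  have hcop : (Nat.card (S : Subgroup G)).Coprime (Nat.card K) := by
    obtain ⟨n, hn⟩ := IsPGroup.iff_card.1 S.2
    rw [hn]
    exact hKco.symm.pow_left n
  refine Coprime.le_of_forall_sylow fun r hr => ?_
  haveI := Fact.mk hr
  obtain ⟨P, hSR⟩ := Coprime.exists_invariant_sylow (hSN.trans hNK) hcop
    (Or.inl (Coprime.isSolvable_of_isPGroup S.2)) r
  refine ⟨P, ?_⟩
  set R := (P : Subgroup K).map K.subtype with hR
  by_cases hR1 : R = ⊥
  · rw [hR1]; exact bot_le
  have hRp : IsPGroup r R := P.2.map _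
  have hRC : R ≤ C := (Subgroup.map_subtype_le _).trans hKC
  have hRM : R ≤ M := hRC.trans h.centralizer_le
  have hrR : r ∣ Nat.card R := SigmaEmbedding.ne_one_of_pgroup hRp hR1
  have hrσ : r ∉ Cfsg.sigma M := fun hσ => hR1 <| le_bot_iff.1 <|
    (le_inf (pgroup_le_sigmaCore h.min h.max hσ hRp hRM) hRC).trans
      (Context.centralizer_inf_eq_bot h).le
  have hrp : r ≠ p := by
    rintro rfl
    exact hr.ne_one (Nat.eq_one_of_dvd_coprimes hKco
      (hrR.trans (Subgroup.card_dvd_of_le (Subgroup.map_subtype_le _))) dvd_rfl)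
  have hRab : IsMulCommutative R := by
    by_contra hna
    exact hrσ (Nonabelian.mem_sigma h.min h.max hRp hna hRM)
  have hr2 : r ≠ 2 := ne_two_of_dvd h.min (hrR.trans R.card_subgroup_dvd_card)
  set W := Cfsg.omegaOne r R with hW
  have hWe : Cfsg.IsElementaryAbelian r W := PGroups.elemAb_omegaOne hRab
  have hrk : Cfsg.PRankLE r 2 M := by
    by_contra hn
    exact hrσ (AlphaCore.alpha_subset_sigma h.min h.max ⟨hr, hn⟩)
  have hWc : Nat.card W ≤ r ^ 2 :=
    Rank.prankLE_subgroup_iff.1 hrk W ((PGroups.omegaOne_le r R).trans hRM) hWe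
  set T := N ⊓ Subgroup.normalizer (R : Set G) with hT
  have hTW : T ≤ Subgroup.normalizer (W : Set G) := fun g hg => by
    refine Subgroup.mem_normalizer_fintype fun x hx => ?_
    obtain ⟨hxR, hxp⟩ := (PGroups.mem_omegaOne_iff_of_comm hRab).1 hx
    exact PGroups.mem_omegaOne_of_pow ((Subgroup.mem_normalizer_iff.1 hg.2 x).1 hxR)
      (by rw [conj_pow, hxp, mul_one, mul_inv_cancel])
  have hKN : K ≤ N := hKC.trans (Subgroup.centralizer_le_normalizer _)
  have hsup : K ⊔ T = N := by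
    refine le_antisymm (sup_le hKN inf_le_left) fun g hg => ?_
    have hle : MulAut.conj g • R ≤ K :=
      (Subgroup.pointwise_smul_le_pointwise_smul_iff.2 (Subgroup.map_subtype_le _)).trans_eq
        (Coprime.conj_smul_eq_self_of_mem_normalizer (hNK hg))
    obtain ⟨P', hP'⟩ := Coprime.exists_sylow_of_card hle
      (by rw [Coprime.card_conj_smul, hR, Coprime.card_sylow_map])
    obtain ⟨k, hk, hkR⟩ := Coprime.exists_conj_sylow_map P P'
    rw [hP', ← hR] at hkR
    have ht : k⁻¹ * g ∈ Subgroup.normalizer (R : Set G) := by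
      refine Coprime.mem_normalizer_of_conj_smul_eq ?_
      rw [Coprime.conj_smul_mul, ← hkR, ← Coprime.conj_smul_mul, inv_mul_cancel, map_one, one_smul]
    rw [← mul_inv_cancel_left k g]
    exact Subgroup.mul_mem_sup hk ⟨N.mul_mem (N.inv_mem (hKN hk)) hg, ht⟩
  have hSd' : (S : Subgroup G) ≤ ⁅T, T⁆ :=
    UniqueFocal.le_commutator_of_sup hKN hNK hKco inf_le_left hsup S.2
      (le_inf hSN hSR) hSd
  have hTs : Group.IsSolvable T := haveI := hNs; Coprime.isSolvable_of_le inf_le_left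
  have hSW : (S : Subgroup G) ≤ Subgroup.centralizer (W : Set G) := fun s hs => by
    refine derived_centralizes h.min.1 hr2 hTs hTW hWe hWc (hSd' hs) ?_
    obtain ⟨k, hk⟩ := S.2 ⟨s, hs⟩
    exact (((Nat.coprime_primes hp.out hr).2 hrp.symm).pow_left k).coprime_dvd_left
      (orderOf_dvd_of_pow_eq_one (by simpa using congrArg Subtype.val hk))
  rw [Subgroup.le_centralizer_iff]
  intro s hs
  refine Subgroup.mem_centralizer_iff.2 fun y hy => Eq.symm ?_
  obtain ⟨k, hk⟩ := S.2 ⟨s, hs⟩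
  refine OddLocal.CoprimeFix.centralizes_of_omega hr2
    ((((Nat.coprime_primes hp.out hr).2 hrp.symm).pow_left k).coprime_dvd_left
      (orderOf_dvd_of_pow_eq_one (by simpa using congrArg Subtype.val hk)))
    hRp (hSR hs) (fun v hv hvo => ?_) y hy
  exact (Subgroup.mem_centralizer_iff.1 (hSW hs) v
    (PGroups.mem_omegaOne_of_pow hv (hvo ▸ pow_orderOf_eq_one v))).symm

/-- BG 12.8: an abelian Sylow subgroup of `G` over `A` is normal in `C(A)`. -/
theorem centralizer_le_normalizer_sylow (h : Ctx M p A) {S : Sylow p G} (hAS : A ≤ S)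
    (hab : IsMulCommutative (S : Subgroup G)) :
    Subgroup.centralizer (A : Set G) ≤ Subgroup.normalizer ((S : Subgroup G) : Set G) := by
  set X := Subgroup.centralizer (A : Set G) with hX
  have hSX : (S : Subgroup G) ≤ X := sylow_le_centralizer hAS hab
  have hXne : X ≠ ⊤ := fun e => h.max.1 (top_le_iff.1 (e ▸ h.centralizer_le))
  set T : _root_.Sylow p X := S.subtype hSX
  have hTmap : ((T : Subgroup X).map X.subtype : Subgroup G) = (S : Subgroup G) := by
    rw [Sylow.coe_subtype, Subgroup.map_subgroupOf_eq_of_le hSX]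
  have hSQ : (T : Subgroup X) ≤ Cfsg.pPrimePCore p X := Subgroup.map_le_iff_le_comap.1
    (OddLocal.NarrowStructure.map_sylow_eq_of_pLength_one (PLengthOne.of_ne_top h.min p X hXne) T).le
  haveI : (Cfsg.pPrimePCore p X).Normal := inferInstance
  have hfr : Subgroup.normalizer ((T : Subgroup X) : Set X) ⊔ Cfsg.pPrimeCore p X = ⊤ := by
    have h1 := Sylow.normalizer_sup_eq_top' T hSQ
    refine top_le_iff.1 (h1 ▸ sup_le le_sup_left ?_)
    refine (Tech42.Goldschmidt.pPrimePCore_le_sup T).trans (sup_le le_sup_right ?_)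
    exact inf_le_left.trans (Subgroup.le_normalizer.trans le_sup_left)
  intro m hm
  obtain ⟨t, ht, o, ho, e⟩ := Subgroup.mem_sup_of_normal_right.1
    (hfr ▸ Subgroup.mem_top (⟨m, hm⟩ : X) : (⟨m, hm⟩ : X) ∈ _)
  have htn : (t : G) ∈ Subgroup.normalizer ((S : Subgroup G) : Set G) := by
    have h2 := Subgroup.le_normalizer_map X.subtype (Subgroup.mem_map_of_mem X.subtype ht)
    rwa [hTmap] at h2
  rw [← show (t : G) * (o : G) = m from congrArg Subtype.val e]
  exact mul_mem htn (Subgroup.centralizer_le_normalizer _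
    (core_le_centralizer h hAS hab ⟨o, ho, rfl⟩))

omit hp in
theorem eq_of_le_normalizer [Fact p.Prime] (S : Sylow p G) {Q : Subgroup G} (hQ : IsPGroup p Q)
    (hQN : Q ≤ Subgroup.normalizer ((S : Subgroup G) : Set G)) : Q ≤ (S : Subgroup G) :=
  le_sup_right.trans (S.is_maximal' (IsPGroup.to_sup_of_normal_left' S.2 hQ hQN) le_sup_left).le

/-- BG 12.8(c): `N(A) = N(S)`. -/
theorem normalizer_eq (h : Ctx M p A) {S : Sylow p G} (hAS : A ≤ S)
    (hab : IsMulCommutative (S : Subgroup G)) :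
    Subgroup.normalizer (A : Set G) = Subgroup.normalizer ((S : Subgroup G) : Set G) := by
  refine le_antisymm (fun g hg => ?_) (normalizer_sylow_le h hAS hab)
  have hgS : MulAut.conj g • (S : Subgroup G) ≤ (S : Subgroup G) := by
    refine eq_of_le_normalizer S (S.2.map _) ((le_trans ?_ le_rfl).trans
      (centralizer_le_normalizer_sylow h hAS hab))
    refine (Subgroup.pointwise_smul_le_pointwise_smul_iff.2 (sylow_le_centralizer hAS hab)).trans
      (Coprime.conj_smul_eq_self_of_mem_normalizer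
        (Fitting.normalizer_le_normalizer_centralizer A hg)).le
  exact Coprime.mem_normalizer_of_conj_smul_eq
    (Subgroup.eq_of_le_of_card_ge hgS (Coprime.card_conj_smul g (S : Subgroup G)).ge)

/-- BG 12.8(a),(b): `S` is a normal subgroup of a complement over `A`. -/
theorem sylow_compl (h : Ctx M p A) (hE : Cfsg.IsComplIn E (Cfsg.sigmaCore M) M) (hAE : A ≤ E)
    {S : Sylow p G} (hAS : A ≤ S) (hab : IsMulCommutative (S : Subgroup G)) :
    (S : Subgroup G) ≤ E ∧ E ≤ Subgroup.normalizer ((S : Subgroup G) : Set G) :=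
  ⟨((le_inf h.centralizer_le (Subgroup.centralizer_le_normalizer _)).trans
      (Context.inf_normalizer_eq h hE hAE).le |> fun hC => (sylow_le_centralizer hAS hab).trans hC),
    normalizer_eq h hAS hab ▸ Context.le_normalizer_of_compl h hE hAE⟩

/-- If `τ₂(M) ≠ {p}` the Sylow `p`-subgroups of `G` are abelian. -/
theorem isMulCommutative_of_ne (h : Ctx M p A) (hE : Cfsg.IsComplIn E (Cfsg.sigmaCore M) M)
    (hAE : A ≤ E) (hne : Cfsg.tau2 M ≠ {p}) (S : Sylow p G) :
    IsMulCommutative (S : Subgroup G) := by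
  by_contra hna
  obtain ⟨T, z, a, g, d⟩ := NonabelianSylow.exists_data h fun T hT => hna
    ⟨⟨fun x y => (S.equiv T).injective (by
      rw [map_mul, map_mul]; exact hT.is_comm.comm _ _)⟩⟩
  exact hne (d.tau2_eq hE hAE)

/-- A complement of `M_σ` contains a subgroup of type `(p, p)` for each `p ∈ τ₂(M)`. -/
theorem exists_ctx (hG : Cfsg.IsMinSimpleOddOrder G) (hM : IsCoatom M)
    (hE : Cfsg.IsComplIn E (Cfsg.sigmaCore M) M) (hpτ : p ∈ Cfsg.tau2 M) :
    ∃ A : Subgroup G, A ≤ E ∧ Ctx M p A := by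
  obtain ⟨A₀, hA₀M, hA₀e, hA₀c⟩ := RankTwoPrime.exists_elemAb_sq hpτ.2.2.1 hpτ.2.2.2
  have h : Ctx M p A₀ := ⟨hG, hM, hpτ, hA₀M, hA₀e, hA₀c⟩
  obtain ⟨g, hg, hgE⟩ := SigmaSubgroup.exists_conj_le_of_sup (solvable_of_ne_top hG hM.1)
    (sigmaCore_le M) (le_normalizer_sigmaCore M) hE.1
    (by rw [sup_comm]; exact OddOrder.Basic.isComplIn_sup hE) hA₀M
    (π := {q | q ∉ Cfsg.sigma M})
    (fun q hq hd => by
      by_cases hqp : q = p
      · exact hqp ▸ h.not_sigma
      · exact absurd hd (h.not_dvd hq hqp))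
    (fun q hq hd hn => hn (mem_sigma_of_dvd hq hd))
  exact ⟨_, hgE, ctx_conj h (hgE.trans hE.1)⟩

/-- A `τ₂(M)`-element of a complement centralizes `A`, given abelian Sylow subgroups. -/
theorem mem_centralizer_of_tau2 (h : Ctx M p A) (hE : Cfsg.IsComplIn E (Cfsg.sigmaCore M) M)
    (hAE : A ≤ E) (hne : Cfsg.tau2 M ≠ {p}) {x : G} (hxE : x ∈ E)
    (hx : ∀ q : ℕ, q.Prime → q ∣ orderOf x → q ∈ Cfsg.tau2 M) :
    x ∈ Subgroup.centralizer (A : Set G) := by
  refine Coprime.le_of_forall_sylow (K := Subgroup.zpowers x) (fun q hq => ?_)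
    (Subgroup.mem_zpowers x)
  haveI := Fact.mk hq
  obtain ⟨P⟩ : Nonempty (_root_.Sylow q ↥(Subgroup.zpowers x)) := inferInstance
  refine ⟨P, ?_⟩
  set Q := (P : Subgroup ↥(Subgroup.zpowers x)).map (Subgroup.zpowers x).subtype with hQ
  by_cases hQ1 : Q = ⊥
  · rw [hQ1]; exact bot_le
  have hQp : IsPGroup q Q := P.2.map _
  have hQx : Q ≤ Subgroup.zpowers x := Subgroup.map_subtype_le _
  have hQE : Q ≤ E := hQx.trans (Subgroup.zpowers_le.2 hxE)
  have hqx : q ∣ orderOf x := by
    rw [← Nat.card_zpowers]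
    exact (SigmaEmbedding.ne_one_of_pgroup hQp hQ1).trans (Subgroup.card_dvd_of_le hQx)
  have hqτ := hx q hq hqx
  by_cases hqp : q = p
  · subst hqp
    obtain ⟨S, hAS⟩ := h.isPGroup.exists_le_sylow
    have hab := isMulCommutative_of_ne h hE hAE hne S
    exact (eq_of_le_normalizer S hQp (hQE.trans (sylow_compl h hE hAE hAS hab).2)).trans
      (sylow_le_centralizer hAS hab)
  obtain ⟨B, hBE, hB⟩ := exists_ctx h.min h.max hE hqτ
  obtain ⟨S, hBS⟩ := hB.isPGroup.exists_le_sylow
  have hneq : Cfsg.tau2 M ≠ {q} := fun e => hqp (Set.mem_singleton_iff.1 (e ▸ h.tau)).symm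
  have hab := isMulCommutative_of_ne hB hE hBE hneq S
  obtain ⟨hSE, hES⟩ := sylow_compl hB hE hBE hBS hab
  have hQS : Q ≤ (S : Subgroup G) := eq_of_le_normalizer S hQp (hQE.trans hES)
  have hd : A ⊓ (S : Subgroup G) = ⊥ := OddOrder.Basic.inf_eq_bot_of_coprime (by
    obtain ⟨n, hn⟩ := IsPGroup.iff_card.1 S.2
    rw [h.card, hn]
    exact ((Nat.coprime_primes hp.out hq).2 (Ne.symm hqp)).pow 2 n)
  intro y hy
  refine Subgroup.mem_centralizer_iff.2 fun a ha => ?_
  have hc : a * y * a⁻¹ * y⁻¹ ∈ A ⊓ (S : Subgroup G) := by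
    refine ⟨?_, (S : Subgroup G).mul_mem ((Subgroup.mem_normalizer_iff.1 (hES (hAE ha)) y).1 (hQS hy))
      ((S : Subgroup G).inv_mem (hQS hy))⟩
    rw [show a * y * a⁻¹ * y⁻¹ = a * (y * a⁻¹ * y⁻¹) by group]
    exact mul_mem ha ((Subgroup.mem_normalizer_iff.1
      (Context.le_normalizer_of_compl h hE hAE (hQE hy)) a⁻¹).1 (inv_mem ha))
  rw [hd, Subgroup.mem_bot] at hc
  exact commutatorElement_eq_one_iff_mul_comm.1 hc

omit hp in
theorem zpowers_map (g x : G) :
    (Subgroup.zpowers x).map (MulAut.conj g).toMonoidHom = Subgroup.zpowers (g * x * g⁻¹) :=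
  MonoidHom.map_zpowers _ x

/-- A `τ₂(M)`-element of `M` centralizes some `A` of type `(p, p)`. -/
theorem exists_ctx_centralizing (hG : Cfsg.IsMinSimpleOddOrder G) (hM : IsCoatom M)
    (hE : Cfsg.IsComplIn E (Cfsg.sigmaCore M) M) {x : G} (hxM : x ∈ M) (hx1 : x ≠ 1)
    (hx : ∀ q : ℕ, q.Prime → q ∣ orderOf x → q ∈ Cfsg.tau2 M) :
    ∃ (r : ℕ) (_ : Fact r.Prime) (A : Subgroup G),
      Ctx M r A ∧ A ≤ Subgroup.centralizer ({x} : Set G) := by
  obtain ⟨r, hr, hrx⟩ := Nat.exists_prime_and_dvd fun e => hx1 (orderOf_eq_one_iff.1 e)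
  haveI := Fact.mk hr
  refine ⟨r, Fact.mk hr, ?_⟩
  obtain ⟨A, hAE, h⟩ := exists_ctx hG hM hE (hx r hr hrx)
  by_cases hne : Cfsg.tau2 M = {r}
  · have hxp : IsPGroup r (Subgroup.zpowers x) := IsPGroup.of_card
      (n := (orderOf x).primeFactorsList.length) (by
        rw [Nat.card_zpowers]
        exact Nat.eq_prime_pow_of_unique_prime_dvd (orderOf_pos x).ne' fun hd hdd =>
          Set.mem_singleton_iff.1 (hne ▸ hx _ hd hdd))
    obtain ⟨P₀, hAP₀⟩ := exists_sylow_p h
    obtain ⟨P, hxP⟩ := (hxp.comap_subtype (K := M)).exists_le_sylow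
    obtain ⟨m, hm, hmP⟩ := Coprime.exists_conj_sylow_map P₀ P
    have hA'P : A.map (MulAut.conj m).toMonoidHom ≤ (P : Subgroup M).map M.subtype :=
      hmP ▸ Subgroup.map_mono hAP₀
    refine ⟨_, ctx_conj h (hA'P.trans (Subgroup.map_subtype_le _)), fun b hb => ?_⟩
    haveI := Abelian.sylow_comm_all h P
    have hxP' : x ∈ (P : Subgroup M).map M.subtype := ⟨⟨x, hxM⟩,
      hxP (show (⟨x, hxM⟩ : M) ∈ (Subgroup.zpowers x).comap M.subtype from Subgroup.mem_zpowers x),
      rfl⟩
    obtain ⟨u, hu, rfl⟩ := hA'P hb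
    obtain ⟨v, hv, rfl⟩ := hxP'
    exact Subgroup.mem_centralizer_singleton_iff.2
      (congrArg M.subtype (setLike_mul_comm hu hv))
  obtain ⟨g, hg, hgE⟩ := SigmaSubgroup.exists_conj_le_of_sup (solvable_of_ne_top hG hM.1)
    (sigmaCore_le M) (le_normalizer_sigmaCore M) hE.1
    (by rw [sup_comm]; exact OddOrder.Basic.isComplIn_sup hE) (Subgroup.zpowers_le.2 hxM)
    (π := {q | q ∉ Cfsg.sigma M})
    (fun q hq hd => (hx q hq (by rwa [Nat.card_zpowers] at hd)).2.1)
    (fun q hq hd hn => hn (mem_sigma_of_dvd hq hd))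
  rw [zpowers_map, Subgroup.zpowers_le] at hgE
  have hord : orderOf (g * x * g⁻¹) = orderOf x :=
    orderOf_injective (MulAut.conj g).toMonoidHom (MulAut.conj g).injective x
  have hc := mem_centralizer_of_tau2 h hE hAE hne hgE fun q hq hd => hx q hq (hord ▸ hd)
  refine ⟨_, ctx_conj h (g := g⁻¹) ?_, ?_⟩
  · rintro _ ⟨a, ha, rfl⟩
    exact mul_mem (mul_mem (inv_mem hg) (h.le ha)) (inv_mem (inv_mem hg))
  rintro _ ⟨a, ha, rfl⟩
  refine Subgroup.mem_centralizer_singleton_iff.2 ?_
  show (g⁻¹ * a * g⁻¹⁻¹) * x = x * (g⁻¹ * a * g⁻¹⁻¹)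
  calc (g⁻¹ * a * g⁻¹⁻¹) * x = g⁻¹ * (a * (g * x * g⁻¹)) * g := by group
    _ = g⁻¹ * ((g * x * g⁻¹) * a) * g := by rw [Subgroup.mem_centralizer_iff.1 hc a ha]
    _ = x * (g⁻¹ * a * g⁻¹⁻¹) := by group

end Cfsg.Agent.Lib.OddTau.TauTwoAbelian
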