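import Cfsg.Agent.Lib.OddTau.Abelian
import Cfsg.Agent.Lib.OddOrder.SigmaEmbedding

/-!
# BG 12.13: a nonabelian `p`-subgroup lies in exactly one maximal subgroup
-/

set_option autoImplicit false
set_option linter.style.haveILetI false
set_option linter.unusedSectionVars false

open scoped Pointwise commutatorElement

namespace Cfsg.Agent.Lib.OddTau.Nonabelian

open Cfsg.Agent.Lib.OddOrder Cfsg.Agent.Lib.OddOrder.MinSimple

universe u

variable {G : Type u} [Group G] [Finite G] {p : ℕ} [hp : Fact p.Prime]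

theorem not_isCyclic_of_nonabelian {P : Subgroup G} (h : ¬ IsMulCommutative P) : ¬ IsCyclic P :=
  fun hc => h (haveI := hc; inferInstance)

theorem mem_sigma (hG : Cfsg.IsMinSimpleOddOrder G) {M : Subgroup G} (hM : IsCoatom M)
    {P : Subgroup G} (hP : IsPGroup p P) (hna : ¬ IsMulCommutative P) (hPM : P ≤ M) :
    p ∈ Cfsg.sigma M := by
  by_contra hσ
  have hr2 : Cfsg.PRankLE p 2 M := by
    by_contra h
    exact hσ (AlphaCore.alpha_subset_sigma hG hM ⟨hp.out, h⟩)
  by_cases hr1 : Cfsg.PRankLE p 1 M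
  · exact not_isCyclic_of_nonabelian hna (SigmaCompl.isCyclic_of_prankLE_one hG hPM hr1 hP)
  obtain ⟨A, hAM, hA, hAc⟩ := RankTwoPrime.exists_elemAb_sq hr2 hr1
  obtain ⟨Q, hQ⟩ := (hP.comap_subtype (K := M)).exists_le_sylow
  haveI := Abelian.sylow_comm_all (⟨hG, hM, ⟨hp.out, hσ, hr2, hr1⟩, hAM, hA, hAc⟩ :
    Basic.Ctx M p A) Q
  exact hna (Abelian.isMulCommutative_of_forall fun a ha b hb => congrArg
    (fun x : (Q : Subgroup M) => ((x : M) : G))
    (mul_comm' (⟨⟨a, hPM ha⟩, hQ (show (⟨a, hPM ha⟩ : M) ∈ P.comap M.subtype from ha)⟩ :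
      (Q : Subgroup M)) ⟨⟨b, hPM hb⟩, hQ (show (⟨b, hPM hb⟩ : M) ∈ P.comap M.subtype from hb)⟩))

/-- If an element of order `p` of the centre of `S` does not single out `L`, every element of `P₁`
outside the centre has its centralizer in `L`. -/
theorem centralizer_le_of_not_good {L P₁ : Subgroup G} {z : G}
    (hP₁L : P₁ ≤ L) (hexp : ∀ b ∈ P₁, b ^ p = 1) (hP₁p : IsPGroup p P₁)
    (hP₁c : Nat.card P₁ = p ^ 3)
    (hz : z ∈ P₁) (hz1 : z ≠ 1) (hzc : ∀ b ∈ P₁, Commute b z)
    (hcen : ∀ x ∈ P₁, (∀ b ∈ P₁, Commute b x) → x ∈ Subgroup.zpowers z)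
    (hgood : ∀ A : Subgroup G, A ≤ P₁ → Cfsg.IsElementaryAbelian p A → Nat.card A = p ^ 2 →
      RankTwoCentralizer.Good p L A)
    (hzbad : ∀ A₀ : Subgroup G, A₀ = Subgroup.zpowers z → Subgroup.normalizer (A₀ : Set G) ≤ L →
      (∀ L' : Subgroup G, IsCoatom L' → Subgroup.normalizer (A₀ : Set G) ≤ L' → L' = L) → False)
    {x : G} (hx : x ∈ P₁) (hxz : x ∉ Subgroup.zpowers z) :
    Subgroup.centralizer ({x} : Set G) ≤ L := by
  have hzo : orderOf z = p := orderOf_eq_prime (hexp z hz) hz1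
  have hx1 : x ≠ 1 := fun e => hxz (e ▸ one_mem _)
  have hxo : orderOf x = p := orderOf_eq_prime (hexp x hx) hx1
  set A := Subgroup.zpowers z ⊔ Subgroup.zpowers x with hA
  have hAP : A ≤ P₁ := sup_le (Subgroup.zpowers_le.2 hz) (Subgroup.zpowers_le.2 hx)
  have hcn : Subgroup.zpowers x ≤ Subgroup.normalizer (Subgroup.zpowers z : Set G) := fun v hv =>
    Subgroup.centralizer_le_normalizer _ (Subgroup.mem_centralizer_iff.2 fun w hw => by
      obtain ⟨i, rfl⟩ := hv
      obtain ⟨j, rfl⟩ := hw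
      exact ((hzc x hx).symm.zpow_zpow j i).eq)
  have hcz : Subgroup.zpowers z ≤ Subgroup.centralizer (Subgroup.zpowers x : Set G) := by
    intro v hv
    refine Subgroup.mem_centralizer_iff.2 fun w hw => ?_
    obtain ⟨i, rfl⟩ := hv
    obtain ⟨j, rfl⟩ := hw
    exact ((hzc x hx).zpow_zpow j i).eq
  have hAe : Cfsg.IsElementaryAbelian p A := SCN.elemAb_sup
    (PGroups.elemAb_zpowers (hexp z hz)) (PGroups.elemAb_zpowers (hexp x hx)) hcz
  have hAc : Nat.card A = p ^ 2 := by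
    rw [hA, sup_comm, Coprime.card_sup_of_disjoint hcn, Nat.card_zpowers, Nat.card_zpowers, hzo,
      hxo, sq]
    rw [disjoint_iff, eq_bot_iff]
    intro v hv
    rw [Subgroup.mem_bot]
    by_contra hv1
    refine hxz ?_
    have h1 : Subgroup.zpowers v = Subgroup.zpowers x := by
      refine Subgroup.eq_of_le_of_card_ge (Subgroup.zpowers_le.2 hv.1) ?_
      rw [Nat.card_zpowers, Nat.card_zpowers, hxo,
        orderOf_eq_prime (hexp v (Subgroup.zpowers_le.2 hx hv.1)) hv1]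
    exact Subgroup.zpowers_le.2 hv.2 (h1 ▸ Subgroup.mem_zpowers x)
  obtain ⟨A₀, hA₀, hA₀c, hN, hu⟩ := hgood A hAP hAe hAc
  obtain ⟨b, hb, hb1⟩ := A₀.bot_or_exists_ne_one.resolve_left fun e => by
    rw [e, Subgroup.card_bot] at hA₀c
    exact hp.out.ne_one hA₀c.symm
  have hbA := hA₀ hb
  have hzb : Subgroup.zpowers b = A₀ := Subgroup.eq_of_le_of_card_ge (Subgroup.zpowers_le.2 hb) (by
    rw [Nat.card_zpowers, orderOf_eq_prime (hexp b (hAP hbA)) hb1, hA₀c])
  obtain ⟨_, ⟨s, rfl⟩, _, ⟨t, rfl⟩, he⟩ := Set.mem_mul.1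
    (by rw [← Subgroup.coe_mul_of_right_le_normalizer_left _ _ hcn]; exact hbA :
      b ∈ (Subgroup.zpowers z : Set G) * (Subgroup.zpowers x : Set G))
  simp only at he
  by_cases ht : (t : ZMod p) = 0
  · exfalso
    rw [ZMod.intCast_zmod_eq_zero_iff_dvd, ← hxo, orderOf_dvd_iff_zpow_eq_one] at ht
    rw [ht, mul_one] at he
    refine hzbad A₀ ?_ hN hu
    refine hzb.symm.trans (Subgroup.eq_of_le_of_card_ge (Subgroup.zpowers_le.2 ⟨s, he⟩) ?_)
    rw [Nat.card_zpowers, Nat.card_zpowers, hzo, orderOf_eq_prime (hexp b (hAP hbA)) hb1]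
  -- `x ^ t` is conjugate to `b` under `P₁`
  obtain ⟨y, hy, hyx⟩ : ∃ y ∈ P₁, ¬ Commute y x := by
    by_contra hcon
    push Not at hcon
    exact hxz (hcen x hx hcon)
  obtain ⟨y₁, hy₁, hy₁C⟩ : ∃ y₁ ∈ P₁ ⊓ Subgroup.normalizer (A : Set G),
      ¬ Commute y₁ x := by
    refine ⟨y, ?_, hyx⟩
    have hlt : A < P₁ := lt_of_le_of_ne hAP fun e => hyx (by
      rw [← e] at hy
      exact PGroups.elemAb_comm hAe hy (Subgroup.mem_sup_right (Subgroup.mem_zpowers x)))
    have hlt2 := Sigma.exists_gt_inf_normalizer hP₁p hlt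
    obtain ⟨n, -, hn⟩ := (Nat.dvd_prime_pow hp.out).1
      (hP₁c ▸ Subgroup.card_dvd_of_le
        (inf_le_left : P₁ ⊓ Subgroup.normalizer (A : Set G) ≤ P₁))
    have hc1 : Nat.card A < Nat.card ↥(P₁ ⊓ Subgroup.normalizer (A : Set G)) :=
      lt_of_le_of_ne (Subgroup.card_le_of_le hlt2.le)
        fun e => hlt2.ne (Subgroup.eq_of_le_of_card_ge hlt2.le e.ge)
    rw [hAc, hn, Nat.pow_lt_pow_iff_right hp.out.one_lt] at hc1
    have heq : P₁ ⊓ Subgroup.normalizer (A : Set G) = P₁ :=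
      Subgroup.eq_of_le_of_card_ge inf_le_left (by
        rw [hP₁c, hn]; exact Nat.pow_le_pow_right hp.out.pos hc1)
    rw [heq]
    exact hy
  obtain ⟨k, hk⟩ := hP₁p ⟨y₁, hy₁.1⟩
  have hyz : Commute y₁ z := hzc y₁ hy₁.1
  obtain ⟨i, hi⟩ := Sylow.exists_step hAe hAc (Subgroup.mem_sup_left (Subgroup.mem_zpowers z)) hz1
    (k := k) (by simpa using congrArg Subtype.val hk) hy₁.2 hyz
    (Subgroup.mem_sup_right (Subgroup.mem_zpowers x))
  have hi0 : (i : ZMod p) ≠ 0 := by
    intro h0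
    rw [ZMod.intCast_zmod_eq_zero_iff_dvd, ← hzo, orderOf_dvd_iff_zpow_eq_one] at h0
    rw [h0, one_mul] at hi
    exact hy₁C (mul_inv_eq_iff_eq_mul.1 hi)
  obtain ⟨n, hn⟩ : ∃ n : ℕ, ((z ^ i) ^ n) ^ t = z ^ s := by
    have hit : ((i * t : ℤ) : ZMod p) ≠ 0 := by push_cast; exact mul_ne_zero hi0 ht
    obtain ⟨n, hn⟩ := Sylow.exists_pow_eq (hexp z hz) hit s
    exact ⟨n, by rw [← hn, ← zpow_natCast, ← zpow_natCast, ← zpow_mul, ← zpow_mul,
      ← zpow_mul]; congr 1; ring⟩
  have hyn : ∀ n : ℕ, y₁ ^ n * x * (y₁ ^ n)⁻¹ = (z ^ i) ^ n * x := by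
    intro n
    induction n with
    | zero => simp
    | succ n ih =>
      have h1 : y₁ * (z ^ i) ^ n * y₁⁻¹ = (z ^ i) ^ n := by
        rw [((hyz.zpow_right i).pow_right n).eq, mul_inv_cancel_right]
      calc y₁ ^ (n + 1) * x * (y₁ ^ (n + 1))⁻¹ = y₁ * (y₁ ^ n * x * (y₁ ^ n)⁻¹) * y₁⁻¹ := by
            rw [pow_succ']; group
        _ = (y₁ * (z ^ i) ^ n * y₁⁻¹) * (y₁ * x * y₁⁻¹) := by rw [ih]; group
        _ = _ := by rw [h1, hi, ← mul_assoc, ← pow_succ]
  have hconj : y₁ ^ n * x ^ t * (y₁ ^ n)⁻¹ = b := by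
    rw [← conj_zpow, hyn, ((((hzc x hx).symm).zpow_left i).pow_left n).mul_zpow, hn, he]
  intro w hw
  have hyL : y₁ ^ n ∈ L := pow_mem (hP₁L hy₁.1) n
  have hwc : Commute w (x ^ t) :=
    Commute.zpow_right (Subgroup.mem_centralizer_singleton_iff.1 hw : Commute w x) t
  have hwb : y₁ ^ n * w * (y₁ ^ n)⁻¹ ∈ Subgroup.normalizer (A₀ : Set G) := by
    refine Subgroup.centralizer_le_normalizer _ (Subgroup.mem_centralizer_iff.2 ?_)
    rw [← hzb]
    rintro _ ⟨j, rfl⟩
    refine (Commute.zpow_right ?_ j).eq.symm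
    rw [← hconj]
    show _ = _
    calc y₁ ^ n * w * (y₁ ^ n)⁻¹ * (y₁ ^ n * x ^ t * (y₁ ^ n)⁻¹)
        = y₁ ^ n * (w * x ^ t) * (y₁ ^ n)⁻¹ := by group
      _ = _ := by rw [hwc.eq]; group
  have := mul_mem (mul_mem (inv_mem hyL) (hN hwb)) hyL
  rwa [show (y₁ ^ n)⁻¹ * (y₁ ^ n * w * (y₁ ^ n)⁻¹) * y₁ ^ n = w by group] at this

/-- If the central element `z` of `P₁ ≤ S` does not single out `L`, then `M ≤ L`. -/
theorem le_of_not_good (hG : Cfsg.IsMinSimpleOddOrder G) {M L : Subgroup G} (hM : IsCoatom M)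
    (S : Sylow p G) (hSM : (S : Subgroup G) ≤ M)
    (hNL : Subgroup.normalizer ((S : Subgroup G) : Set G) ≤ L) {P₁ : Subgroup G} {z : G}
    (hP₁S : P₁ ≤ S) (hexp : ∀ b ∈ P₁, b ^ p = 1) (hP₁c : Nat.card P₁ = p ^ 3)
    (hz : z ∈ P₁) (hz1 : z ≠ 1) (hzc : ∀ b ∈ P₁, Commute b z)
    (hcen : ∀ x ∈ P₁, (∀ b ∈ P₁, Commute b x) → x ∈ Subgroup.zpowers z)
    (hout : ∀ x ∈ P₁, x ∉ Subgroup.zpowers z → Subgroup.centralizer ({x} : Set G) ≤ L) :
    M ≤ L := by
  haveI := solvable_of_ne_top hG hM.1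
  set K := NormedConstrained.pO p M with hK
  have hKM : K ≤ M := NormedConstrained.pO_le M
  have hP₁M : P₁ ≤ M := hP₁S.trans hSM
  have hP₁p : IsPGroup p P₁ := S.2.to_le hP₁S
  have hP₁K : P₁ ≤ Subgroup.normalizer (K : Set G) :=
    hP₁M.trans (OddOrder.Basic.le_normalizer_map_subtype M _)
  have hcop : (Nat.card P₁).Coprime (Nat.card K) := by
    rw [hP₁c]
    exact (NormedConstrained.pO_coprime M).symm.pow_left 3
  obtain ⟨x, hx, hxz⟩ : ∃ x ∈ P₁, x ∉ Subgroup.zpowers z := by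
    by_contra hcon
    push Not at hcon
    have h1 := Subgroup.card_le_of_le (K := Subgroup.zpowers z) (fun x hx => hcon x hx : P₁ ≤ _)
    rw [Nat.card_zpowers, orderOf_eq_prime (hexp z hz) hz1, hP₁c] at h1
    exact absurd h1 (not_le.2 (lt_self_pow₀ hp.out.one_lt (by norm_num)))
  -- the fixed points of `z`
  set B := K ⊓ Subgroup.centralizer ({z} : Set G) with hB
  have hBL : B ≤ L := by
    set Z := Subgroup.zpowers z with hZ
    set H := (B ⊔ P₁) ⊔ Z with hH
    have hZH : Z ≤ H := le_sup_right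
    have hBH : B ≤ H := le_sup_left.trans le_sup_left
    have hPH : P₁ ≤ H := le_sup_right.trans le_sup_left
    have hHz : H ≤ Subgroup.centralizer ({z} : Set G) :=
      sup_le (sup_le inf_le_right fun b hb => Subgroup.mem_centralizer_singleton_iff.2 (hzc b hb).eq)
        (Subgroup.zpowers_le.2 (Subgroup.mem_centralizer_singleton_iff.2 rfl))
    set N := Z.subgroupOf H with hN
    haveI : N.Normal := (Subgroup.normal_subgroupOf_iff_le_normalizer hZH).2 fun w hw =>
      Subgroup.centralizer_le_normalizer _ (Subgroup.mem_centralizer_iff.2 fun v hv => by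
        obtain ⟨j, rfl⟩ := hv
        exact (Commute.zpow_right (Subgroup.mem_centralizer_singleton_iff.1 (hHz hw) :
          Commute w z) j).eq.symm)
    set π := QuotientGroup.mk' N with hπ
    set B' := (B.subgroupOf H).map π with hB'
    set P' := (P₁.subgroupOf H).map π with hP'
    have hPB : P₁ ≤ Subgroup.normalizer (B : Set G) := Coprime.le_normalizer_inf hP₁K
      ((show P₁ ≤ Subgroup.centralizer ({z} : Set G) from fun b hb =>
        Subgroup.mem_centralizer_singleton_iff.2 (hzc b hb).eq).trans Subgroup.le_normalizer)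
    have hP'B : P' ≤ Subgroup.normalizer (B' : Set (H ⧸ N)) := by
      rintro _ ⟨w, hw, rfl⟩
      refine Subgroup.le_normalizer_map π (Subgroup.mem_map_of_mem π ?_)
      exact NormedConstrained.le_normalizer_subgroupOf hPB hw
    have hcop' : (Nat.card P').Coprime (Nat.card B') := by
      refine (hcop.coprime_dvd_left ?_).coprime_dvd_right ?_
      · exact (Subgroup.card_map_dvd _ _).trans
          (NormedConstrained.card_subgroupOf_eq hPH).dvd
      · exact ((Subgroup.card_map_dvd _ _).trans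
          (NormedConstrained.card_subgroupOf_eq hBH).dvd).trans (Subgroup.card_dvd_of_le inf_le_left)
    have hcomm : ∀ u ∈ P₁, ∀ v ∈ P₁, u * v * u⁻¹ * v⁻¹ ∈ Z := by
      intro u hu v hv
      by_cases huz : v ∈ Z
      · obtain ⟨j, rfl⟩ := huz
        rw [((hzc u hu).zpow_right j).eq, mul_inv_cancel_right, mul_inv_cancel]
        exact one_mem _
      have hv1 : v ≠ 1 := fun e => huz (e ▸ one_mem _)
      have hcn : Subgroup.zpowers v ≤ Subgroup.normalizer (Z : Set G) := fun w hw =>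
        Subgroup.centralizer_le_normalizer _ (Subgroup.mem_centralizer_iff.2 fun w' hw' => by
          obtain ⟨i, rfl⟩ := hw
          obtain ⟨j, rfl⟩ := hw'
          exact ((hzc v hv).symm.zpow_zpow j i).eq)
      have hcz : Z ≤ Subgroup.centralizer (Subgroup.zpowers v : Set G) := by
        intro w hw
        refine Subgroup.mem_centralizer_iff.2 fun w' hw' => ?_
        obtain ⟨i, rfl⟩ := hw
        obtain ⟨j, rfl⟩ := hw'
        exact ((hzc v hv).zpow_zpow j i).eq
      set A := Z ⊔ Subgroup.zpowers v with hA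
      have hAe : Cfsg.IsElementaryAbelian p A := SCN.elemAb_sup
        (PGroups.elemAb_zpowers (hexp z hz)) (PGroups.elemAb_zpowers (hexp v hv)) hcz
      have hAP : A ≤ P₁ := sup_le (Subgroup.zpowers_le.2 hz) (Subgroup.zpowers_le.2 hv)
      have hAc : Nat.card A = p ^ 2 := by
        rw [hA, sup_comm, Coprime.card_sup_of_disjoint hcn, Nat.card_zpowers, hZ, Nat.card_zpowers,
          orderOf_eq_prime (hexp z hz) hz1, orderOf_eq_prime (hexp v hv) hv1, sq]
        rw [disjoint_iff, eq_bot_iff]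
        intro w hw
        rw [Subgroup.mem_bot]
        by_contra hw1
        refine huz ?_
        have h1 : Subgroup.zpowers w = Subgroup.zpowers v := by
          refine Subgroup.eq_of_le_of_card_ge (Subgroup.zpowers_le.2 hw.1) ?_
          rw [Nat.card_zpowers, Nat.card_zpowers, orderOf_eq_prime (hexp v hv) hv1,
            orderOf_eq_prime (hexp w (Subgroup.zpowers_le.2 hv hw.1)) hw1]
        exact Subgroup.zpowers_le.2 hw.2 (h1 ▸ Subgroup.mem_zpowers v)
      have hAn : P₁ ≤ Subgroup.normalizer (A : Set G) := by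
        rcases eq_or_ne A P₁ with e | e
        · exact e ▸ Subgroup.le_normalizer
        have hlt2 := Sigma.exists_gt_inf_normalizer hP₁p (lt_of_le_of_ne hAP e)
        obtain ⟨n, -, hn⟩ := (Nat.dvd_prime_pow hp.out).1
          (hP₁c ▸ Subgroup.card_dvd_of_le
            (inf_le_left : P₁ ⊓ Subgroup.normalizer (A : Set G) ≤ P₁))
        have hc1 : Nat.card A < Nat.card ↥(P₁ ⊓ Subgroup.normalizer (A : Set G)) :=
          lt_of_le_of_ne (Subgroup.card_le_of_le hlt2.le)
            fun e => hlt2.ne (Subgroup.eq_of_le_of_card_ge hlt2.le e.ge)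
        rw [hAc, hn, Nat.pow_lt_pow_iff_right hp.out.one_lt] at hc1
        exact inf_eq_left.1 (Subgroup.eq_of_le_of_card_ge inf_le_left (by
          rw [hP₁c, hn]; exact Nat.pow_le_pow_right hp.out.pos hc1))
      obtain ⟨k, hk⟩ := hP₁p ⟨u, hu⟩
      obtain ⟨i, hi⟩ := Sylow.exists_step hAe hAc (Subgroup.mem_sup_left (Subgroup.mem_zpowers z))
        hz1 (k := k) (by simpa using congrArg Subtype.val hk) (hAn hu) (hzc u hu)
        (Subgroup.mem_sup_right (Subgroup.mem_zpowers v))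
      rw [hi, mul_inv_cancel_right]
      exact ⟨i, rfl⟩
    haveI hP'c : IsMulCommutative P' := by
      refine Abelian.isMulCommutative_of_forall ?_
      rintro _ ⟨u, hu, rfl⟩ _ ⟨v, hv, rfl⟩
      refine commutatorElement_eq_one_iff_mul_comm.1 ?_
      rw [← map_commutatorElement]
      exact (QuotientGroup.eq_one_iff _).2 (hcomm u hu v hv)
    have hP'nc : ¬ IsCyclic P' := by
      intro hc
      obtain ⟨⟨_, w, hw, rfl⟩, hgen⟩ := hc.exists_generator
      -- then `P₁ = Z⟨w⟩` is abelian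
      refine hxz (hcen x hx fun b hb => ?_)
      have hpow : ∀ u ∈ P₁, ∃ j : ℤ, u * (w : G) ^ j ∈ Z := by
        intro u hu
        obtain ⟨j, hj⟩ := hgen ⟨π ⟨u, hPH hu⟩, Subgroup.mem_map_of_mem π hu⟩
        refine ⟨-j, ?_⟩
        have h1 : π (⟨u, hPH hu⟩ * w ^ (-j)) = 1 := by
          rw [map_mul, map_zpow, zpow_neg, mul_inv_eq_one]
          exact (congrArg Subtype.val hj).symm
        exact (QuotientGroup.eq_one_iff ((⟨u, hPH hu⟩ : H) * w ^ (-j))).1 h1
      obtain ⟨i, a, ha⟩ := hpow x hx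
      obtain ⟨j, c, hc'⟩ := hpow b hb
      simp only at ha hc'
      have hzw : Commute z (w : G) := (hzc w hw).symm
      have ex : x = z ^ a * ((w : G) ^ i)⁻¹ := by rw [ha, mul_inv_cancel_right]
      have eb : b = z ^ c * ((w : G) ^ j)⁻¹ := by rw [hc', mul_inv_cancel_right]
      rw [ex, eb]
      exact ((((Commute.refl z).zpow_zpow c a).mul_right
        ((hzw.zpow_zpow c i).inv_right))).mul_left
        ((((hzw.symm.zpow_zpow j a).inv_left)).mul_right
          (((Commute.refl (w : G)).zpow_zpow j i).inv_inv))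
    haveI : Group.IsSolvable B' := by
      haveI : Group.IsSolvable (B.subgroupOf H) :=
        haveI : Group.IsSolvable B := Coprime.isSolvable_of_le (inf_le_left.trans hKM)
        Group.isSolvable_of_isSolvable_injective
          (f := (Subgroup.subgroupOfEquivOfLe hBH).toMonoidHom) (Subgroup.subgroupOfEquivOfLe hBH).injective
      exact Coprime.isSolvable_map π _
    intro b hb
    have hb' : π ⟨b, hBH hb⟩ ∈ B' := Subgroup.mem_map_of_mem π hb
    rw [← Coprime.iSup_centralizer_eq hP'nc hP'B hcop'] at hb'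
    have hle : (⨆ a ∈ {a | a ∈ P' ∧ a ≠ 1}, B' ⊓ Subgroup.centralizer ({a} : Set (H ⧸ N))) ≤
        ((B ⊓ L).subgroupOf H).map π := by
      refine iSup₂_le fun a ha => ?_
      obtain ⟨⟨v, hv, rfl⟩, hv1⟩ := ha
      have hvz : (v : G) ∉ Z := fun h => hv1 ((QuotientGroup.eq_one_iff v).2 h)
      rintro _ ⟨⟨u, hu, rfl⟩, hc⟩
      refine Subgroup.mem_map_of_mem π (show (u : G) ∈ B ⊓ L from ⟨hu, hout v hv hvz ?_⟩)
      have h1 : π ⁅u, v⁆ = 1 := by
        rw [map_commutatorElement, commutatorElement_eq_one_iff_mul_comm]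
        exact Subgroup.mem_centralizer_singleton_iff.1 hc
      have h2 : ⁅(u : G), (v : G)⁆ ∈ B ⊓ Z := by
        refine ⟨?_, (QuotientGroup.eq_one_iff ⁅u, v⁆).1 h1⟩
        rw [commutatorElement_def,
          show (u : G) * v * (u : G)⁻¹ * (v : G)⁻¹ = u * ((v : G) * (u : G)⁻¹ * (v : G)⁻¹) by group]
        exact B.mul_mem hu ((Subgroup.mem_normalizer_iff.1 (hPB hv) _).1 (B.inv_mem hu))
      rw [OddOrder.Basic.inf_eq_bot_of_coprime ((hcop.coprime_dvd_left
        (Subgroup.card_dvd_of_le (Subgroup.zpowers_le.2 hz))).coprime_dvd_right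
        (Subgroup.card_dvd_of_le inf_le_left)).symm, Subgroup.mem_bot] at h2
      exact Subgroup.mem_centralizer_singleton_iff.2 (commutatorElement_eq_one_iff_mul_comm.1 h2)
    obtain ⟨u, hu, hub⟩ := hle hb'
    have h3 : ((u : G))⁻¹ * b ∈ B ⊓ Z :=
      ⟨B.mul_mem (B.inv_mem hu.1) hb,
        (QuotientGroup.eq (s := N) (a := u) (b := ⟨b, hBH hb⟩)).1 hub⟩
    rw [OddOrder.Basic.inf_eq_bot_of_coprime ((hcop.coprime_dvd_left
      (Subgroup.card_dvd_of_le (Subgroup.zpowers_le.2 hz))).coprime_dvd_right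
      (Subgroup.card_dvd_of_le inf_le_left)).symm, Subgroup.mem_bot, inv_mul_eq_one] at h3
    exact h3 ▸ hu.2
  -- generation
  set A := Subgroup.zpowers z ⊔ Subgroup.zpowers x with hA
  have hAP : A ≤ P₁ := sup_le (Subgroup.zpowers_le.2 hz) (Subgroup.zpowers_le.2 hx)
  have hAe : Cfsg.IsElementaryAbelian p A := SCN.elemAb_sup
    (PGroups.elemAb_zpowers (hexp z hz)) (PGroups.elemAb_zpowers (hexp x hx)) (by
      intro v hv
      refine Subgroup.mem_centralizer_iff.2 fun w hw => ?_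
      obtain ⟨i, rfl⟩ := hv
      obtain ⟨j, rfl⟩ := hw
      exact ((hzc x hx).zpow_zpow j i).eq)
  have hAnc : ¬ IsCyclic A := Rank.elemAb_not_isCyclic hAe (by
    have hlt : Subgroup.zpowers z < A := lt_of_le_of_ne le_sup_left fun e => hxz (by
      rw [e]; exact Subgroup.mem_sup_right (Subgroup.mem_zpowers x))
    rw [← orderOf_eq_prime (hexp z hz) hz1, ← Nat.card_zpowers]
    exact lt_of_le_of_ne (Subgroup.card_le_of_le hlt.le)
      fun e => hlt.ne (Subgroup.eq_of_le_of_card_ge hlt.le e.ge))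
  haveI := hAe.1
  haveI : Group.IsSolvable K := Coprime.isSolvable_of_le hKM
  have hKL : K ≤ L := by
    refine (Coprime.iSup_centralizer_eq hAnc (hAP.trans hP₁K)
      (hcop.coprime_dvd_left (Subgroup.card_dvd_of_le hAP))).ge.trans (iSup₂_le fun a ha => ?_)
    by_cases haz : a ∈ Subgroup.zpowers z
    · refine le_trans (inf_le_inf_left _ ?_) hBL
      intro w hw
      have heq : Subgroup.zpowers a = Subgroup.zpowers z := by
        refine Subgroup.eq_of_le_of_card_ge (Subgroup.zpowers_le.2 haz) ?_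
        rw [Nat.card_zpowers, Nat.card_zpowers, orderOf_eq_prime (hexp z hz) hz1,
          orderOf_eq_prime (hAe.2 a ha.1) ha.2]
      obtain ⟨j, hj⟩ := (heq ▸ Subgroup.mem_zpowers z : z ∈ Subgroup.zpowers a)
      exact Subgroup.mem_centralizer_singleton_iff.2 (hj ▸
        (Commute.zpow_right (Subgroup.mem_centralizer_singleton_iff.1 hw : Commute w a) j).eq)
    · exact inf_le_right.trans (hout a (hAP ha.1) haz)
  have hidx : ¬ p ∣ (S : Subgroup G).relIndex M := fun h =>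
    S.not_dvd_index (h.trans (Subgroup.relIndex_mul_index hSM ▸ dvd_mul_right _ _))
  exact (RankTwoKey.sup_normalizer_of_pLength_one (X := M)
    (PLengthOne.of_ne_top hG p M hM.1) hSM S.2 hidx).ge.trans
    (sup_le hKL (inf_le_right.trans hNL))

/-- Two maximal subgroups over a nonabelian Sylow subgroup coincide. -/
theorem eq_of_sylow (hG : Cfsg.IsMinSimpleOddOrder G) {M L : Subgroup G} (hM : IsCoatom M)
    (hL : IsCoatom L) (S : Sylow p G) (hna : ¬ IsMulCommutative (S : Subgroup G))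
    (hSM : (S : Subgroup G) ≤ M) (hSL : (S : Subgroup G) ≤ L) : M = L := by
  have hnc := not_isCyclic_of_nonabelian hna
  have hσM := mem_sigma hG hM S.2 hna hSM
  have hσL := mem_sigma hG hL S.2 hna hSL
  have hNM := SigmaEmbedding.normalizer_le_of_not_isCyclic hG hM hσM S.2 hSM hnc
  have hNL := SigmaEmbedding.normalizer_le_of_not_isCyclic hG hL hσL S.2 hSL hnc
  by_cases hr : Cfsg.PRankLE p 2 (S : Subgroup G)
  swap
  · exact UniqueRank.eq_of_le
      (UniquenessTheorem.of_rank hG (pgroup_ne_top hG S.2) fun h => hr (h p hp.out)) hM hSM hL hSL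
  rcases SylowNormalizer.structure_rank_two hG (fun H hH => PLengthOne.of_ne_top hG p H hH) S hr
    with hab | ⟨P₁, P₂, hsup, hcomm, hnab, hc1, hexp₁, hcyc, hΩ⟩
  · exact absurd hab hna
  have hP₁S : P₁ ≤ (S : Subgroup G) := hsup ▸ le_sup_left
  have hexp : ∀ b ∈ P₁, b ^ p = 1 := by
    intro b hb
    have := Monoid.pow_exponent_eq_one (⟨b, hb⟩ : P₁)
    rw [hexp₁] at this
    exact congrArg Subtype.val this
  have hP₁p : IsPGroup p P₁ := S.2.to_le hP₁S
  haveI : Nontrivial P₁ := (Subgroup.nontrivial_iff_ne_bot _).2 fun e => by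
    rw [e, Subgroup.card_bot] at hc1
    exact (Nat.one_lt_pow (by norm_num) hp.out.one_lt).ne hc1
  haveI := hP₁p.center_nontrivial
  obtain ⟨⟨⟨z, hz⟩, hzc'⟩, hz1'⟩ := exists_ne (1 : Subgroup.center P₁)
  have hz1 : z ≠ 1 := fun e => hz1' (Subtype.ext (Subtype.ext e))
  have hzc : ∀ b ∈ P₁, Commute b z := fun b hb =>
    congrArg Subtype.val (Subgroup.mem_center_iff.1 hzc' ⟨b, hb⟩)
  have hP₂c : ∀ x ∈ P₁, (∀ b ∈ P₁, Commute b x) → x ∈ P₂ := fun x hx hxc => by
    have hm : x ∈ P₁ ⊓ Subgroup.centralizer (P₁ : Set G) :=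
      ⟨hx, Subgroup.mem_centralizer_iff.2 fun b hb => (hxc b hb).eq⟩
    rw [← hΩ] at hm
    exact (Subgroup.closure_le P₂).2 (fun y hy => hy.1) hm
  have hcen : ∀ x ∈ P₁, (∀ b ∈ P₁, Commute b x) → x ∈ Subgroup.zpowers z := by
    intro x hx hxc
    haveI := hcyc
    by_cases hx1 : x = 1
    · exact hx1 ▸ one_mem _
    have hzo := orderOf_eq_prime (hexp z hz) hz1
    have h1 := OddOrder.Cyclic.eq_of_card_eq_of_isCyclic (W := P₂)
      (Subgroup.zpowers_le.2 (hP₂c x hx hxc)) (Subgroup.zpowers_le.2 (hP₂c z hz hzc)) (by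
        rw [Nat.card_zpowers, Nat.card_zpowers, hzo, orderOf_eq_prime (hexp x hx) hx1])
    exact h1 ▸ Subgroup.mem_zpowers x
  set D := fun K : Subgroup G => ∀ A : Subgroup G, A ≤ P₁ → Cfsg.IsElementaryAbelian p A →
    Nat.card A = p ^ 2 → RankTwoCentralizer.Good p K A
  -- a maximal subgroup without the property is `N(S)`
  have hbad : ∀ {K K' : Subgroup G}, IsCoatom K → IsCoatom K' → (S : Subgroup G) ≤ K →
      Subgroup.normalizer ((S : Subgroup G) : Set G) ≤ K' → ¬ D K → K = K' := by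
    intro K K' hK hK' hSK hNK' hD
    simp only [D, not_forall] at hD
    obtain ⟨A, hAP, hA, hAc, hbad⟩ := hD
    obtain ⟨-, h2⟩ := RankTwoCentralizer.spec hG (fun q _ => PLengthOne.of_ne_top hG q) hK
      (hAP.trans (hP₁S.trans hSK)) hA hAc
    obtain ⟨hσ, -, hnil⟩ := h2 hbad
    have hn := RankTwoCentralizer.le_normalizer_of_nilpotent hnil
      (Basic.le_normalizer_sigmaCore K) S (Basic.pgroup_le_sigmaCore hG hK hσ S.2 hSK)
    rcases hK.le_iff.1 (hn.trans hNK') with e | e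
    · exact absurd e hK'.1
    · exact e.symm
  by_cases hDM : D M
  swap
  · exact hbad hM hL hSM hNL hDM
  by_cases hDL : D L
  swap
  · exact (hbad hL hM hSL hNM hDL).symm
  by_cases hzL : Subgroup.normalizer (Subgroup.zpowers z : Set G) ≤ L ∧
      ∀ L' : Subgroup G, IsCoatom L' →
        Subgroup.normalizer (Subgroup.zpowers z : Set G) ≤ L' → L' = L
  swap
  · rcases hM.le_iff.1 (le_of_not_good hG hM S hSM hNL hP₁S hexp hc1 hz hz1 hzc hcen
      fun x hx hxz => centralizer_le_of_not_good (hP₁S.trans hSL) hexp hP₁p hc1 hz hz1 hzc hcen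
        hDL (fun A₀ e hN hu => hzL ⟨e ▸ hN, e ▸ hu⟩) hx hxz) with e | e
    · exact absurd e hL.1
    · exact e.symm
  by_cases hzM : Subgroup.normalizer (Subgroup.zpowers z : Set G) ≤ M ∧
      ∀ L' : Subgroup G, IsCoatom L' →
        Subgroup.normalizer (Subgroup.zpowers z : Set G) ≤ L' → L' = M
  swap
  · rcases hL.le_iff.1 (le_of_not_good hG hL S hSL hNM hP₁S hexp hc1 hz hz1 hzc hcen
      fun x hx hxz => centralizer_le_of_not_good (hP₁S.trans hSM) hexp hP₁p hc1 hz hz1 hzc hcen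
        hDM (fun A₀ e hN hu => hzM ⟨e ▸ hN, e ▸ hu⟩) hx hxz) with e | e
    · exact absurd e hM.1
    · exact e
  exact hzL.2 M hM hzM.1

/-- BG 12.13. -/
theorem inUniqueMaximal (hG : Cfsg.IsMinSimpleOddOrder G) {P : Subgroup G} (hP : IsPGroup p P)
    (hna : ¬ IsMulCommutative P) : Cfsg.InUniqueMaximal P := by
  suffices key : ∀ (n : ℕ) (P : Subgroup G), Nat.card G - Nat.card P = n → IsPGroup p P →
      ¬ IsMulCommutative P → ∀ M L : Subgroup G, IsCoatom M → IsCoatom L → P ≤ M → P ≤ L →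
      M = L by
    obtain ⟨M, hM, hPM⟩ := exists_coatom_ge hG (pgroup_ne_top hG hP)
    exact ⟨M, ⟨hM, hPM⟩, fun L hL => key _ P rfl hP hna L M hL.1 hM hL.2 hPM⟩
  intro n
  induction n using Nat.strong_induction_on with
  | _ n ih =>
  intro P hn hP hna M L hM hL hPM hPL
  have hnc := not_isCyclic_of_nonabelian hna
  have hσM := mem_sigma hG hM hP hna hPM
  have hNL := SigmaEmbedding.normalizer_le_of_not_isCyclic hG hL (mem_sigma hG hL hP hna hPL) hP
    hPL hnc
  obtain ⟨S, hPS, hSM, -⟩ := Sigma.exists_sylow_ge hσM hP hPM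
  rcases eq_or_ne P (S : Subgroup G) with e | hne
  · subst e
    exact eq_of_sylow hG hM hL S hna hPM hPL
  have hlt := Sigma.exists_gt_inf_normalizer S.2 (lt_of_le_of_ne hPS hne)
  refine ih _ ?_ _ rfl (S.2.to_le inf_le_left) (fun hc => hna ?_) M L hM hL
    (inf_le_left.trans hSM) (inf_le_right.trans hNL)
  · rw [← hn]
    have h1 : Nat.card P < Nat.card ↥((S : Subgroup G) ⊓ Subgroup.normalizer (P : Set G)) :=
      lt_of_le_of_ne (Subgroup.card_le_of_le hlt.le)
        fun e => hlt.ne (Subgroup.eq_of_le_of_card_ge hlt.le e.ge)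
    have h2 := Nat.le_of_dvd Nat.card_pos
      (((S : Subgroup G) ⊓ Subgroup.normalizer (P : Set G)).card_subgroup_dvd_card)
    omega
  · haveI := hc
    exact Abelian.isMulCommutative_of_forall fun a ha b hb =>
      congrArg Subtype.val (hc.is_comm.comm ⟨a, hlt.le ha⟩ ⟨b, hlt.le hb⟩)

end Cfsg.Agent.Lib.OddTau.Nonabelian
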