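import Cfsg.Agent.Lib.OddTau.Basic

/-!
# BG 11.1 and the fixed-point-free conjugates

If `g ∉ M` and `A ≤ gMg⁻¹` then `M_σ ∩ gMg⁻¹ = 1`; consequently `M_σ` has an operator of order
`p` without fixed points and is nilpotent.
-/

set_option autoImplicit false
set_option linter.style.haveILetI false
set_option linter.unusedSectionVars false

open scoped Pointwise commutatorElement

namespace Cfsg.Agent.Lib.OddTau.Exceptional

open Cfsg.Agent.Lib.OddOrder Cfsg.Agent.Lib.OddOrder.MinSimple Cfsg.Agent.Lib.OddTau.Basic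

universe u

variable {G : Type u} [Group G] [Finite G] {p : ℕ} [hp : Fact p.Prime] {M A : Subgroup G}

theorem mem_conj {g x : G} {H : Subgroup G} :
    x ∈ H.map (MulAut.conj g).toMonoidHom ↔ g⁻¹ * x * g ∈ H := by
  constructor
  · rintro ⟨y, hy, rfl⟩
    show g⁻¹ * (g * y * g⁻¹) * g ∈ H
    rwa [show g⁻¹ * (g * y * g⁻¹) * g = y by group]
  · intro h
    exact ⟨_, h, by show g * (g⁻¹ * x * g) * g⁻¹ = x; group⟩

theorem le_normalizer_conj {g : G} {X Q : Subgroup G} (h : X ≤ Subgroup.normalizer (Q : Set G)) :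
    X.map (MulAut.conj g).toMonoidHom ≤
      Subgroup.normalizer ((Q.map (MulAut.conj g).toMonoidHom : Subgroup G) : Set G) :=
  (Subgroup.map_mono h).trans (Subgroup.le_normalizer_map _)

/-- Another subgroup of type `(p, p)` of `M` satisfies the same hypothesis. -/
theorem ctx_conj (h : Ctx M p A) {g : G} (hg : A.map (MulAut.conj g).toMonoidHom ≤ M) :
    Ctx M p (A.map (MulAut.conj g).toMonoidHom) :=
  ⟨h.min, h.max, h.tau, hg, PGroups.elemAb_conj g h.elem, by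
    rw [Subgroup.card_map_of_injective (MulAut.conj g).injective, h.card]⟩

/-- For `q ∈ σ(M)` the normalizer of a Sylow subgroup of `G` in `M` lies in `M`. -/
theorem normalizer_sylow_le {q : ℕ} [Fact q.Prime] (hqσ : q ∈ Cfsg.sigma M) (S : Sylow q G)
    (hSM : (S : Subgroup G) ≤ M) : Subgroup.normalizer ((S : Subgroup G) : Set G) ≤ M := by
  have := Sigma.normalizer_le hqσ (S.subtype hSM)
  rwa [Sylow.coe_subtype, Subgroup.map_subgroupOf_eq_of_le hSM] at this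

/-- BG 11.1(a). -/
theorem inf_conj_eq_bot (h : Ctx M p A) {g : G} (hg : g ∉ M)
    (hA : A ≤ M.map (MulAut.conj g).toMonoidHom) :
    Cfsg.sigmaCore M ⊓ M.map (MulAut.conj g).toMonoidHom = ⊥ := by
  by_contra hne
  set D := Cfsg.sigmaCore M ⊓ M.map (MulAut.conj g).toMonoidHom with hD
  have hAD : A ≤ Subgroup.normalizer (D : Set G) :=
    Coprime.le_normalizer_inf h.le_normalizer (hA.trans Subgroup.le_normalizer)
  haveI hσs := isSolvable_sigmaCore h.min h.max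
  obtain ⟨q, hq, hqd⟩ := Nat.exists_prime_and_dvd fun e => hne (Subgroup.card_eq_one.1 e)
  haveI := Fact.mk hq
  have hqσ : q ∈ Cfsg.sigma M :=
    mem_sigma_of_dvd hq (hqd.trans (Subgroup.card_dvd_of_le inf_le_left))
  have hqp := h.ne_of_sigma hqσ
  have hqA := h.not_dvd hq hqp
  obtain ⟨T, hAT⟩ := Coprime.exists_invariant_sylow hAD
    (h.coprime.coprime_dvd_right (Subgroup.card_dvd_of_le inf_le_left))
    (Or.inr (Coprime.isSolvable_of_le inf_le_left)) q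
  set Q := (T : Subgroup D).map D.subtype with hQ
  have hQp : IsPGroup q Q := T.2.map D.subtype
  have hQD : Q ≤ D := Subgroup.map_subtype_le _
  have hQM : Q ≤ M := hQD.trans (inf_le_left.trans (sigmaCore_le M))
  have hQ1 : Q ≠ ⊥ := by
    rw [hQ, Ne, Subgroup.map_eq_bot_iff_of_injective _ D.subtype_injective]
    exact T.ne_bot_of_dvd_card hqd
  obtain ⟨S₁, hQS₁, hS₁σ, hAS₁⟩ := h.exists_sylow hqσ hQp hQM hAT
  have hA' : A.map (MulAut.conj g⁻¹).toMonoidHom ≤ M := by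
    rintro _ ⟨a, ha, rfl⟩
    have := mem_conj.1 (hA ha)
    show g⁻¹ * a * g⁻¹⁻¹ ∈ M
    rwa [inv_inv]
  have h' := ctx_conj h hA'
  obtain ⟨S', hQS', hS'σ, hAS'⟩ := h'.exists_sylow hqσ (hQp.map (MulAut.conj g⁻¹).toMonoidHom)
    (by
      rintro _ ⟨x, hx, rfl⟩
      have := mem_conj.1 (hQD hx).2
      show g⁻¹ * x * g⁻¹⁻¹ ∈ M
      rwa [inv_inv])
    (le_normalizer_conj hAT)
  set S₂ : Sylow q G := g • S' with hS₂
  have hS₂e : (S₂ : Subgroup G) = (S' : Subgroup G).map (MulAut.conj g).toMonoidHom := by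
    rw [hS₂, Sylow.coe_subgroup_smul]; rfl
  have hAS₂ : A ≤ Subgroup.normalizer ((S₂ : Subgroup G) : Set G) := by
    rw [hS₂e]
    intro a ha
    refine le_normalizer_conj hAS' ⟨g⁻¹ * a * g, ⟨a, ha, ?_⟩, ?_⟩
    · show g⁻¹ * a * g⁻¹⁻¹ = _
      rw [inv_inv]
    · show g * (g⁻¹ * a * g) * g⁻¹ = a
      group
  have hQS₂ : Q ≤ (S₂ : Subgroup G) := by
    rw [hS₂e]
    intro x hx
    refine mem_conj.2 (hQS' ⟨x, hx, ?_⟩)
    show g⁻¹ * x * g⁻¹⁻¹ = _
    rw [inv_inv]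
  obtain ⟨k, hk, hkS⟩ := Transitivity.conj_of_meet h.min h.transitivity hqA
    (h.sylow_mem_max hAS₁) (h.sylow_mem_max hAS₂)
    (normalizer_ne_top h.min hQ1 (pgroup_ne_top h.min hQp)) hAT
    (ne_bot_of_le_ne_bot hQ1 (le_inf Subgroup.le_normalizer hQS₁))
    (ne_bot_of_le_ne_bot hQ1 (le_inf Subgroup.le_normalizer hQS₂))
  have hS₂M : (S₂ : Subgroup G) ≤ M := by
    rw [hkS]
    rintro _ ⟨x, hx, rfl⟩
    exact mul_mem (mul_mem (h.coreC_le hk) (sigmaCore_le M (hS₁σ hx))) (inv_mem (h.coreC_le hk))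
  obtain ⟨m, hm, c, hc, he⟩ := Sigma.fusion h.min h.max hqσ _ (S₂ : Subgroup G) rfl S₂.2
    (ne_bot_of_le_ne_bot hQ1 hQS₂) hS₂M g⁻¹ (by
      rintro _ ⟨x, hx, rfl⟩
      rw [hS₂e] at hx
      have := sigmaCore_le M (hS'σ (mem_conj.1 hx))
      show g⁻¹ * x * g⁻¹⁻¹ ∈ M
      rwa [inv_inv])
  have : g⁻¹ ∈ M := he ▸ mul_mem hm (normalizer_sylow_le hqσ S₂ hS₂M
    (Transitivity.centralizer_le_normalizer _ hc))
  exact hg (inv_mem_iff.1 this)

/-- BG 11.1(b). -/
theorem fixed_eq_bot (h : Ctx M p A) {g : G} (hg : g ∉ M)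
    (hA : A ≤ M.map (MulAut.conj g).toMonoidHom) {a : G}
    (ha : Subgroup.centralizer ({a} : Set G) ≤ M) :
    Cfsg.sigmaCore M ⊓ Subgroup.centralizer ({g * a * g⁻¹} : Set G) = ⊥ := by
  refine le_bot_iff.1 ((inf_le_inf_left _ ?_).trans (inf_conj_eq_bot h hg hA).le)
  rw [← SigmaComplement.map_centralizer_singleton]
  exact Subgroup.map_mono ha

/-- An element of `A` whose centralizer lies in `M`, with a normalizer condition. -/
theorem exists_good (h : Ctx M p A) :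
    ∃ a ∈ A, a ≠ 1 ∧ Subgroup.normalizer (Subgroup.zpowers a : Set G) ≤ M ∧
      Subgroup.centralizer ({a} : Set G) ≤ M := by
  obtain ⟨A₀, hle, hc, hN, -⟩ := h.good
  obtain ⟨a, ha, ha1⟩ := A₀.bot_or_exists_ne_one.resolve_left fun e => by
    rw [e, Subgroup.card_bot] at hc
    exact hp.out.ne_one hc.symm
  have hz : Subgroup.zpowers a = A₀ := Subgroup.eq_of_le_of_card_ge (Subgroup.zpowers_le.2 ha) (by
    rw [Nat.card_zpowers, h.orderOf_eq (hle ha) ha1, hc])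
  refine ⟨a, hle ha, ha1, hz.symm ▸ hN, le_trans ?_ hN⟩
  rw [← hz]
  intro x hx
  refine Transitivity.centralizer_le_normalizer _ (Subgroup.mem_centralizer_iff.2 ?_)
  rintro _ ⟨i, rfl⟩
  exact (Commute.zpow_right (Subgroup.mem_centralizer_singleton_iff.1 hx : Commute x a) i).eq.symm

theorem exists_sylow_p (h : Ctx M p A) :
    ∃ P : Sylow p M, A ≤ (P : Subgroup M).map M.subtype := by
  obtain ⟨P, hP⟩ := (h.isPGroup.comap_subtype (K := M)).exists_le_sylow
  exact ⟨P, fun x hx => ⟨⟨x, h.le hx⟩, hP (show (⟨x, h.le hx⟩ : M) ∈ A.comap M.subtype from hx),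
    rfl⟩⟩

theorem normalizer_not_le (h : Ctx M p A) (P : Sylow p M) :
    ¬ Subgroup.normalizer ((((P : Subgroup M).map M.subtype : Subgroup G)) : Set G) ≤ M :=
  fun hle => h.not_sigma ⟨hp.out, h.dvd_card.trans (Subgroup.card_dvd_of_le h.le), P, hle⟩

theorem isNilpotent_sigmaCore (h : Ctx M p A) : Group.IsNilpotent (Cfsg.sigmaCore M) := by
  obtain ⟨P, hAP⟩ := exists_sylow_p h
  obtain ⟨g, hg, hgM⟩ := SetLike.not_le_iff_exists.1 (normalizer_not_le h P)
  obtain ⟨a, ha, -, -, haC⟩ := exists_good h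
  set P₀ := (P : Subgroup M).map M.subtype with hP₀
  have hA : A ≤ M.map (MulAut.conj g).toMonoidHom := fun x hx => mem_conj.2
    (Subgroup.map_subtype_le _ ((Subgroup.mem_normalizer_iff''.1 hg x).1 (hAP hx)))
  have hgaM : g * a * g⁻¹ ∈ M :=
    Subgroup.map_subtype_le _ ((Subgroup.mem_normalizer_iff.1 hg a).1 (hAP ha))
  refine isNilpotent_of_fpf (p := p) (isSolvable_sigmaCore h.min h.max)
    (le_normalizer_sigmaCore M hgaM) ?_ (fixed_eq_bot h hgM hA haC)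
  rw [conj_pow, h.elem.2 a ha, mul_one, mul_inv_cancel]

/-- A Sylow subgroup of `G` in `M_σ` is normal in `M`. -/
theorem le_normalizer_sylow (h : Ctx M p A) {q : ℕ} [Fact q.Prime] {S : Sylow q G}
    (hS : (S : Subgroup G) ≤ Cfsg.sigmaCore M) :
    M ≤ Subgroup.normalizer ((S : Subgroup G) : Set G) :=
  RankTwoCentralizer.le_normalizer_of_nilpotent (isNilpotent_sigmaCore h)
    (le_normalizer_sigmaCore M) S hS

theorem normalizer_sylow_eq (h : Ctx M p A) {q : ℕ} [Fact q.Prime] (hqσ : q ∈ Cfsg.sigma M)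
    {S : Sylow q G} (hS : (S : Subgroup G) ≤ Cfsg.sigmaCore M) :
    Subgroup.normalizer ((S : Subgroup G) : Set G) = M :=
  le_antisymm (normalizer_sylow_le hqσ S (hS.trans (sigmaCore_le M))) (le_normalizer_sylow h hS)

theorem exists_sigma_prime (hG : Cfsg.IsMinSimpleOddOrder G) (hM : IsCoatom M) :
    ∃ q : ℕ, ∃ _ : Fact q.Prime, q ∈ Cfsg.sigma M ∧ q ∣ Nat.card M := by
  by_cases hα : Cfsg.alphaCore M = ⊥
  · obtain ⟨q, hq, hqσ, -⟩ := RankTwoCentralizer.exists_normal_sylow hG hM hα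
    exact ⟨q, hq, hqσ, hqσ.2.1⟩
  · obtain ⟨q, hq, hd⟩ := Nat.exists_prime_and_dvd fun e => hα (Subgroup.card_eq_one.1 e)
    obtain ⟨⟨-, hπ, -⟩, -, -, -, -⟩ := AlphaCore.alphaCore_spec hG hM
    have hqσ := AlphaCore.alpha_subset_sigma hG hM (hπ q hq hd)
    exact ⟨q, ⟨hq⟩, hqσ, hqσ.2.1⟩

end Cfsg.Agent.Lib.OddTau.Exceptional
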