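import Cfsg.Agent.Lib.OddTau.Sylow

/-!
# BG 12.5(b): the Sylow `p`-subgroups of `M` are abelian
-/

set_option autoImplicit false
set_option linter.style.haveILetI false
set_option linter.unusedSectionVars false

open scoped Pointwise commutatorElement

namespace Cfsg.Agent.Lib.OddTau.Abelian

open Cfsg.Agent.Lib.OddOrder Cfsg.Agent.Lib.OddOrder.MinSimple Cfsg.Agent.Lib.OddTau.Basic
  Cfsg.Agent.Lib.OddTau.Exceptional Cfsg.Agent.Lib.OddTau.Sylow

universe u

variable {G : Type u} [Group G] [Finite G] {p : ℕ} [hp : Fact p.Prime]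

theorem isMulCommutative_of_forall {H : Subgroup G} (h : ∀ a ∈ H, ∀ b ∈ H, Commute a b) :
    IsMulCommutative H := ⟨⟨fun a b => Subtype.ext (h a a.2 b b.2)⟩⟩

variable {M A : Subgroup G}

/-- If `A` is normal in the `p`-group `S` with central `z ∈ A` then `S` has rank at most two. -/
theorem prankLE_of_normal (h : Ctx M p A) {S : Subgroup G}
    (hSA : S ≤ Subgroup.normalizer (A : Set G)) {z : G} (hzA : z ∈ A) (hz1 : z ≠ 1)
    (hzC : ∀ x ∈ S, Commute x z) : Cfsg.PRankLE p 2 S := by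
  by_contra hr
  obtain ⟨E, hES, hE, hEc⟩ := Rank.exists_elemAb_of_not_prankLE hr
  by_cases hEC : E ≤ Subgroup.centralizer (A : Set G)
  · exact absurd (Subgroup.card_le_of_le (fun x hx => mem_of_centralizes h (hEC hx) (hE.2 x hx) :
      E ≤ A)) (by rw [h.card]; exact not_le.2 hEc)
  obtain ⟨e₁, he₁, he₁C⟩ := SetLike.not_le_iff_exists.1 hEC
  set E₀ := E ⊓ Subgroup.centralizer (A : Set G) with hE₀
  have hE₀A : E₀ ≤ A := fun x hx => mem_of_centralizes h hx.2 (hE.2 x hx.1)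
  have hE₀lt : E₀ < A := lt_of_le_of_ne hE₀A fun e => he₁C (Subgroup.mem_centralizer_iff.2
    fun a ha => PGroups.elemAb_comm hE ((e ▸ ha : a ∈ E₀)).1 he₁)
  have hE₀c : Nat.card E₀ ≤ p := by
    obtain ⟨j, hj, hjc⟩ := (Nat.dvd_prime_pow hp.out).1
      (h.card ▸ Subgroup.card_dvd_of_le hE₀A)
    have : j ≠ 2 := fun e =>
      hE₀lt.ne (Subgroup.eq_of_le_of_card_ge hE₀A (by rw [h.card, hjc, e]))
    rw [hjc]
    calc p ^ j ≤ p ^ 1 := Nat.pow_le_pow_right hp.out.pos (by omega)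
      _ = p := pow_one p
  -- a basis of `A`
  obtain ⟨w, hw, hwz⟩ : ∃ w ∈ A, w ∉ Subgroup.zpowers z := by
    by_contra hcon
    push Not at hcon
    exact h.not_isCyclic (Subgroup.isCyclic_of_le (fun x hx => hcon x hx))
  have hbasis : ∀ x : G, Commute x z → Commute x w →
      x ∈ Subgroup.centralizer (A : Set G) := by
    intro x hxz hxw
    have hle : A ≤ Subgroup.zpowers z ⊔ Subgroup.zpowers w := by
      have hlt : Subgroup.zpowers z < Subgroup.zpowers z ⊔ Subgroup.zpowers w :=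
        lt_of_le_of_ne le_sup_left fun e =>
          hwz (e ▸ Subgroup.mem_sup_right (Subgroup.mem_zpowers w))
      have hsub : Subgroup.zpowers z ⊔ Subgroup.zpowers w ≤ A :=
        sup_le (Subgroup.zpowers_le.2 hzA) (Subgroup.zpowers_le.2 hw)
      have h1 : p < Nat.card ↥(Subgroup.zpowers z ⊔ Subgroup.zpowers w) := by
        rw [← h.orderOf_eq hzA hz1, ← Nat.card_zpowers]
        exact lt_of_le_of_ne (Subgroup.card_le_of_le hlt.le)
          fun e => hlt.ne (Subgroup.eq_of_le_of_card_ge hlt.le e.ge)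
      obtain ⟨j, hj, hjc⟩ := (Nat.dvd_prime_pow hp.out).1
        (h.card ▸ Subgroup.card_dvd_of_le hsub)
      rw [hjc] at h1
      have : 1 < j := (Nat.pow_lt_pow_iff_right hp.out.one_lt).1 (by rwa [pow_one])
      exact (Subgroup.eq_of_le_of_card_ge hsub (by
        rw [h.card, hjc, show j = 2 by omega])).ge
    have hxle : Subgroup.zpowers z ⊔ Subgroup.zpowers w ≤
        Subgroup.centralizer ({x} : Set G) :=
      sup_le (Subgroup.zpowers_le.2 (Subgroup.mem_centralizer_singleton_iff.2 hxz.eq.symm))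
        (Subgroup.zpowers_le.2 (Subgroup.mem_centralizer_singleton_iff.2 hxw.eq.symm))
    exact Subgroup.mem_centralizer_iff.2 fun a ha =>
      Subgroup.mem_centralizer_singleton_iff.1 (hxle (hle ha))
  have hstep : ∀ e ∈ E, ∃ i : ℤ, e * w * e⁻¹ = z ^ i * w := fun e he =>
    exists_step h.elem h.card hzA hz1 (k := 1) (by rw [pow_one]; exact hE.2 e he)
      (hSA (hES he)) (hzC e (hES he)) hw
  obtain ⟨i₁, hi₁⟩ := hstep e₁ he₁
  have hi₁0 : (i₁ : ZMod p) ≠ 0 := by
    intro h0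
    rw [ZMod.intCast_zmod_eq_zero_iff_dvd, ← h.orderOf_eq hzA hz1,
      orderOf_dvd_iff_zpow_eq_one] at h0
    rw [h0, one_mul] at hi₁
    exact he₁C (hbasis e₁ (hzC e₁ (hES he₁)) (mul_inv_eq_iff_eq_mul.1 hi₁))
  have hEle : E ≤ Subgroup.zpowers e₁ ⊔ E₀ := by
    intro e he
    obtain ⟨i, hi⟩ := hstep e he
    obtain ⟨n, hn⟩ := exists_pow_eq (h.elem.2 z hzA) hi₁0 i
    have hpow : ∀ n : ℕ, e₁ ^ n * w * (e₁ ^ n)⁻¹ = (z ^ i₁) ^ n * w := by
      intro n
      induction n with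
      | zero => simp
      | succ n ih =>
        have h1 : e₁ * (z ^ i₁) ^ n * e₁⁻¹ = (z ^ i₁) ^ n := by
          rw [(((hzC e₁ (hES he₁)).zpow_right i₁).pow_right n).eq, mul_inv_cancel_right]
        calc e₁ ^ (n + 1) * w * (e₁ ^ (n + 1))⁻¹
            = e₁ * (e₁ ^ n * w * (e₁ ^ n)⁻¹) * e₁⁻¹ := by rw [pow_succ']; group
          _ = (e₁ * (z ^ i₁) ^ n * e₁⁻¹) * (e₁ * w * e₁⁻¹) := by rw [ih]; group
          _ = _ := by rw [h1, hi₁, ← mul_assoc, ← pow_succ]
    have hm : (e₁ ^ n)⁻¹ * e ∈ E₀ := by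
      refine Subgroup.mem_inf.2
        ⟨E.mul_mem (E.inv_mem (E.pow_mem he₁ n)) he, hbasis _ ?_ ?_⟩
      · exact (((hzC e₁ (hES he₁)).pow_left n).inv_left).mul_left (hzC e (hES he))
      · have h1 : e * w * e⁻¹ = e₁ ^ n * w * (e₁ ^ n)⁻¹ := by rw [hi, hpow, hn]
        show _ = _
        calc (e₁ ^ n)⁻¹ * e * w = (e₁ ^ n)⁻¹ * (e * w * e⁻¹) * e := by group
          _ = w * ((e₁ ^ n)⁻¹ * e) := by rw [h1]; group
    have := mul_mem (Subgroup.mem_sup_left (Subgroup.pow_mem _ (Subgroup.mem_zpowers e₁) n) :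
      e₁ ^ n ∈ Subgroup.zpowers e₁ ⊔ E₀) (Subgroup.mem_sup_right hm)
    rwa [mul_inv_cancel_left] at this
  have hcard := (Subgroup.card_le_of_le hEle).trans (Rank.card_sup_le_of_commute fun a ha b hb =>
    PGroups.elemAb_comm hE (Subgroup.zpowers_le.2 he₁ ha) hb.1)
  rw [Nat.card_zpowers] at hcard
  have ho : orderOf e₁ ≤ p :=
    Nat.le_of_dvd hp.out.pos (orderOf_dvd_of_pow_eq_one (hE.2 e₁ he₁))
  exact absurd (hcard.trans (Nat.mul_le_mul ho hE₀c)) (by rw [← sq]; exact not_le.2 hEc)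

/-- A Sylow subgroup of `M` over `A` is abelian. -/
theorem sylow_comm (h : Ctx M p A) (P : Sylow p M)
    (hAP : A ≤ (P : Subgroup M).map M.subtype) :
    IsMulCommutative ↥((P : Subgroup M).map M.subtype) := by
  set P₀ := (P : Subgroup M).map M.subtype with hP₀
  have hP₀p : IsPGroup p P₀ := P.2.map _
  have hp2 := h.ne_two
  have hPC : P₀ ≤ Subgroup.centralizer (A : Set G) :=
    Subgroup.le_centralizer_iff.1 (le_centralizer h P hAP)
  obtain ⟨S, hPS⟩ := hP₀p.exists_le_sylow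
  have hAS : A ≤ (S : Subgroup G) := hAP.trans hPS
  have hSC : ∀ x ∈ (S : Subgroup G), x ∈ Subgroup.centralizer (A : Set G) → x ∈ P₀ := by
    intro x hx hxC
    have heq : ((S : Subgroup G) ⊓ M).subgroupOf M = (P : Subgroup M) :=
      P.is_maximal' ((S.2.to_le inf_le_left).comap_subtype) fun y hy =>
        show (y : G) ∈ (S : Subgroup G) ⊓ M from ⟨hPS ⟨y, hy, rfl⟩, y.2⟩
    refine ⟨⟨x, h.centralizer_le hxC⟩, ?_, rfl⟩
    rw [SetLike.mem_coe, ← heq]
    exact (⟨hx, h.centralizer_le hxC⟩ : x ∈ (S : Subgroup G) ⊓ M)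
  have hSnc : ¬ IsCyclic (S : Subgroup G) := fun hc =>
    h.not_isCyclic (haveI := hc; Subgroup.isCyclic_of_le hAS)
  obtain ⟨W', hW'n, hW', hW'c⟩ := PGroups.exists_normal_elemAb_sq hp2 S.2 hSnc
  set W := W'.map (S : Subgroup G).subtype with hW
  have hWS : W ≤ (S : Subgroup G) := Subgroup.map_subtype_le _
  have hWe : Cfsg.IsElementaryAbelian p W := PGroups.elemAb_map _ hW'
  have hWc : Nat.card W = p ^ 2 := by
    rw [hW, Subgroup.card_map_of_injective (Subgroup.subtype_injective _), hW'c]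
  have hSW : (S : Subgroup G) ≤ Subgroup.normalizer (W : Set G) :=
    OddOrder.Basic.le_normalizer_map_subtype _ W'
  obtain ⟨Z', hZ'W, hZ'c, -, hZ'p⟩ := PGroups.exists_central_card_prime S.2 W' fun e => by
    rw [e, Subgroup.card_bot] at hW'c
    exact (Nat.one_lt_pow two_ne_zero hp.out.one_lt).ne hW'c
  obtain ⟨⟨z, hzS⟩, hz', hz1'⟩ := Z'.bot_or_exists_ne_one.resolve_left fun e => by
    rw [e, Subgroup.card_bot] at hZ'p
    exact hp.out.ne_one hZ'p.symm
  have hz1 : z ≠ 1 := fun e => hz1' (Subtype.ext e)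
  have hzW : z ∈ W := ⟨⟨z, hzS⟩, hZ'W hz', rfl⟩
  have hzC : ∀ x ∈ (S : Subgroup G), Commute x z := fun x hx =>
    congrArg Subtype.val (Subgroup.mem_center_iff.1 (hZ'c hz') ⟨x, hx⟩)
  have hzA : z ∈ A := mem_of_centralizes h
    (Subgroup.mem_centralizer_iff.2 fun x hx => hzC x (hAS hx)) (hWe.2 z hzW)
  by_cases hAW : A ≤ Subgroup.centralizer (W : Set G)
  · -- `A` is normal in `S`
    have hWA : W = A := Subgroup.eq_of_le_of_card_ge (fun w hw => mem_of_centralizes h
      (Subgroup.le_centralizer_iff.1 hAW hw) (hWe.2 w hw)) (by rw [h.card, hWc])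
    have hSA : (S : Subgroup G) ≤ Subgroup.normalizer (A : Set G) := hWA ▸ hSW
    have hr : Cfsg.PRankLE p 2 (S : Subgroup G) := prankLE_of_normal h hSA hzA hz1 hzC
    rcases SylowNormalizer.structure_rank_two h.min
      (fun H hH => PLengthOne.of_ne_top h.min p H hH) S hr with hab |
      ⟨P₁, P₂, hsup, hcomm, hnab, hc1, hexp₁, hcyc, hΩ⟩
    · haveI := hab
      exact isMulCommutative_of_forall fun a ha b hb =>
        congrArg Subtype.val (hab.is_comm.comm ⟨a, hPS ha⟩ ⟨b, hPS hb⟩)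
    have hdec : ∀ x ∈ (S : Subgroup G), ∃ b ∈ P₁, ∃ c ∈ P₂, b * c = x := fun x hx => by
      have hn : P₂ ≤ Subgroup.normalizer (P₁ : Set G) := fun c hc =>
        Subgroup.centralizer_le_normalizer _ (Subgroup.mem_centralizer_iff.2 fun b hb =>
          hcomm b hb c hc)
      rw [← hsup] at hx
      exact Set.mem_mul.1 (by
        rw [← Subgroup.coe_mul_of_right_le_normalizer_left _ _ hn]; exact hx)
    have hexp : ∀ b ∈ P₁, b ^ p = 1 := by
      intro b hb
      have := Monoid.pow_exponent_eq_one (⟨b, hb⟩ : P₁)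
      rw [hexp₁] at this
      exact congrArg Subtype.val this
    have hAP₁ : A ≤ P₁ := by
      intro u hu
      obtain ⟨b, hb, c, hc, rfl⟩ := hdec u (hAS hu)
      have hcp : c ^ p = 1 := by
        have h1 := h.elem.2 _ hu
        rwa [(show Commute b c from hcomm b hb c hc).mul_pow, hexp b hb, one_mul] at h1
      exact mul_mem hb (((hΩ ▸ Subgroup.subset_closure ⟨hc, hcp⟩ :
        c ∈ P₁ ⊓ Subgroup.centralizer (P₁ : Set G))).1)
    have hCA : ∀ d ∈ P₁, d ∈ Subgroup.centralizer (A : Set G) → d ∈ A := fun d hd hdC =>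
      mem_of_centralizes h hdC (hexp d hd)
    refine isMulCommutative_of_forall fun x hx y hy => ?_
    obtain ⟨b, hb, c, hc, rfl⟩ := hdec x (hPS hx)
    obtain ⟨b', hb', c', hc', rfl⟩ := hdec y (hPS hy)
    have key : ∀ {b c : G}, b ∈ P₁ → c ∈ P₂ → b * c ∈ P₀ → b ∈ A := by
      intro b c hb hc hbc
      refine hCA b hb (Subgroup.mem_centralizer_iff.2 fun a ha => ?_)
      have h1 : Commute a (b * c) := Subgroup.mem_centralizer_iff.1 (hPC hbc) a ha
      have h2 : Commute a c := hcomm a (hAP₁ ha) c hc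
      have h3 := h1.mul_right h2.inv_right
      rw [mul_inv_cancel_right] at h3
      exact h3
    haveI := hcyc
    have hP₂ : Commute c c' := congrArg Subtype.val
      ((IsCyclic.commGroup (α := P₂)).mul_comm ⟨c, hc⟩ ⟨c', hc'⟩)
    have hbb : Commute b b' := h.comm (key hb hc hx) (key hb' hc' hy)
    have hbc' : Commute b c' := hcomm b hb c' hc'
    have hcb' : Commute c b' := (hcomm b' hb' c hc).symm
    exact (hbb.mul_right hbc').mul_left (hcb'.mul_right hP₂)
  -- an element of `A` moving `W`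
  obtain ⟨a, ha, haW⟩ := SetLike.not_le_iff_exists.1 hAW
  obtain ⟨w, hw, hwa⟩ : ∃ w ∈ W, ¬ Commute a w := by
    by_contra hcon
    push Not at hcon
    exact haW (Subgroup.mem_centralizer_iff.2 fun w hw => (hcon w hw).eq.symm)
  have hbasis : ∀ x ∈ (S : Subgroup G), Commute x w → x ∈ Subgroup.centralizer (W : Set G) := by
    intro x hx hxw
    have hwz : w ∉ Subgroup.zpowers z := by
      rintro ⟨i, rfl⟩
      exact hwa ((hzC a (hAS ha)).zpow_right i)
    have hsub : Subgroup.zpowers z ⊔ Subgroup.zpowers w ≤ W :=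
      sup_le (Subgroup.zpowers_le.2 hzW) (Subgroup.zpowers_le.2 hw)
    have hlt : Subgroup.zpowers z < Subgroup.zpowers z ⊔ Subgroup.zpowers w :=
      lt_of_le_of_ne le_sup_left fun e =>
        hwz (e ▸ Subgroup.mem_sup_right (Subgroup.mem_zpowers w))
    have h1 : p < Nat.card ↥(Subgroup.zpowers z ⊔ Subgroup.zpowers w) := by
      rw [← h.orderOf_eq hzA hz1, ← Nat.card_zpowers]
      exact lt_of_le_of_ne (Subgroup.card_le_of_le hlt.le)
        fun e => hlt.ne (Subgroup.eq_of_le_of_card_ge hlt.le e.ge)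
    obtain ⟨j, hj, hjc⟩ := (Nat.dvd_prime_pow hp.out).1 (hWc ▸ Subgroup.card_dvd_of_le hsub)
    rw [hjc] at h1
    have : 1 < j := (Nat.pow_lt_pow_iff_right hp.out.one_lt).1 (by rwa [pow_one])
    have hWle : W ≤ Subgroup.zpowers z ⊔ Subgroup.zpowers w := (Subgroup.eq_of_le_of_card_ge hsub
      (by rw [hWc, hjc, show j = 2 by omega])).ge
    have hxle : Subgroup.zpowers z ⊔ Subgroup.zpowers w ≤ Subgroup.centralizer ({x} : Set G) :=
      sup_le (Subgroup.zpowers_le.2 (Subgroup.mem_centralizer_singleton_iff.2 (hzC x hx).eq.symm))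
        (Subgroup.zpowers_le.2 (Subgroup.mem_centralizer_singleton_iff.2 hxw.eq.symm))
    exact Subgroup.mem_centralizer_iff.2 fun v hv =>
      Subgroup.mem_centralizer_singleton_iff.1 (hxle (hWle hv))
  obtain ⟨i₁, hi₁⟩ := exists_step hWe hWc hzW hz1 (k := 1) (by rw [pow_one]; exact h.elem.2 a ha)
    (hSW (hAS ha)) (hzC a (hAS ha)) hw
  have hi₁0 : (i₁ : ZMod p) ≠ 0 := by
    intro h0
    rw [ZMod.intCast_zmod_eq_zero_iff_dvd, ← h.orderOf_eq hzA hz1,
      orderOf_dvd_iff_zpow_eq_one] at h0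
    rw [h0, one_mul] at hi₁
    exact hwa (mul_inv_eq_iff_eq_mul.1 hi₁)
  set C₀ := P₀ ⊓ Subgroup.centralizer (W : Set G) with hC₀
  have hC₀c : IsCyclic C₀ := by
    refine PGroups.isCyclic_of_unique_prime hp2 (hP₀p.to_le inf_le_left) fun x y hxo hyo => ?_
    have hmem : ∀ x : C₀, orderOf x = p → (x : G) ∈ Subgroup.zpowers z := by
      intro x hxo
      have hxp : (x : G) ^ p = 1 := by
        rw [← hxo, ← Subgroup.orderOf_coe]; exact pow_orderOf_eq_one _
      have hxA : (x : G) ∈ A := (pow_eq_one_iff h P hAP x x.2.1).1 hxp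
      by_contra hxz
      -- then `a` would centralize `W`
      have hsub : Subgroup.zpowers z ⊔ Subgroup.zpowers (x : G) ≤ A :=
        sup_le (Subgroup.zpowers_le.2 hzA) (Subgroup.zpowers_le.2 hxA)
      have hlt : Subgroup.zpowers z < Subgroup.zpowers z ⊔ Subgroup.zpowers (x : G) :=
        lt_of_le_of_ne le_sup_left fun e =>
          hxz (e ▸ Subgroup.mem_sup_right (Subgroup.mem_zpowers _))
      have h1 : p < Nat.card ↥(Subgroup.zpowers z ⊔ Subgroup.zpowers (x : G)) := by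
        rw [← h.orderOf_eq hzA hz1, ← Nat.card_zpowers]
        exact lt_of_le_of_ne (Subgroup.card_le_of_le hlt.le)
          fun e => hlt.ne (Subgroup.eq_of_le_of_card_ge hlt.le e.ge)
      obtain ⟨j, hj, hjc⟩ := (Nat.dvd_prime_pow hp.out).1 (h.card ▸ Subgroup.card_dvd_of_le hsub)
      rw [hjc] at h1
      have : 1 < j := (Nat.pow_lt_pow_iff_right hp.out.one_lt).1 (by rwa [pow_one])
      have heq := Subgroup.eq_of_le_of_card_ge hsub (by rw [h.card, hjc, show j = 2 by omega])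
      refine haW ((heq.symm.le.trans (sup_le (Subgroup.zpowers_le.2 ?_)
        (Subgroup.zpowers_le.2 x.2.2))) ha)
      exact Subgroup.mem_centralizer_iff.2 fun v hv => hzC v (hWS hv)
    have hxz := hmem x hxo
    have hyz := hmem y hyo
    have heq : Subgroup.zpowers (x : G) = Subgroup.zpowers z :=
      Subgroup.eq_of_le_of_card_ge (Subgroup.zpowers_le.2 hxz) (by
        rw [Nat.card_zpowers, Nat.card_zpowers, h.orderOf_eq hzA hz1, Subgroup.orderOf_coe, hxo])
    rw [← heq] at hyz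
    obtain ⟨n, hn⟩ := hyz
    exact ⟨n, Subtype.ext (by simpa using hn)⟩
  have hdec : ∀ x ∈ P₀, ∃ n : ℕ, (a ^ n)⁻¹ * x ∈ C₀ := by
    intro x hx
    obtain ⟨k, hk⟩ := hP₀p ⟨x, hx⟩
    obtain ⟨i, hi⟩ := exists_step hWe hWc hzW hz1 (k := k) (by simpa using congrArg Subtype.val hk)
      (hSW (hPS hx)) (hzC x (hPS hx)) hw
    obtain ⟨n, hn⟩ := exists_pow_eq (h.elem.2 z hzA) hi₁0 i
    have hpow : ∀ n : ℕ, a ^ n * w * (a ^ n)⁻¹ = (z ^ i₁) ^ n * w := by
      intro n
      induction n with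
      | zero => simp
      | succ n ih =>
        have h1 : a * (z ^ i₁) ^ n * a⁻¹ = (z ^ i₁) ^ n := by
          rw [(((hzC a (hAS ha)).zpow_right i₁).pow_right n).eq, mul_inv_cancel_right]
        calc a ^ (n + 1) * w * (a ^ (n + 1))⁻¹ = a * (a ^ n * w * (a ^ n)⁻¹) * a⁻¹ := by
              rw [pow_succ']; group
          _ = (a * (z ^ i₁) ^ n * a⁻¹) * (a * w * a⁻¹) := by rw [ih]; group
          _ = _ := by rw [h1, hi₁, ← mul_assoc, ← pow_succ]
    have hmem : (a ^ n)⁻¹ * x ∈ P₀ := mul_mem (inv_mem (pow_mem (hAP ha) n)) hx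
    refine ⟨n, hmem, hbasis _ (hPS hmem) ?_⟩
    have h1 : x * w * x⁻¹ = a ^ n * w * (a ^ n)⁻¹ := by rw [hi, hpow, hn]
    show _ = _
    calc (a ^ n)⁻¹ * x * w = (a ^ n)⁻¹ * (x * w * x⁻¹) * x := by group
      _ = w * ((a ^ n)⁻¹ * x) := by rw [h1]; group
  refine isMulCommutative_of_forall fun x hx y hy => ?_
  obtain ⟨n, hn⟩ := hdec x hx
  obtain ⟨m, hm⟩ := hdec y hy
  have hac : ∀ u ∈ P₀, Commute a u := fun u hu =>
    Subgroup.mem_centralizer_iff.1 (hPC hu) a ha
  haveI := hC₀c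
  have hcc : Commute ((a ^ n)⁻¹ * x) ((a ^ m)⁻¹ * y) := congrArg Subtype.val
    ((IsCyclic.commGroup (α := C₀)).mul_comm ⟨_, hn⟩ ⟨_, hm⟩)
  have e1 : x = a ^ n * ((a ^ n)⁻¹ * x) := by group
  have e2 : y = a ^ m * ((a ^ m)⁻¹ * y) := by group
  rw [e1, e2]
  exact ((Commute.pow_pow_self a n m).mul_right ((hac _ hm.1).pow_left n)).mul_left
    ((((hac _ hn.1).symm).pow_right m).mul_right hcc)

/-- Every Sylow `p`-subgroup of `M` is abelian. -/
theorem sylow_comm_all (h : Ctx M p A) (Q : Sylow p M) : IsMulCommutative (Q : Subgroup M) := by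
  obtain ⟨P, hAP⟩ := exists_sylow_p h
  haveI := sylow_comm h P hAP
  let e := (Q.equiv P).trans ((P : Subgroup M).equivMapOfInjective M.subtype M.subtype_injective)
  exact ⟨⟨fun a b => e.injective (by rw [map_mul, map_mul, mul_comm'])⟩⟩

end Cfsg.Agent.Lib.OddTau.Abelian
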