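import Cfsg.Agent.Lib.OddTau.SigmaNormal
import Cfsg.Agent.Lib.OddTau.Abelian

/-!
# BG 12.6: `p ∈ τ₂(M)` inside a complement of `M_σ`
-/

set_option autoImplicit false
set_option linter.style.haveILetI false
set_option linter.unusedSectionVars false

open scoped Pointwise commutatorElement

namespace Cfsg.Agent.Lib.OddTau.Context

open Cfsg.Agent.Lib.OddOrder Cfsg.Agent.Lib.OddOrder.MinSimple Cfsg.Agent.Lib.OddTau.Basic
  Cfsg.Agent.Lib.OddTau.Exceptional Cfsg.Agent.Lib.OddTau.Sylow Cfsg.Agent.Lib.OddTau.Unique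

universe u

variable {G : Type u} [Group G] [Finite G] {p : ℕ} [hp : Fact p.Prime] {M A E : Subgroup G}

theorem centralizer_inf_eq_bot (h : Ctx M p A) :
    Cfsg.sigmaCore M ⊓ Subgroup.centralizer (A : Set G) = ⊥ := by
  obtain ⟨g, hg, hgM, -⟩ := exists_moving h
  obtain ⟨a, ha, -, -, haC⟩ := exists_good h
  exact le_bot_iff.1 ((inf_le_inf_left _ (Subgroup.centralizer_le (Set.singleton_subset_iff.2
    ((Subgroup.mem_normalizer_iff.1 hg a).1 ha)))).trans
      (fixed_eq_bot h hgM (le_conj_of_normalizer h hg) haC).le)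

theorem exists_fixed_point_free (h : Ctx M p A) :
    ∃ A₁ : Subgroup G, A₁ ≤ A ∧ Nat.card A₁ = p ∧
      Cfsg.sigmaCore M ⊓ Subgroup.centralizer (A₁ : Set G) = ⊥ := by
  obtain ⟨g, hg, hgM, -⟩ := exists_moving h
  obtain ⟨a, ha, ha1, -, haC⟩ := exists_good h
  have hx : g * a * g⁻¹ ∈ A := (Subgroup.mem_normalizer_iff.1 hg a).1 ha
  refine ⟨Subgroup.zpowers (g * a * g⁻¹), Subgroup.zpowers_le.2 hx, ?_, ?_⟩
  · rw [Nat.card_zpowers, ← h.orderOf_eq ha ha1]
    exact orderOf_injective (MulAut.conj g).toMonoidHom (MulAut.conj g).injective a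
  · exact le_bot_iff.1 ((inf_le_inf_left _ (Subgroup.centralizer_le
      (Set.singleton_subset_iff.2 (Subgroup.mem_zpowers _)))).trans
        (fixed_eq_bot h hgM (le_conj_of_normalizer h hg) haC).le)

theorem le_normalizer_of_compl (h : Ctx M p A) (hE : Cfsg.IsComplIn E (Cfsg.sigmaCore M) M)
    (hAE : A ≤ E) : E ≤ Subgroup.normalizer (A : Set G) := by
  intro e he
  refine Subgroup.mem_normalizer_fintype fun a ha => ?_
  have hJ := (Subgroup.mem_normalizer_iff.1 (SigmaNormal.le_normalizer_sup h (hE.1 he)) a).1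
    (Subgroup.mem_sup_right ha)
  rw [sup_comm] at hJ
  obtain ⟨b, hb, s, hs, hbs⟩ := Set.mem_mul.1
    (by rw [← Subgroup.coe_mul_of_left_le_normalizer_right _ _ h.le_normalizer]; exact hJ :
      e * a * e⁻¹ ∈ (A : Set G) * (Cfsg.sigmaCore M : Set G))
  have hsE : s ∈ E ⊓ Cfsg.sigmaCore M := by
    refine ⟨?_, hs⟩
    have : s = b⁻¹ * (e * a * e⁻¹) := by rw [← hbs]; group
    exact this ▸ E.mul_mem (E.inv_mem (hAE hb)) (E.mul_mem (E.mul_mem he (hAE ha)) (E.inv_mem he))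
  rw [hE.2.2.1, Subgroup.mem_bot] at hsE
  rw [hsE, mul_one] at hbs
  exact hbs ▸ hb

theorem le_of_card_prime (h : Ctx M p A) {X : Subgroup G} (hXM : X ≤ M)
    (hXA : X ≤ Subgroup.normalizer (A : Set G)) (hX : Nat.card X = p) : X ≤ A := by
  have hXp : IsPGroup p X := IsPGroup.of_card (n := 1) (by rw [hX, pow_one])
  have hJp : IsPGroup p ↥(A ⊔ X) := IsPGroup.to_sup_of_normal_left' h.isPGroup hXp hXA
  obtain ⟨P, hP⟩ := (hJp.comap_subtype (K := M)).exists_le_sylow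
  have hJP : A ⊔ X ≤ (P : Subgroup M).map M.subtype := fun x hx =>
    ⟨⟨x, sup_le h.le hXM hx⟩, hP (show (⟨x, sup_le h.le hXM hx⟩ : M) ∈
      (A ⊔ X).comap M.subtype from hx), rfl⟩
  intro x hx
  refine (pow_eq_one_iff h P (le_sup_left.trans hJP) x (hJP (Subgroup.mem_sup_right hx))).1 ?_
  exact orderOf_dvd_iff_pow_eq_one.1 (hX ▸ X.orderOf_dvd_natCard hx)

theorem inf_normalizer_eq (h : Ctx M p A) (hE : Cfsg.IsComplIn E (Cfsg.sigmaCore M) M)
    (hAE : A ≤ E) : M ⊓ Subgroup.normalizer (A : Set G) = E := by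
  have hEA := le_normalizer_of_compl h hE hAE
  refine le_antisymm (fun m hm => ?_) (le_inf hE.1 hEA)
  obtain ⟨e, he, s, hs, rfl⟩ := hE.2.2.2 m hm.1
  have hsA : s ∈ Subgroup.normalizer (A : Set G) := by
    have := mul_mem (inv_mem (hEA he)) hm.2
    rwa [inv_mul_cancel_left] at this
  have hs1 : s ∈ Cfsg.sigmaCore M ⊓ Subgroup.centralizer (A : Set G) := by
    refine ⟨hs, Subgroup.mem_centralizer_iff.2 fun a ha => ?_⟩
    have h1 : s * a * s⁻¹ * a⁻¹ ∈ A ⊓ Cfsg.sigmaCore M := by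
      refine ⟨A.mul_mem ((Subgroup.mem_normalizer_iff.1 hsA a).1 ha) (A.inv_mem ha), ?_⟩
      rw [show s * a * s⁻¹ * a⁻¹ = s * (a * s⁻¹ * a⁻¹) by group]
      exact mul_mem hs ((Subgroup.mem_normalizer_iff.1 (h.le_normalizer ha) _).1 (inv_mem hs))
    rw [OddOrder.Basic.inf_eq_bot_of_coprime h.coprime, Subgroup.mem_bot, mul_inv_eq_one,
      mul_inv_eq_iff_eq_mul] at h1
    exact h1.symm
  rw [centralizer_inf_eq_bot h, Subgroup.mem_bot] at hs1
  rw [hs1, mul_one]
  exact he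

theorem unique_of_fixed (h : Ctx M p A) {X : Subgroup G} (hXA : X ≤ A) (hX : Nat.card X = p)
    (hne : Cfsg.sigmaCore M ⊓ Subgroup.centralizer (X : Set G) ≠ ⊥) :
    Subgroup.centralizer (X : Set G) ≤ M ∧
      ∀ L : Subgroup G, IsCoatom L → Subgroup.centralizer (X : Set G) ≤ L → L = M := by
  have hA : A ≤ Subgroup.centralizer (X : Set G) :=
    (Subgroup.le_centralizer_iff_isMulCommutative.2 h.elem.1).trans
      (Subgroup.centralizer_le (SetLike.coe_subset_coe.2 hXA))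
  have huniq : ∀ L : Subgroup G, IsCoatom L → Subgroup.centralizer (X : Set G) ≤ L → L = M :=
    fun L hL hle => eq_of_meet h hL (hA.trans hle)
      (ne_bot_of_le_ne_bot hne (inf_le_inf_left _ hle))
  have hX1 : X ≠ ⊥ := fun e => hp.out.ne_one (by rw [← hX, e, Subgroup.card_bot])
  obtain ⟨L, hL, hle⟩ := exists_coatom_ge h.min (centralizer_subgroup_ne_top h.min hX1)
  exact ⟨huniq L hL hle ▸ hle, huniq⟩

end Cfsg.Agent.Lib.OddTau.Context
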