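import Cfsg.Agent.Lib.OddTau.Sylow

/-!
# BG 12.5(e): `M` is the only maximal subgroup over `A` meeting `M_σ`
-/

set_option autoImplicit false
set_option linter.style.haveILetI false
set_option linter.unusedSectionVars false

open scoped Pointwise commutatorElement

namespace Cfsg.Agent.Lib.OddTau.Unique

open Cfsg.Agent.Lib.OddOrder Cfsg.Agent.Lib.OddOrder.MinSimple Cfsg.Agent.Lib.OddTau.Basic
  Cfsg.Agent.Lib.OddTau.Exceptional Cfsg.Agent.Lib.OddTau.Sylow

universe u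

variable {G : Type u} [Group G] [Finite G] {p : ℕ} [hp : Fact p.Prime] {M A : Subgroup G}

theorem exists_moving (h : Ctx M p A) :
    ∃ g : G, g ∈ Subgroup.normalizer (A : Set G) ∧ g ∉ M ∧ g ^ 2 ∉ M := by
  obtain ⟨P, hAP⟩ := exists_sylow_p h
  obtain ⟨g, hg, hgM⟩ := SetLike.not_le_iff_exists.1 (normalizer_not_le h P)
  refine ⟨g, normalizer_le_normalizer h P hAP hg, hgM, fun h2 => hgM ?_⟩
  obtain ⟨k, hk⟩ : Odd (orderOf g) := h.min.1.of_dvd_nat (orderOf_dvd_natCard g)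
  have : (g ^ 2) ^ (k + 1) = g := by
    rw [← pow_mul, show 2 * (k + 1) = (2 * k + 1) + 1 by ring, pow_succ, ← hk, pow_orderOf_eq_one,
      one_mul]
  exact this ▸ pow_mem h2 _

theorem le_conj_of_normalizer (h : Ctx M p A) {g : G}
    (hg : g ∈ Subgroup.normalizer (A : Set G)) : A ≤ M.map (MulAut.conj g).toMonoidHom :=
  fun x hx => mem_conj.2 (h.le ((Subgroup.mem_normalizer_iff''.1 hg x).1 hx))

/-- The only `A`-invariant `q`-subgroups over `Q₀ ≠ 1` in a proper `L ≥ A` lie in the invariant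
Sylow subgroup. -/
theorem le_sylow_of_meet (h : Ctx M p A) {q : ℕ} [Fact q.Prime] (hqσ : q ∈ Cfsg.sigma M)
    {S : Sylow q G} (hSσ : (S : Subgroup G) ≤ Cfsg.sigmaCore M) {L : Subgroup G} (hL : L ≠ ⊤)
    (hAL : A ≤ L) (hSL : L ⊓ (S : Subgroup G) ≠ ⊥) {T : Subgroup G} (hT : IsPGroup q T)
    (hTL : T ≤ L) (hAT : A ≤ Subgroup.normalizer (T : Set G)) : T ≤ (S : Subgroup G) := by
  by_cases hT1 : T = ⊥
  · exact hT1 ▸ bot_le
  obtain ⟨R, hR, hTR⟩ := Transitivity.exists_max_ge (H := (⊤ : Subgroup G)) (B := A) (π := {q})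
    (Transitivity.mem_inv.2 ⟨le_top, hT, hAT⟩)
  have hSn := le_normalizer_sylow h hSσ
  obtain ⟨k, hk, hkR⟩ := Transitivity.conj_of_meet h.min h.transitivity
    (h.not_dvd (Fact.out) (h.ne_of_sigma hqσ)) (h.sylow_mem_max (h.le.trans hSn)) hR hL hAL hSL
    (ne_bot_of_le_ne_bot hT1 (le_inf hTL hTR))
  exact hTR.trans
    (hkR.trans (Coprime.conj_smul_eq_self_of_mem_normalizer (hSn (h.coreC_le hk)))).le

/-- BG 12.5(e). -/
theorem eq_of_meet (h : Ctx M p A) {L₀ : Subgroup G} (hL₀ : IsCoatom L₀) (hAL₀ : A ≤ L₀)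
    (hne₀ : Cfsg.sigmaCore M ⊓ L₀ ≠ ⊥) : L₀ = M := by
  by_contra hL₀M
  haveI := isSolvable_sigmaCore h.min h.max
  obtain ⟨q, hq, hqd⟩ := Nat.exists_prime_and_dvd fun e => hne₀ (Subgroup.card_eq_one.1 e)
  haveI := Fact.mk hq
  have hqσ : q ∈ Cfsg.sigma M :=
    mem_sigma_of_dvd hq (hqd.trans (Subgroup.card_dvd_of_le inf_le_left))
  have hqp := h.ne_of_sigma hqσ
  have hqA := h.not_dvd hq hqp
  have hq2 : q ≠ 2 := ne_two_of_dvd h.min (Sigma.dvd_card_group hqσ)
  have hTH := h.transitivity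
  set X := {Q : Subgroup G | IsPGroup q Q ∧ Q ≤ Cfsg.sigmaCore M ∧ Q ≠ ⊥ ∧
    A ≤ Subgroup.normalizer (Q : Set G) ∧ ∃ L : Subgroup G, IsCoatom L ∧ L ≠ M ∧ A ≤ L ∧ Q ≤ L}
    with hX
  have hXne : X.Nonempty := by
    have hAD : A ≤ Subgroup.normalizer ((Cfsg.sigmaCore M ⊓ L₀ : Subgroup G) : Set G) :=
      Coprime.le_normalizer_inf h.le_normalizer (hAL₀.trans Subgroup.le_normalizer)
    obtain ⟨T, hAT⟩ := Coprime.exists_invariant_sylow hAD
      (h.coprime.coprime_dvd_right (Subgroup.card_dvd_of_le inf_le_left))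
      (Or.inr (Coprime.isSolvable_of_le inf_le_left)) q
    refine ⟨_, T.2.map _, (Subgroup.map_subtype_le _).trans inf_le_left, ?_, hAT, L₀, hL₀, hL₀M,
      hAL₀, (Subgroup.map_subtype_le _).trans inf_le_right⟩
    rw [Ne, Subgroup.map_eq_bot_iff_of_injective _ (Subgroup.subtype_injective _)]
    exact T.ne_bot_of_dvd_card hqd
  obtain ⟨Q, ⟨⟨hQp, hQσ, hQ1, hAQ, L, hL, hLM, hAL, hQL⟩, hmax⟩⟩ :=
    (Set.toFinite X).exists_maximal hXne
  obtain ⟨S, hQS, hSσ, hAS⟩ := h.exists_sylow hqσ hQp (hQσ.trans (sigmaCore_le M)) hAQ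
  have hSn := le_normalizer_sylow h hSσ
  have hSL : L ⊓ (S : Subgroup G) ≠ ⊥ := ne_bot_of_le_ne_bot hQ1 (le_inf hQL hQS)
  -- `Q` is the invariant Sylow subgroup of `L`
  have hQmax : ∀ T : Subgroup G, IsPGroup q T → T ≤ L → A ≤ Subgroup.normalizer (T : Set G) →
      Q ≤ T → T = Q := fun T hT hTL hAT hQT => le_antisymm
    (hmax ⟨hT, (le_sylow_of_meet h hqσ hSσ hL.1 hAL hSL hT hTL hAT).trans hSσ,
      ne_bot_of_le_ne_bot hQ1 hQT, hAT, L, hL, hLM, hAL, hTL⟩ hQT) hQT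
  have hSLQ : (S : Subgroup G) ⊓ L = Q := hQmax _ (S.2.to_le inf_le_left) inf_le_right
    (Coprime.le_normalizer_inf hAS (hAL.trans Subgroup.le_normalizer)) (le_inf hQS hQL)
  have hQt := pgroup_ne_top h.min hQp
  -- `N(Q) ≤ M`
  have hNQ : Subgroup.normalizer (Q : Set G) ≤ M := by
    by_cases hQeq : Q = (S : Subgroup G)
    · rw [hQeq]
      exact normalizer_sylow_le hqσ S (hSσ.trans (sigmaCore_le M))
    obtain ⟨L', hL', hNL'⟩ := exists_coatom_ge h.min (normalizer_ne_top h.min hQ1 hQt)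
    rcases eq_or_ne L' M with e | hne
    · exact e ▸ hNL'
    exfalso
    have hlt := Sigma.exists_gt_inf_normalizer S.2 (lt_of_le_of_ne hQS hQeq)
    refine hlt.not_ge (hmax ⟨S.2.to_le inf_le_left, inf_le_left.trans hSσ,
      ne_bot_of_le_ne_bot hQ1 hlt.le,
      Coprime.le_normalizer_inf hAS ?_, L', hL', hne, hAQ.trans hNL',
      inf_le_right.trans hNL'⟩ hlt.le)
    exact hAQ.trans Subgroup.le_normalizer
  -- `L = Y N_L(Q)`
  haveI := solvable_of_ne_top h.min hL.1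
  set Y := Cfsg.piCoreOf (Transitivity.piA' A) L with hY
  have hYL : Y ≤ L := piCoreOf_le _ _
  have hLY : L ≤ Subgroup.normalizer (Y : Set G) := piCoreOf_normal _ _
  have hAYc : (Nat.card A).Coprime (Nat.card Y) :=
    Transitivity.coprime_of_pi' (piCoreOf_isPiGroup _ _)
  haveI hYs : Group.IsSolvable Y := Coprime.isSolvable_of_le hYL
  have hQY : Q ≤ Y := Transitivity.le_piCoreOf_of_inv hTH hqA hL.1 hAL hQp hAQ hQL
  obtain ⟨T, hT, hAT, hQT⟩ := Hall.Coprime.exists_invariant_ge (hAL.trans hLY) hAYc hYs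
    ({q} : Set ℕ) hQY hAQ (Transitivity.inv_of_isPGroup hQp)
  have hTQ : T = Q :=
    hQmax T (Transitivity.isPGroup_of_inv hT.2.1) (hT.1.trans hYL) hAT hQT
  have hQidx : ¬ q ∣ Q.relIndex Y := hTQ ▸ hT.2.2 q hq rfl
  -- `W = Q A` and `U = O_{q'}(Y)`
  set U := NormedConstrained.pO q Y with hU
  set W := Q ⊔ A with hW
  have hWM : W ≤ M := sup_le (hQσ.trans (sigmaCore_le M)) h.le
  haveI := solvable_of_ne_top h.min h.max.1
  haveI : Group.IsSolvable W := Coprime.isSolvable_of_le hWM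
  have hUY : U ≤ Y := NormedConstrained.pO_le Y
  have hWU : W ≤ Subgroup.normalizer (U : Set G) := sup_le
    (hQY.trans (OddOrder.Basic.le_normalizer_map_subtype Y _))
    ((hAL.trans hLY).trans (Balance.le_normalizer_map_characteristic (Cfsg.pPrimeCore q Y)))
  have hWc : Nat.card W = Nat.card Q * Nat.card A := by
    rw [hW, sup_comm, Coprime.card_sup_of_disjoint hAQ, mul_comm]
    exact disjoint_iff.2 (OddOrder.Basic.inf_eq_bot_of_coprime
      (Fitting.coprime_card hqp.symm h.isPGroup hQp))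
  have hWUc : (Nat.card W).Coprime (Nat.card U) := by
    rw [hWc]
    refine Nat.Coprime.mul_left ?_ (hAYc.coprime_dvd_right (Subgroup.card_dvd_of_le hUY))
    obtain ⟨j, hj⟩ := IsPGroup.iff_card.1 hQp
    rw [hj]
    exact (NormedConstrained.pO_coprime Y).symm.pow_left j
  obtain ⟨a, ha, ha1, -, haC⟩ := exists_good h
  have hfixQ : ∀ g : G, g ∈ Subgroup.normalizer (A : Set G) → g ∉ M →
      Q ⊓ Subgroup.centralizer ({g * a * g⁻¹} : Set G) = ⊥ := fun g hg hgM =>
    le_bot_iff.1 ((inf_le_inf_right _ hQσ).trans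
      (fixed_eq_bot h hgM (le_conj_of_normalizer h hg) haC).le)
  have hcomm : ∀ g : G, g ∈ Subgroup.normalizer (A : Set G) → g ∉ M →
      Q ≤ ⁅Q, Subgroup.zpowers (g * a * g⁻¹)⁆ := by
    intro g hg hgM
    have hx : g * a * g⁻¹ ∈ A := (Subgroup.mem_normalizer_iff.1 hg a).1 ha
    have hz : Subgroup.zpowers (g * a * g⁻¹) ≤ A := Subgroup.zpowers_le.2 hx
    have hcop : (Nat.card (Subgroup.zpowers (g * a * g⁻¹))).Coprime (Nat.card Q) :=
      (Fitting.coprime_card hqp.symm (h.isPGroup.to_le hz) hQp)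
    have hsup := Coprime.commutator_sup_centralizer (hz.trans hAQ) hcop
      (Or.inl (Coprime.isSolvable_zpowers _))
    refine hsup.ge.trans (sup_le le_rfl ?_)
    refine le_trans (le_trans (inf_le_inf_left _ (Subgroup.centralizer_le ?_))
      (hfixQ g hg hgM).le) bot_le
    exact Set.singleton_subset_iff.2 (Subgroup.mem_zpowers _)
  have hUM : U ≤ M := by
    refine Uniqueness.le_of_inv_sylows hWU hWUc fun s hs hsd T hTU hTs hWT => ?_
    by_contra hTM
    have hsq : s ≠ q := by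
      rintro rfl
      exact hq.ne_one (Nat.eq_one_of_dvd_coprimes (NormedConstrained.pO_coprime Y) hsd dvd_rfl)
    have hsA : ¬ s ∣ Nat.card A := fun hd => hs.out.ne_one (Nat.eq_one_of_dvd_coprimes hAYc hd
      (hsd.trans (Subgroup.card_dvd_of_le hUY)))
    have hsp : s ≠ p := fun e => hsA (e ▸ h.dvd_card)
    have hs2 : s ≠ 2 := ne_two_of_dvd h.min (hsd.trans U.card_subgroup_dvd_card)
    have hTL : T ≤ L := hTU.trans (hUY.trans hYL)
    have hQT' : Q ≤ Subgroup.normalizer (T : Set G) := le_sup_left.trans hWT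
    have hAT' : A ≤ Subgroup.normalizer (T : Set G) := le_sup_right.trans hWT
    have hnc : ¬ Q ≤ Subgroup.centralizer (T : Set G) := fun hc =>
      hTM (((Subgroup.le_centralizer_iff.1 hc).trans
        (Transitivity.centralizer_le_normalizer Q)).trans hNQ)
    obtain ⟨g, hg, hgM, hg2⟩ := exists_moving h
    have hT3 : ¬ Cfsg.PRankLE s 2 T := by
      intro h2
      refine hnc fun v hv => OddLocal.NarrowAut.derived_centralizes hs2 hTs (Or.inl h2) hWT
        (odd_card h.min W) ?_ ?_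
      · exact Subgroup.commutator_mono (le_sup_left : Q ≤ W)
          ((Subgroup.zpowers_le.2 ((Subgroup.mem_normalizer_iff.1 hg a).1 ha)).trans le_sup_right)
          (hcomm g hg hgM hv)
      · obtain ⟨j, hj⟩ := IsPGroup.iff_card.1 hQp
        exact (((Nat.coprime_primes hq hs.out).2 hsq.symm).pow_left j).coprime_dvd_left
          (hj ▸ Q.orderOf_dvd_natCard hv)
    have hTU' : Cfsg.InUniqueMaximal T :=
      UniquenessTheorem.of_rank h.min (pgroup_ne_top h.min hTs) fun h' => hT3 (h' s hs.out)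
    have hfix : ∀ g : G, g ∈ Subgroup.normalizer (A : Set G) → g ∉ M →
        T ⊓ Subgroup.centralizer ({g * a * g⁻¹} : Set G) ≠ ⊥ := by
      intro g hg hgM
      have hx : g * a * g⁻¹ ∈ A := (Subgroup.mem_normalizer_iff.1 hg a).1 ha
      have hx1 : g * a * g⁻¹ ≠ 1 := fun e => ha1 (by
        calc a = g⁻¹ * (g * a * g⁻¹) * g := by group
          _ = 1 := by rw [e]; group)
      haveI : Group.IsSolvable ↥((T ⊔ Q) ⊔ Subgroup.zpowers (g * a * g⁻¹)) :=
        Coprime.isSolvable_of_le (sup_le (sup_le hTL hQL) (Subgroup.zpowers_le.2 (hAL hx)))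
      refine FixedPoint.fixed_ne_bot h.min.1 hqp.symm hsp.symm hsq.symm hTs hQp
        (h.orderOf_eq hx hx1) hQT' (hAT' hx) (hAQ hx) (hcomm g hg hgM) hnc fun v hv _ hvc => ?_
      have hm : v ∈ Q ⊓ Subgroup.centralizer ({g * a * g⁻¹} : Set G) :=
        ⟨hv, Subgroup.mem_centralizer_singleton_iff.2 hvc.eq⟩
      rwa [hfixQ g hg hgM, Subgroup.mem_bot] at hm
    obtain ⟨R, hR, hTR⟩ := Transitivity.exists_max_ge (H := (⊤ : Subgroup G)) (B := A) (π := {s})
      (Transitivity.mem_inv.2 ⟨le_top, hTs, hAT'⟩)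
    set x := g * a * g⁻¹ with hxdef
    have hxA : x ∈ A := (Subgroup.mem_normalizer_iff.1 hg a).1 ha
    have hg2n : g ^ 2 ∈ Subgroup.normalizer (A : Set G) := pow_mem hg 2
    have hR₂ : MulAut.conj (g ^ 2) • R ∈ Cfsg.maxInvSubgroups ⊤ A {s} :=
      Transitivity.conj_mem_max hg2n hR
    have hAx : A ≤ Subgroup.centralizer ({x} : Set G) := fun y hy =>
      Subgroup.mem_centralizer_singleton_iff.2 (h.comm hy hxA).eq
    have hx1 : x ≠ 1 := fun e => ha1 (by
      calc a = g⁻¹ * (g * a * g⁻¹) * g := by group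
        _ = 1 := by rw [← hxdef, e]; group)
    obtain ⟨k, hk, hkR⟩ := Transitivity.conj_of_meet h.min hTH hsA hR hR₂
      (centralizer_singleton_ne_top h.min hx1) hAx
      (fun e => hfix g hg hgM (le_bot_iff.1 (e ▸ le_inf inf_le_right (inf_le_left.trans hTR))))
      (fun e => by
        obtain ⟨w, hw, hw1⟩ := (Subgroup.bot_or_exists_ne_one _).resolve_left
          (hfix g⁻¹ (inv_mem hg) fun hm => hgM (inv_mem_iff.1 hm))
        have hm : g ^ 2 * w * (g ^ 2)⁻¹ ∈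
            Subgroup.centralizer ({x} : Set G) ⊓ MulAut.conj (g ^ 2) • R := by
          refine ⟨Subgroup.mem_centralizer_singleton_iff.2 ?_, ⟨w, hTR hw.1, rfl⟩⟩
          have h1 : w * (g⁻¹ * a * g⁻¹⁻¹) = (g⁻¹ * a * g⁻¹⁻¹) * w :=
            Subgroup.mem_centralizer_singleton_iff.1 hw.2
          calc g ^ 2 * w * (g ^ 2)⁻¹ * x = g ^ 2 * (w * (g⁻¹ * a * g⁻¹⁻¹)) * (g ^ 2)⁻¹ := by
                rw [hxdef, sq]; group
            _ = _ := by rw [h1, hxdef, sq]; group
        rw [e, Subgroup.mem_bot, mul_inv_eq_one, mul_eq_left] at hm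
        exact hw1 hm)
    have hkn : k⁻¹ * g ^ 2 ∈ Subgroup.normalizer (R : Set G) :=
      Coprime.mem_normalizer_of_conj_smul_eq (by
        rw [Coprime.conj_smul_mul, hkR]
        show MulAut.conj k⁻¹ • MulAut.conj k • R = R
        rw [map_inv, inv_smul_smul])
    obtain ⟨L', hL', hNL'⟩ := exists_coatom_ge h.min (normalizer_ne_top h.min
      (ne_bot_of_le_ne_bot (UniqueRank.ne_bot h.min hTU') hTR)
      (pgroup_ne_top h.min (Transitivity.isPGroup_of_inv hR.1.2.1)))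
    rw [UniqueRank.eq_of_le hTU' hL' (hTR.trans (Subgroup.le_normalizer.trans hNL')) hL hTL] at hNL'
    have hnA : k⁻¹ * g ^ 2 ∈ Subgroup.normalizer (A : Set G) :=
      mul_mem (inv_mem (Transitivity.centralizer_le_normalizer A (piCoreOf_le _ _ hk))) hg2n
    set m := k⁻¹ * g ^ 2 with hm
    have hQm : Q.map (MulAut.conj m).toMonoidHom ≤ L := by
      rintro _ ⟨v, hv, rfl⟩
      exact mul_mem (mul_mem (hNL' hkn) (hQL hv)) (inv_mem (hNL' hkn))
    have hAQm : A ≤ Subgroup.normalizer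
        ((Q.map (MulAut.conj m).toMonoidHom : Subgroup G) : Set G) := fun b hb =>
      le_normalizer_conj hAQ (mem_conj.2 ((Subgroup.mem_normalizer_iff''.1 hnA b).1 hb))
    have hle : Q.map (MulAut.conj m).toMonoidHom ≤ Q :=
      (le_inf (le_sylow_of_meet h hqσ hSσ hL.1 hAL hSL (hQp.map _) hQm hAQm) hQm).trans hSLQ.le
    have hmM : m ∈ M := hNQ (Subgroup.mem_normalizer_fintype fun v hv => hle ⟨v, hv, rfl⟩)
    refine hg2 ?_
    have := mul_mem (h.coreC_le hk) hmM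
    rwa [hm, mul_inv_cancel_left] at this
  have hYM : Y ≤ M := (RankTwoKey.sup_normalizer_of_pLength_one
    (PLengthOne.of_ne_top h.min q Y fun e => hL.1 (top_le_iff.1 (e ▸ hYL))) hQY hQp hQidx).ge.trans
    (sup_le hUM (inf_le_right.trans hNQ))
  have hLM' : L ≤ M := (RankTwoKey.sup_normalizer_of_normal hYL hLY hQY hQp hQidx).ge.trans
    (sup_le hYM (inf_le_right.trans hNQ))
  rcases hL.le_iff.1 hLM' with e | e
  · exact h.max.1 e
  · exact hLM e.symm

end Cfsg.Agent.Lib.OddTau.Unique
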