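import Cfsg.Agent.Lib.OddTau.RegularPart
import Cfsg.Agent.Lib.Cores.Gaschutz

/-!
# BG 12.11: complements whose `τ₁ ∪ τ₃`-elements act without fixed points
-/

set_option autoImplicit false
set_option linter.style.haveILetI false
set_option linter.unusedSectionVars false

open scoped Pointwise

namespace Cfsg.Agent.Lib.OddTau.Regular

open Cfsg.Agent.Lib.OddOrder Cfsg.Agent.Lib.OddOrder.MinSimple Cfsg.Agent.Lib.OddTau.Basic
  Cfsg.Agent.Lib.OddTau.TauTwoAbelian Cfsg.Agent.Lib.OddTau.PlaneLines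
  Cfsg.Agent.Lib.OddTau.RegularLocal

universe u

variable {G : Type u} [Group G] [Finite G] {M E : Subgroup G}

theorem mem_tau_of_dvd (hG : Cfsg.IsMinSimpleOddOrder G) (hM : IsCoatom M)
    (hE : Cfsg.IsComplIn E (Cfsg.sigmaCore M) M) {q : ℕ} (hq : q.Prime) (hqE : q ∣ Nat.card E) :
    q ∈ Cfsg.tau1 M ∪ Cfsg.tau3 M ∨ q ∈ Cfsg.tau2 M := by
  haveI := Fact.mk hq
  have hσ := not_sigma_of_dvd hG hM hE hq hqE
  have hq2 : Cfsg.PRankLE q 2 M := by
    by_contra hn
    exact hσ (AlphaCore.alpha_subset_sigma hG hM ⟨hq, hn⟩)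
  by_cases h1 : Cfsg.PRankLE q 1 M
  · by_cases hd : q ∣ Nat.card ↥⁅M, M⁆
    · exact Or.inl (Or.inr ⟨hq, hσ, hd, h1⟩)
    · exact Or.inl (Or.inl ⟨hq, hσ, hqE.trans (Subgroup.card_dvd_of_le hE.1), hd, h1⟩)
  · exact Or.inr ⟨hq, hσ, hq2, h1⟩

/-- The hypothesis of BG 12.11. -/
def Semiregular (M E : Subgroup G) : Prop :=
  ∀ e ∈ E, e ≠ 1 → (∀ q : ℕ, q.Prime → q ∣ orderOf e → q ∈ Cfsg.tau1 M ∪ Cfsg.tau3 M) →
    Cfsg.sigmaCore M ⊓ Subgroup.centralizer ({e} : Set G) = ⊥

theorem fixed_of_prime (h13 : Semiregular M E) {f : G} (hf : f ∈ E) {q : ℕ} (hq : q.Prime)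
    (hfo : orderOf f = q) (hq13 : q ∈ Cfsg.tau1 M ∪ Cfsg.tau3 M) :
    Cfsg.sigmaCore M ⊓ Subgroup.centralizer ({f} : Set G) = ⊥ :=
  h13 f hf (fun e => hq.ne_one (by rw [← hfo, e, orderOf_one])) fun s hs hd => by
    rw [hfo] at hd
    exact (Nat.prime_dvd_prime_iff_eq hs hq).1 hd ▸ hq13

theorem exists_pow_prime_order {e : G} {q : ℕ} (hd : q ∣ orderOf e) :
    orderOf (e ^ (orderOf e / q)) = q := by
  rw [orderOf_pow_of_dvd (Nat.div_pos (Nat.le_of_dvd (orderOf_pos e) hd)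
    (Nat.pos_of_dvd_of_pos hd (orderOf_pos e))).ne' (Nat.div_dvd_of_dvd hd),
    Nat.div_div_self hd (orderOf_pos e).ne']

/-- The elements of `E` with a fixed point are `τ₂(M)`-elements. -/
theorem tau2_of_fixed (hG : Cfsg.IsMinSimpleOddOrder G) (hM : IsCoatom M)
    (hE : Cfsg.IsComplIn E (Cfsg.sigmaCore M) M) (h13 : Semiregular M E) {x e : G}
    (hx : x ∈ Cfsg.sigmaCore M) (hx1 : x ≠ 1) (he : e ∈ E) (hxe : e * x = x * e)
    (q : ℕ) (hq : q.Prime) (hd : q ∣ orderOf e) : q ∈ Cfsg.tau2 M := by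
  refine (mem_tau_of_dvd hG hM hE hq (hd.trans (E.orderOf_dvd_natCard he))).resolve_left
    fun h1 => hx1 ?_
  have hm : x ∈ Cfsg.sigmaCore M ⊓ Subgroup.centralizer ({e ^ (orderOf e / q)} : Set G) :=
    ⟨hx, Subgroup.mem_centralizer_singleton_iff.2
      ((show Commute e x from hxe).pow_left _).eq.symm⟩
  rw [fixed_of_prime h13 (pow_mem he _) hq (exists_pow_prime_order hd) h1,
    Subgroup.mem_bot] at hm
  exact hm

/-- Regularity can be checked on elements of prime order. -/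
theorem regular_of_prime {E₀ : Subgroup G}
    (h : ∀ y ∈ E₀, ∀ q : ℕ, q.Prime → orderOf y = q →
      Cfsg.sigmaCore M ⊓ Subgroup.centralizer ({y} : Set G) = ⊥) {e : G} (he : e ∈ E₀)
    (he1 : e ≠ 1) : Cfsg.sigmaCore M ⊓ Subgroup.centralizer ({e} : Set G) = ⊥ := by
  obtain ⟨q, hq, hd⟩ := Nat.exists_prime_and_dvd fun h1 => he1 (orderOf_eq_one_iff.1 h1)
  refine le_bot_iff.1 ((inf_le_inf_left _ fun x hx => ?_).trans
    (h _ (pow_mem he _) q hq (exists_pow_prime_order hd)).le)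
  exact Subgroup.mem_centralizer_singleton_iff.2
    ((show Commute x e from Subgroup.mem_centralizer_singleton_iff.1 hx).pow_right _).eq

theorem exponent_eq {E₀ : Subgroup G} (hle : E₀ ≤ E)
    (h : ∀ (q n : ℕ), q.Prime → ∀ y ∈ E, orderOf y = q ^ n → y ^ Monoid.exponent E₀ = 1) :
    Monoid.exponent E₀ = Monoid.exponent E := by
  refine Nat.dvd_antisymm
    (Monoid.exponent_dvd_of_monoidHom (Subgroup.inclusion hle) (Subgroup.inclusion_injective hle))
    (Monoid.exponent_dvd.2 fun e => ?_)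
  rw [Nat.dvd_iff_prime_pow_dvd_dvd]
  intro q n hq hd
  have hy : orderOf ((e : G) ^ (orderOf e / q ^ n)) = q ^ n := by
    rw [← Subgroup.orderOf_coe] at hd ⊢
    exact exists_pow_prime_order hd
  rw [← hy]
  exact orderOf_dvd_of_pow_eq_one (h q n hq _ (pow_mem e.2 _) hy)

theorem pow_mul_inv_mem {N : Subgroup G} {k h : G} (hk : k ∈ N)
    (hh : h ∈ Subgroup.normalizer (N : Set G)) : ∀ n : ℕ, (k * h) ^ n * (h ^ n)⁻¹ ∈ N
  | 0 => by simp
  | n + 1 => by
    have ih := pow_mul_inv_mem hk hh n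
    have h1 : h ^ n * k * (h ^ n)⁻¹ ∈ N :=
      (Subgroup.mem_normalizer_iff.1 (pow_mem hh n) k).1 hk
    convert N.mul_mem ih h1 using 1
    rw [pow_succ, pow_succ]
    group

/-- The conclusion of BG 12.11. -/
def Conclusion (M E : Subgroup G) : Prop :=
  (∃ A₀ : Subgroup G, A₀ ≤ E ∧ E ≤ Subgroup.normalizer (A₀ : Set G) ∧ IsMulCommutative A₀ ∧
      ∀ x ∈ Cfsg.sigmaCore M, x ≠ 1 → E ⊓ Subgroup.centralizer ({x} : Set G) ≤ A₀) ∧
    ∃ E₀ : Subgroup G, E₀ ≤ E ∧ Monoid.exponent E₀ = Monoid.exponent E ∧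
      ∀ e ∈ E₀, e ≠ 1 → Cfsg.sigmaCore M ⊓ Subgroup.centralizer ({e} : Set G) = ⊥

theorem of_abelian (hG : Cfsg.IsMinSimpleOddOrder G) (hM : IsCoatom M)
    (hE : Cfsg.IsComplIn E (Cfsg.sigmaCore M) M) (h13 : Semiregular M E)
    (habAll : ∀ (q : ℕ) [Fact q.Prime], q ∈ Cfsg.tau2 M → ∀ T : _root_.Sylow q G,
      IsMulCommutative (T : Subgroup G)) : Conclusion M E := by
  classical
  -- the Sylow subgroups at the primes of `τ₂(M)`
  have hsyl : ∀ (q : ℕ) [Fact q.Prime], q ∈ Cfsg.tau2 M → ∃ (A : Subgroup G)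
      (S : _root_.Sylow q G), Ctx M q A ∧ A ≤ E ∧ A ≤ (S : Subgroup G) ∧
        (S : Subgroup G) ≤ E ∧ E ≤ Subgroup.normalizer ((S : Subgroup G) : Set G) := by
    intro q _ hqτ
    obtain ⟨A, hAE, h⟩ := exists_ctx hG hM hE hqτ
    obtain ⟨S, hAS⟩ := h.isPGroup.exists_le_sylow
    exact ⟨A, S, h, hAE, hAS, sylow_compl h hE hAE hAS (habAll q hqτ S)⟩
  -- `τ₂(M)`-elements of `E` commute
  have hcomm : ∀ a b : G, a ∈ E → b ∈ E →
      (∀ q : ℕ, q.Prime → q ∣ orderOf a → q ∈ Cfsg.tau2 M) →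
      (∀ q : ℕ, q.Prime → q ∣ orderOf b → q ∈ Cfsg.tau2 M) → Commute a b := by
    intro a b haE hbE ha hb
    refine (Subgroup.mem_centralizer_singleton_iff.1
      (OddLocal.DerivedFitting.mem_of_primePow_parts (H := Subgroup.centralizer ({a} : Set G))
        fun s hs y hy ⟨n, hn⟩ => ?_)).symm
    rcases n with _ | n
    · rw [pow_zero, orderOf_eq_one_iff] at hn
      exact hn ▸ one_mem _
    haveI := Fact.mk hs
    have hsτ : s ∈ Cfsg.tau2 M := hb s hs ((dvd_pow_self s n.succ_ne_zero).trans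
      (hn ▸ orderOf_dvd_of_mem_zpowers hy))
    obtain ⟨A, S, h, hAE, hAS, hSE, hES⟩ := hsyl s hsτ
    have hyS : y ∈ (S : Subgroup G) := eq_of_le_normalizer S (isPGroup_zpowers hn)
      (Subgroup.zpowers_le.2 (hES (Subgroup.zpowers_le.2 hbE hy))) (Subgroup.mem_zpowers y)
    exact Subgroup.mem_centralizer_singleton_iff.2
      (Subgroup.mem_centralizer_iff.1 (commute_tau2 hG hM hE habAll h hAE hAS haE ha) y hyS)
  let A₀ : Subgroup G :=
    { carrier := {e | e ∈ E ∧ ∀ q : ℕ, q.Prime → q ∣ orderOf e → q ∈ Cfsg.tau2 M}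
      one_mem' := ⟨one_mem _, fun q hq hd => absurd (by simpa using hd) hq.ne_one⟩
      mul_mem' := fun {a b} ha hb => ⟨mul_mem ha.1 hb.1, fun q hq hd =>
        (hq.dvd_mul.1 ((hd.trans (hcomm a b ha.1 hb.1 ha.2 hb.2).orderOf_mul_dvd_lcm).trans
          (Nat.lcm_dvd_mul _ _))).elim (ha.2 q hq) (hb.2 q hq)⟩
      inv_mem' := fun {a} ha => ⟨inv_mem ha.1, fun q hq hd => ha.2 q hq (by
        rwa [orderOf_inv] at hd)⟩ }
  have hA₀E : A₀ ≤ E := fun e he => he.1
  have hA₀n : E ≤ Subgroup.normalizer (A₀ : Set G) := fun g hg =>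
    Subgroup.mem_normalizer_fintype fun e he => ⟨mul_mem (mul_mem hg he.1) (inv_mem hg),
      fun q hq hd => he.2 q hq (by
        rwa [show g * e * g⁻¹ = (MulAut.conj g).toMonoidHom e from rfl,
          orderOf_injective (MulAut.conj g).toMonoidHom (MulAut.conj g).injective] at hd)⟩
  have hA₀c : IsMulCommutative A₀ := Abelian.isMulCommutative_of_forall fun a ha b hb =>
    hcomm a b ha.1 hb.1 ha.2 hb.2
  refine ⟨⟨A₀, hA₀E, hA₀n, hA₀c, fun x hx hx1 e he => ⟨he.1,
    tau2_of_fixed hG hM hE h13 hx hx1 he.1 (Subgroup.mem_centralizer_singleton_iff.1 he.2)⟩⟩, ?_⟩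
  have hA₀τ : ∀ q : ℕ, q.Prime → q ∣ Nat.card A₀ → q ∈ Cfsg.tau2 M := by
    intro q hq hd
    haveI := Fact.mk hq
    obtain ⟨y, hy⟩ := exists_prime_orderOf_dvd_card' q hd
    exact y.2.2 q hq (by rw [Subgroup.orderOf_coe, hy])
  -- a complement of `A₀`
  have hmemA₀ : ∀ (q : ℕ), q.Prime → q ∈ Cfsg.tau2 M → ∀ (y : G) (n : ℕ), y ∈ E →
      orderOf y = q ^ n → y ∈ A₀ := fun q hq hqτ y n hy hn => ⟨hy, fun s hs hd => by
    rw [hn] at hd
    exact (Nat.prime_dvd_prime_iff_eq hs hq).1 (hs.dvd_of_dvd_pow hd) ▸ hqτ⟩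
  have hcop : (Nat.card (A₀.subgroupOf E)).Coprime (A₀.subgroupOf E).index := by
    rw [Nat.card_congr (Subgroup.subgroupOfEquivOfLe hA₀E).toEquiv]
    refine Nat.coprime_of_dvd fun q hq hd hi => ?_
    haveI := Fact.mk hq
    obtain ⟨A, S, h, hAE, hAS, hSE, hES⟩ := hsyl q (hA₀τ q hq hd)
    have hSA₀ : (S : Subgroup G) ≤ A₀ := fun y hy => by
      obtain ⟨n, hn⟩ := S.2 ⟨y, hy⟩
      obtain ⟨i, -, hi⟩ := (Nat.dvd_prime_pow hq).1 (orderOf_dvd_of_pow_eq_one
        (by simpa using congrArg Subtype.val hn : y ^ q ^ n = 1))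
      exact hmemA₀ q hq h.tau y i (hSE hy) hi
    refine S.not_dvd_index (hi.trans ?_)
    rw [← Subgroup.relIndex_mul_index hSE]
    exact Dvd.dvd.mul_right (Subgroup.relIndex_dvd_of_le_left E hSA₀) _
  haveI : (A₀.subgroupOf E).Normal := (Subgroup.normal_subgroupOf_iff_le_normalizer hA₀E).2 hA₀n
  obtain ⟨H, hH⟩ := Subgroup.exists_right_complement'_of_coprime hcop
  set H₀ := H.map E.subtype with hH₀
  have hH₀E : H₀ ≤ E := Subgroup.map_subtype_le _
  have hH₀d : ∀ y ∈ H₀, y ∈ A₀ → y = 1 := by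
    rintro _ ⟨y, hy, rfl⟩ hyA
    have h1 : y ∈ A₀.subgroupOf E ⊓ H := ⟨hyA, hy⟩
    rw [hH.disjoint.eq_bot, Subgroup.mem_bot] at h1
    rw [h1]; rfl
  -- the regular parts
  have hU : ∀ q : ℕ, ∃ U : Subgroup G, q ∈ Cfsg.tau2 M → U ≤ E ∧ IsPGroup q U ∧
      E ≤ Subgroup.normalizer (U : Set G) ∧
      (∀ y ∈ U, orderOf y = q → Cfsg.sigmaCore M ⊓ Subgroup.centralizer ({y} : Set G) = ⊥) ∧
      ∃ u ∈ U, ∀ y ∈ E, ∀ n : ℕ, orderOf y = q ^ n → y ^ orderOf u = 1 := by
    intro q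
    by_cases hqτ : q ∈ Cfsg.tau2 M
    · haveI := Fact.mk hqτ.1
      obtain ⟨A, S, h, hAE, -, -, -⟩ := hsyl q hqτ
      obtain ⟨U, hU⟩ := RegularPart.exists_regular h hE hAE habAll h13
      exact ⟨U, fun _ => hU⟩
    · exact ⟨⊥, fun h => absurd h hqτ⟩
  choose U hU using hU
  let m : ℕ → ℕ := fun q => Nat.card A₀ / q ^ (Nat.card A₀).factorization q
  let V : Subgroup G :=
    { carrier := {e | e ∈ A₀ ∧ ∀ q ∈ Cfsg.tau2 M, e ^ m q ∈ U q}
      one_mem' := ⟨one_mem _, fun q _ => by rw [one_pow]; exact one_mem _⟩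
      mul_mem' := fun {a b} ha hb => ⟨A₀.mul_mem ha.1 hb.1, fun q hq => by
        rw [(show Commute a b from hcomm a b ha.1.1 hb.1.1 ha.1.2 hb.1.2).mul_pow]
        exact mul_mem (ha.2 q hq) (hb.2 q hq)⟩
      inv_mem' := fun {a} ha => ⟨A₀.inv_mem ha.1, fun q hq => by
        rw [inv_pow]; exact inv_mem (ha.2 q hq)⟩ }
  have hVn : E ≤ Subgroup.normalizer (V : Set G) := fun g hg =>
    Subgroup.mem_normalizer_fintype fun e he =>
      ⟨(Subgroup.mem_normalizer_iff.1 (hA₀n hg) e).1 he.1, fun q hq => by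
        rw [conj_pow]
        exact (Subgroup.mem_normalizer_iff.1 ((hU q hq).2.2.1 hg) _).1 (he.2 q hq)⟩
  have hVE : V ≤ E := fun e he => hA₀E he.1
  refine ⟨H₀ ⊔ V, sup_le hH₀E hVE, ?_, fun e he he1 => regular_of_prime ?_ he he1⟩
  · refine exponent_eq (sup_le hH₀E hVE) fun q n hq y hy hyo => ?_
    haveI := Fact.mk hq
    set N := Monoid.exponent ↥(H₀ ⊔ V) with hN
    by_cases hqτ : q ∈ Cfsg.tau2 M
    · obtain ⟨hUE, hUp, -, -, u, hu, huy⟩ := hU q hqτ
      have huV : u ∈ V := by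
        obtain ⟨k, hk⟩ := IsPGroup.iff_orderOf.1 hUp ⟨u, hu⟩
        rw [Subgroup.orderOf_mk] at hk
        have huA : u ∈ A₀ := hmemA₀ q hq hqτ u k (hUE hu) hk
        refine ⟨huA, fun r hr => ?_⟩
        by_cases hrq : r = q
        · subst hrq
          exact pow_mem hu _
        · have hdvd : orderOf u ∣ m r := by
            refine Nat.Coprime.dvd_of_dvd_mul_left (k := q ^ k)
              (m := r ^ (Nat.card A₀).factorization r) (n := m r) ?_ ?_ |> fun h => hk ▸ h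
            · exact ((Nat.coprime_primes hq hr.1).2 (Ne.symm hrq)).pow _ _
            · rw [Nat.ordProj_mul_ordCompl_eq_self, ← hk]
              exact A₀.orderOf_dvd_natCard huA
          rw [orderOf_dvd_iff_pow_eq_one.1 hdvd]
          exact one_mem _
      have hd : orderOf u ∣ N := by
        rw [← Subgroup.orderOf_mk u (Subgroup.mem_sup_right huV)]
        exact Monoid.order_dvd_exponent _
      obtain ⟨c, hc⟩ := hd
      rw [hc, pow_mul, huy y hy n hyo, one_pow]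
    · have hmem := (Set.ext_iff.1 hH.mul_eq ⟨y, hy⟩).2 (Set.mem_univ _)
      obtain ⟨k, hk, b, hb, e⟩ := Set.mem_mul.1 hmem
      have e' : (k : G) * (b : G) = y := congrArg Subtype.val e
      have hbN : (b : G) ^ N = 1 := by
        have h1 := Monoid.pow_exponent_eq_one (⟨(b : G),
          Subgroup.mem_sup_left ⟨b, hb, rfl⟩⟩ : ↥(H₀ ⊔ V))
        simpa using congrArg Subtype.val h1
      have h1 := pow_mul_inv_mem (N := A₀) (k := (k : G)) (h := (b : G)) hk (hA₀n b.2) N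
      rw [e', hbN, inv_one, mul_one] at h1
      refine orderOf_eq_one_iff.1 ?_
      by_contra hne
      obtain ⟨s, hs, hsd⟩ := Nat.exists_prime_and_dvd hne
      have hsq : s = q := (Nat.prime_dvd_prime_iff_eq hs hq).1
        (hs.dvd_of_dvd_pow (hyo ▸ hsd.trans (orderOf_pow_dvd N)))
      exact hqτ (hsq ▸ h1.2 s hs hsd)
  · intro y hy q hq hyo
    haveI := Fact.mk hq
    have hyE : y ∈ E := sup_le hH₀E hVE hy
    rcases mem_tau_of_dvd hG hM hE hq (hyo ▸ E.orderOf_dvd_natCard hyE) with h1 | h2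
    · exact fixed_of_prime h13 hyE hq hyo h1
    have hyA : y ∈ A₀ := hmemA₀ q hq h2 y 1 hyE (by rw [hyo, pow_one])
    have hy' : y ∈ ((H₀ ⊔ V : Subgroup G) : Set G) := hy
    rw [Subgroup.coe_mul_of_left_le_normalizer_right _ _ (hH₀E.trans hVn)] at hy'
    obtain ⟨a, ha, b, hb, e⟩ := Set.mem_mul.1 hy'
    have ha1 : a = 1 := hH₀d a ha (by
      rw [eq_mul_inv_of_mul_eq e]
      exact A₀.mul_mem hyA (A₀.inv_mem hb.1))
    rw [ha1, one_mul] at e
    subst e
    obtain ⟨-, -, -, hfix, -⟩ := hU q h2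
    refine hfix b ?_ hyo
    obtain ⟨j, hj⟩ := exists_pow_eq_self_of_coprime (x := b) (n := m q) (by
      rw [hyo]
      exact ((Nat.Prime.coprime_iff_not_dvd hq).2 (Nat.not_dvd_ordCompl hq Nat.card_pos.ne')).symm)
    rw [← hj]
    exact pow_mem (hb.2 q h2) j

variable {p : ℕ} [hp : Fact p.Prime] {A : Subgroup G}

theorem of_nonabelian (h : Ctx M p A) (hE : Cfsg.IsComplIn E (Cfsg.sigmaCore M) M) (hAE : A ≤ E)
    (h13 : Semiregular M E) (hS : ∀ S : _root_.Sylow p G, ¬ IsMulCommutative (S : Subgroup G)) :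
    Conclusion M E := by
  classical
  obtain ⟨S, z, a, g, d⟩ := NonabelianSylow.exists_data h hS
  have hEA := Context.le_normalizer_of_compl h hE hAE
  have hτ := d.tau2_eq hE hAE
  have ha1 : a ≠ 1 := fun e => d.anotz (e ▸ one_mem _)
  have hMa : M ≤ Subgroup.normalizer (Subgroup.zpowers a : Set G) := by
    intro m hm
    obtain ⟨e, he, v, hv, rfl⟩ := hE.2.2.2 m hm
    refine mul_mem ?_ (Subgroup.centralizer_le_normalizer _ (Subgroup.mem_centralizer_iff.2 ?_))
    · rw [← d.inf_centralizer]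
      exact Coprime.le_normalizer_inf (A := E) hEA
        ((hE.1.trans (le_normalizer_sigmaCore M)).trans
          (Fitting.normalizer_le_normalizer_centralizer _)) he
    · rintro _ ⟨j, rfl⟩
      exact ((show Commute v a from
        Subgroup.mem_centralizer_singleton_iff.1 (d.le_centralizer hv)).zpow_right j).eq.symm
  have hline : ∀ {y : G}, y ∈ E → orderOf y = p → y ∈ A := fun {y} hy hyo =>
    Context.le_of_card_prime h ((Subgroup.zpowers_le.2 hy).trans hE.1)
      ((Subgroup.zpowers_le.2 hy).trans hEA) (by rw [Nat.card_zpowers, hyo])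
      (Subgroup.mem_zpowers y)
  -- no element of order `p ^ 2` of `M` has its socle in `⟨a⟩`
  have hsocle : ∀ {y : G} {k : ℕ}, y ∈ M → y ^ p ^ k = 1 → y ^ p ∈ Subgroup.zpowers a →
      y ^ p = 1 := by
    intro y k hy hyk hya
    obtain ⟨i, -, hi⟩ := (Nat.dvd_prime_pow hp.out).1 (orderOf_dvd_of_pow_eq_one hyk)
    obtain ⟨P, hAP, hPS⟩ := d.sylow
    obtain ⟨Q, hQ⟩ := ((isPGroup_zpowers hi).comap_subtype (K := M)).exists_le_sylow
    obtain ⟨m, hm, hmQ⟩ := Coprime.exists_conj_sylow_map Q P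
    have hy' : m * y * m⁻¹ ∈ (P : Subgroup M).map M.subtype := by
      rw [← hmQ]
      exact Subgroup.smul_mem_pointwise_smul y (MulAut.conj m) _ ⟨⟨y, hy⟩,
        hQ (show (⟨y, hy⟩ : M) ∈ (Subgroup.zpowers y).comap M.subtype from Subgroup.mem_zpowers y),
        rfl⟩
    obtain ⟨j, hj⟩ := (Subgroup.mem_normalizer_iff.1 (hMa hm) (y ^ p)).1 hya
    have hj' : a ^ j = (m * y * m⁻¹) ^ p ^ (0 + 1) := by
      rw [zero_add, pow_one, conj_pow]; exact hj
    have huC := NonabelianSylow.socle_mem_centralizer h P hAP S hPS hy' (j := 0) (by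
      rw [← hj']; exact h.elem.2 _ (zpow_mem d.amem j))
    rw [← hj', Subgroup.mem_centralizer_iff] at huC
    obtain ⟨i, hi0, hi'⟩ := d.step
    have hju : g * a ^ j * g⁻¹ = a ^ j := by
      rw [huC g d.gmem, mul_inv_cancel_right]
    rw [← conj_zpow, hi', ((h.comm d.zmem d.amem).zpow_left i).mul_zpow, mul_eq_right,
      ← zpow_mul, ← orderOf_dvd_iff_zpow_eq_one, h.orderOf_eq d.zmem d.zne,
      ← ZMod.intCast_zmod_eq_zero_iff_dvd] at hju
    push_cast at hju
    have hj0 := (mul_eq_zero.1 hju).resolve_left hi0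
    rw [ZMod.intCast_zmod_eq_zero_iff_dvd] at hj0
    obtain ⟨c, rfl⟩ := hj0
    rw [zpow_mul, zpow_natCast, h.elem.2 a d.amem, one_zpow, zero_add, pow_one, conj_pow] at hj'
    exact conj_eq_one_iff.1 hj'.symm
  refine ⟨⟨A, hAE, hEA, h.elem.1, fun x hx hx1 e he => ?_⟩, ?_⟩
  · obtain ⟨he, hex⟩ := he
    have hxe : Commute e x := Subgroup.mem_centralizer_singleton_iff.1 hex
    have hq : ∀ q : ℕ, q.Prime → q ∣ orderOf e → q = p := fun q hq hd => by
      have := tau2_of_fixed h.min h.max hE h13 hx hx1 he hxe.eq q hq hd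
      rwa [hτ] at this
    have hn := Nat.eq_prime_pow_of_unique_prime_dvd (orderOf_pos e).ne' fun {q} => hq q
    set n := (orderOf e).primeFactorsList.length with hn'
    by_contra heA
    have he1 : e ≠ 1 := fun e' => heA (e' ▸ one_mem _)
    rcases n with _ | _ | n
    · rw [pow_zero, orderOf_eq_one_iff] at hn; exact he1 hn
    · rw [zero_add, pow_one] at hn; exact heA (hline he hn)
    set y := e ^ p ^ n with hy
    have hyp : orderOf (y ^ p) = p := by
      refine orderOf_eq_prime ?_ fun h1 => ?_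
      · rw [hy, ← pow_mul, ← pow_mul, show p ^ n * (p * p) = p ^ (n + 1 + 1) by ring, ← hn,
          pow_orderOf_eq_one]
      · rw [hy, ← pow_mul, ← pow_succ] at h1
        have hd := orderOf_dvd_iff_pow_eq_one.2 h1
        rw [hn, Nat.pow_dvd_pow_iff_le_right hp.out.one_lt] at hd
        omega
    have hyE : y ∈ E := pow_mem he _
    have hya : y ^ p ∈ Subgroup.zpowers a := by
      by_contra hna
      have hm : x ∈ Cfsg.sigmaCore M ⊓ Subgroup.centralizer ({y ^ p} : Set G) :=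
        ⟨hx, Subgroup.mem_centralizer_singleton_iff.2 ((hxe.pow_left _).pow_left _).eq.symm⟩
      rw [(d.outside (hline (pow_mem hyE p) hyp) hna).1, Subgroup.mem_bot] at hm
      exact hx1 hm
    have := hsocle (k := n + 2) (hE.1 hyE) (by
      rw [hy, ← pow_mul, ← pow_add, orderOf_dvd_iff_pow_eq_one.1]
      rw [hn]; exact pow_dvd_pow p (by omega)) hya
    rw [this, orderOf_one] at hyp
    exact hp.out.ne_one hyp.symm
  -- a complement of `⟨a⟩` in `E`
  set K := (Subgroup.zpowers a).subgroupOf E with hK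
  have hKle : Subgroup.zpowers a ≤ E := Subgroup.zpowers_le.2 (hAE d.amem)
  haveI : K.Normal :=
    (Subgroup.normal_subgroupOf_iff_le_normalizer hKle).2 (hE.1.trans hMa)
  haveI : IsMulCommutative K := Abelian.isMulCommutative_of_forall fun x hx y hy =>
    Subtype.ext (setLike_mul_comm (s := Subgroup.zpowers a) hx hy)
  have hKc : Nat.card K = p := by
    rw [hK, Nat.card_congr (Subgroup.subgroupOfEquivOfLe hKle).toEquiv, Nat.card_zpowers,
      h.orderOf_eq d.amem ha1]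
  obtain ⟨U, hAU⟩ := (h.isPGroup.comap_subtype (K := E)).exists_le_sylow
  have hUab : IsMulCommutative (U : Subgroup E) := by
    have hc : IsMulCommutative ↥((U : Subgroup E).map E.subtype) := by
      by_contra hna
      exact h.not_sigma (Nonabelian.mem_sigma h.min h.max (U.2.map _) hna
        ((Subgroup.map_subtype_le _).trans hE.1))
    exact ⟨⟨fun x y => Subtype.ext (E.subtype_injective (congrArg Subtype.val
      (hc.is_comm.comm ⟨_, Subgroup.mem_map_of_mem E.subtype x.2⟩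
        ⟨_, Subgroup.mem_map_of_mem E.subtype y.2⟩)))⟩⟩
  letI : CommGroup (U : Subgroup E) :=
    { (inferInstance : Group (U : Subgroup E)) with mul_comm := hUab.is_comm.comm }
  set a' : (U : Subgroup E) := ⟨⟨a, hAE d.amem⟩, hAU (show (⟨a, hAE d.amem⟩ : E) ∈
    A.comap E.subtype from d.amem)⟩ with ha'
  set Φ := (powMonoidHom p : (U : Subgroup E) →* (U : Subgroup E)).range with hΦ
  have haΦ : a' ∉ Φ := by
    rintro ⟨y, hy⟩
    obtain ⟨k, hk⟩ := U.2 y
    have h' : ((y : E) : G) ^ p = a := congrArg (fun w : (U : Subgroup E) => ((w : E) : G)) hy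
    exact ha1 (h' ▸ hsocle (k := k) (hE.1 (y : E).2)
      (by simpa using congrArg (fun w : (U : Subgroup E) => ((w : E) : G)) hk)
      (h'.symm ▸ Subgroup.mem_zpowers a))
  obtain ⟨B, ⟨hΦB, haB⟩, hmax⟩ :=
    (Set.toFinite {B : Subgroup (U : Subgroup E) | Φ ≤ B ∧ a' ∉ B}).exists_maximal
      ⟨Φ, le_rfl, haΦ⟩
  have hBtop : B ⊔ Subgroup.zpowers a' = ⊤ := by
    refine eq_top_iff.2 fun y _ => ?_
    by_cases hy : y ∈ B
    · exact Subgroup.mem_sup_left hy
    have ha : a' ∈ B ⊔ Subgroup.zpowers y := by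
      by_contra hn
      exact hy (hmax ⟨hΦB.trans le_sup_left, hn⟩ le_sup_left
        (Subgroup.mem_sup_right (Subgroup.mem_zpowers y)))
    obtain ⟨b, hb, _, ⟨i, rfl⟩, hbi⟩ := Subgroup.mem_sup.1 ha
    have hyp : y ^ p ∈ B := hΦB ⟨y, rfl⟩
    have hnd : ¬ (p : ℤ) ∣ i := by
      rintro ⟨c, rfl⟩
      refine haB (hbi ▸ mul_mem hb ?_)
      show y ^ ((p : ℤ) * c) ∈ B
      rw [zpow_mul, zpow_natCast]
      exact zpow_mem hyp c
    obtain ⟨u, v, huv⟩ := ((Nat.prime_iff_prime_int.1 hp.out).coprime_iff_not_dvd.2 hnd).symm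
    have hyi : y ^ i = b⁻¹ * a' := eq_inv_mul_of_mul_eq hbi
    have : y = (y ^ i) ^ u * (y ^ p) ^ v := by
      rw [← zpow_natCast y p, ← zpow_mul, ← zpow_mul, ← zpow_add, mul_comm i, mul_comm (p : ℤ),
        huv, zpow_one]
    rw [this, hyi]
    exact mul_mem (zpow_mem (mul_mem (Subgroup.mem_sup_left (inv_mem hb))
      (Subgroup.mem_sup_right (Subgroup.mem_zpowers a'))) u)
      (Subgroup.mem_sup_left (zpow_mem hyp v))
  have hKU : K ≤ (U : Subgroup E) := fun x hx => hAU (show (x : E) ∈ A.comap E.subtype from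
    Subgroup.zpowers_le.2 d.amem hx)
  have hmapa : (Subgroup.zpowers a').map (U : Subgroup E).subtype = K := by
    rw [MonoidHom.map_zpowers]
    refine le_antisymm (Subgroup.zpowers_le.2 (Subgroup.mem_zpowers a : _)) fun x hx => ?_
    obtain ⟨i, hi⟩ := (hx : (x : G) ∈ Subgroup.zpowers a)
    exact ⟨i, Subtype.ext (by simpa using hi)⟩
  have hB0 : B ⊓ Subgroup.zpowers a' = ⊥ := by
    refine le_bot_iff.1 fun x hx => Subgroup.mem_bot.2 ?_
    by_contra hx1
    have ha'o : orderOf a' = p := by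
      rw [ha', ← Subgroup.orderOf_coe, ← Subgroup.orderOf_coe]
      exact h.orderOf_eq d.amem ha1
    have hz : Subgroup.zpowers x = Subgroup.zpowers a' :=
      Subgroup.eq_of_le_of_card_ge (Subgroup.zpowers_le.2 hx.2) (by
        have hxd : orderOf x ∣ p := (orderOf_dvd_of_mem_zpowers hx.2).trans ha'o.dvd
        rw [Nat.card_zpowers, Nat.card_zpowers, ha'o]
        exact (((Nat.dvd_prime hp.out).1 hxd).resolve_left
          (fun h1 => hx1 (orderOf_eq_one_iff.1 h1))).ge)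
    exact haB (Subgroup.zpowers_le.2 hx.1 (hz ▸ Subgroup.mem_zpowers a'))
  obtain ⟨H, hH⟩ := Cores.Gaschutz.exists_complement (K := K) (U := (U : Subgroup E))
    (A := B.map (U : Subgroup E).subtype) hKU
    (by rw [hKc]; exact (Nat.Prime.coprime_iff_not_dvd hp.out).2 U.not_dvd_index)
    (by rw [← hmapa, ← Subgroup.map_inf _ _ _ (U : Subgroup E).subtype_injective, hB0,
          Subgroup.map_bot])
    (by rw [← hmapa, ← Subgroup.map_sup, sup_comm, hBtop, ← MonoidHom.range_eq_map,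
          Subgroup.range_subtype])
  refine ⟨H.map E.subtype, Subgroup.map_subtype_le _, ?_, fun e he he1 => regular_of_prime ?_ he he1⟩
  · refine exponent_eq (Subgroup.map_subtype_le _) fun q n hq y hy hyo => ?_
    rw [Monoid.exponent_eq_of_mulEquiv
      (H.equivMapOfInjective E.subtype E.subtype_injective).symm]
    set N := Monoid.exponent H with hN
    have hpN : p ∣ N := by
      have h2 : p ^ 2 ∣ Nat.card E := h.card ▸ Subgroup.card_dvd_of_le hAE
      rw [← hH.card_mul_card, hKc, pow_two] at h2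
      obtain ⟨w, hw⟩ := exists_prime_orderOf_dvd_card' (G := H) p
        (Nat.dvd_of_mul_dvd_mul_left hp.out.pos h2)
      exact hw ▸ Monoid.order_dvd_exponent w
    have hHN : ∀ b ∈ H, b ^ N = 1 := fun b hb => by
      simpa using congrArg Subtype.val (Monoid.pow_exponent_eq_one (⟨b, hb⟩ : H))
    haveI := Fact.mk hq
    set y' : E := ⟨y, hy⟩ with hy'
    suffices y' ^ N = 1 by simpa using congrArg Subtype.val this
    by_cases hqp : q = p
    · subst hqp
      obtain ⟨Q, hQ⟩ := (isPGroup_zpowers (y := y') (n := n) (by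
        rw [hy', Subgroup.orderOf_mk, hyo])).exists_le_sylow
      obtain ⟨c, hc⟩ := MulAction.exists_smul_eq E Q U
      have hcU : c * y' * c⁻¹ ∈ (U : Subgroup E) := by
        rw [← hc, Sylow.coe_subgroup_smul]
        exact Subgroup.smul_mem_pointwise_smul y' (MulAut.conj c) _
          (hQ (Subgroup.mem_zpowers y'))
      obtain ⟨k, hk, b, hb, e⟩ := Set.mem_mul.1
        ((Set.ext_iff.1 hH.mul_eq (c * y' * c⁻¹)).2 (Set.mem_univ _))
      have hbU : b ∈ (U : Subgroup E) := by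
        rw [eq_inv_mul_of_mul_eq e]
        exact (U : Subgroup E).mul_mem ((U : Subgroup E).inv_mem (hKU hk)) hcU
      have hcm : Commute k b :=
        congrArg Subtype.val (hUab.is_comm.comm ⟨k, hKU hk⟩ ⟨b, hbU⟩)
      have h1 : (c * y' * c⁻¹) ^ N = 1 := by
        rw [← e, hcm.mul_pow, hHN b hb, mul_one]
        obtain ⟨t, ht⟩ := hpN
        rw [ht, pow_mul, orderOf_dvd_iff_pow_eq_one.1 ((K.orderOf_dvd_natCard hk).trans hKc.dvd),
          one_pow]
      rw [conj_pow] at h1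
      exact conj_eq_one_iff.1 h1
    · obtain ⟨k, hk, b, hb, e⟩ := Set.mem_mul.1 ((Set.ext_iff.1 hH.mul_eq y').2 (Set.mem_univ _))
      have h1 := pow_mul_inv_mem (N := K) (k := k) (h := b) hk
        ((Subgroup.normalizer_eq_top_iff.2 inferInstance).ge (Subgroup.mem_top b)) N
      rw [e, hHN b hb, inv_one, mul_one] at h1
      refine orderOf_eq_one_iff.1 (Nat.eq_one_of_dvd_coprimes
        (((Nat.coprime_primes hq hp.out).2 hqp).pow_left n) ?_ (hKc ▸ K.orderOf_dvd_natCard h1))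
      exact (orderOf_pow_dvd N).trans (dvd_of_eq (by rw [hy', Subgroup.orderOf_mk, hyo]))
  · rintro _ ⟨y, hy, rfl⟩ q hq hyo
    haveI := Fact.mk hq
    rw [Subgroup.subtype_apply] at hyo ⊢
    rcases mem_tau_of_dvd h.min h.max hE hq (hyo ▸ E.orderOf_dvd_natCard y.2) with h1 | h2
    · exact fixed_of_prime h13 y.2 hq hyo h1
    rw [hτ, Set.mem_singleton_iff] at h2
    subst h2
    refine (d.outside (hline y.2 hyo) fun hm => ?_).1
    have h1 : y ∈ K ⊓ H := ⟨hm, hy⟩
    rw [hH.disjoint.eq_bot, Subgroup.mem_bot] at h1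
    rw [h1, OneMemClass.coe_one, orderOf_one] at hyo
    exact hq.ne_one hyo.symm

end Cfsg.Agent.Lib.OddTau.Regular
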