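import Cfsg.Agent.Lib.OddTau.TauTwoAbelian

/-!
# BG 12.11: the lines of `A` under `N(A)`, `p ∈ τ₂(M)` with abelian Sylow subgroups
-/

set_option autoImplicit false
set_option linter.style.haveILetI false
set_option linter.unusedSectionVars false

open scoped Pointwise commutatorElement

namespace Cfsg.Agent.Lib.OddTau.PlaneLines

open Cfsg.Agent.Lib.OddOrder Cfsg.Agent.Lib.OddOrder.MinSimple Cfsg.Agent.Lib.OddTau.Basic
  Cfsg.Agent.Lib.OddTau.TauTwoAbelian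

universe u

variable {G : Type u} [Group G] [Finite G]

/-- In a cyclic group an element of order dividing the prime `r` is a power of any element of
order `r`. -/
theorem mem_zpowers_of_cyclic {r : ℕ} [hr : Fact r.Prime] {H : Subgroup G} (hH : IsCyclic H)
    {x y : G} (hx : x ∈ H) (hy : y ∈ H) (hxr : x ^ r = 1) (hy1 : y ≠ 1) (hyr : y ^ r = 1) :
    x ∈ Subgroup.zpowers y := by
  haveI := hH
  letI := IsCyclic.commGroup (α := H)
  set J := Subgroup.zpowers x ⊔ Subgroup.zpowers y with hJ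
  have hJH : J ≤ H := sup_le (Subgroup.zpowers_le.2 hx) (Subgroup.zpowers_le.2 hy)
  have hJe : Cfsg.IsElementaryAbelian r J :=
    PGroups.elemAb_sup (PGroups.elemAb_zpowers hxr) (PGroups.elemAb_zpowers hyr) fun a ha b hb =>
      congrArg Subtype.val (mul_comm (⟨a, Subgroup.zpowers_le.2 hx ha⟩ : H)
        ⟨b, Subgroup.zpowers_le.2 hy hb⟩)
  haveI : IsCyclic J := Subgroup.isCyclic_of_le hJH
  have he : Subgroup.zpowers y = J := Subgroup.eq_of_le_of_card_ge le_sup_right (by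
    rw [Nat.card_zpowers, orderOf_eq_prime hyr hy1]
    exact Nat.le_of_dvd hr.out.pos (PGroups.elemAb_card_dvd_of_isCyclic hJe))
  exact he ▸ Subgroup.mem_sup_left (Subgroup.mem_zpowers x)

variable {p : ℕ} [hp : Fact p.Prime] {M A E : Subgroup G}

/-- The subgroups of `A` are `1`, lines and `A`. -/
theorem card_cases (h : Ctx M p A) {W : Subgroup G} (hW : W ≤ A) :
    W = ⊥ ∨ Nat.card W = p ∨ W = A := by
  obtain ⟨i, hi, hiW⟩ := (Nat.dvd_prime_pow hp.out).1 (h.card ▸ Subgroup.card_dvd_of_le hW)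
  rcases i with _ | _ | i
  · exact Or.inl (Subgroup.card_eq_one.1 (hiW.trans (pow_zero p)))
  · exact Or.inr (Or.inl (hiW.trans (by rw [zero_add, pow_one])))
  · refine Or.inr (Or.inr (Subgroup.eq_of_le_of_card_ge hW ?_))
    rw [h.card, hiW]
    exact Nat.pow_le_pow_right hp.out.pos (by omega)

/-- The line through a nontrivial element of a line is that line. -/
theorem zpowers_eq (h : Ctx M p A) {a b : G} (ha : a ∈ A) (hb : b ∈ Subgroup.zpowers a)
    (hb1 : b ≠ 1) : Subgroup.zpowers b = Subgroup.zpowers a := by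
  have ha1 : a ≠ 1 := fun e => hb1 (by rw [e, Subgroup.zpowers_one_eq_bot] at hb; exact hb)
  exact Subgroup.eq_of_le_of_card_ge (Subgroup.zpowers_le.2 hb) (by
    rw [Nat.card_zpowers, Nat.card_zpowers, h.orderOf_eq ha ha1,
      h.orderOf_eq (Subgroup.zpowers_le.2 ha hb) hb1])

omit hp in
theorem conj_mem_of_mem_zpowers {e a b : G} (he : e * a * e⁻¹ ∈ Subgroup.zpowers a)
    (hb : b ∈ Subgroup.zpowers a) : e * b * e⁻¹ ∈ Subgroup.zpowers a := by
  obtain ⟨i, rfl⟩ := hb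
  show e * a ^ i * e⁻¹ ∈ _
  rw [← conj_zpow]
  exact zpow_mem he i

omit hp in
theorem mem_normalizer_zpowers {e a : G} (he : e * a * e⁻¹ ∈ Subgroup.zpowers a) :
    e ∈ Subgroup.normalizer (Subgroup.zpowers a : Set G) :=
  Subgroup.mem_normalizer_fintype fun _ hb => conj_mem_of_mem_zpowers he hb

/-- An element with three invariant lines in `A` fixes every line. -/
theorem scalar_of_three (h : Ctx M p A) {e a₁ a₂ a₃ : G} (h1 : a₁ ∈ A) (h2 : a₂ ∈ A) (h3 : a₃ ∈ A)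
    (ha2 : a₂ ≠ 1) (h12 : a₁ ∉ Subgroup.zpowers a₂) (h31 : a₃ ∉ Subgroup.zpowers a₁)
    (h32 : a₃ ∉ Subgroup.zpowers a₂) (e1 : e * a₁ * e⁻¹ ∈ Subgroup.zpowers a₁)
    (e2 : e * a₂ * e⁻¹ ∈ Subgroup.zpowers a₂) (e3 : e * a₃ * e⁻¹ ∈ Subgroup.zpowers a₃)
    {b : G} (hb : b ∈ A) : e * b * e⁻¹ ∈ Subgroup.zpowers b := by
  obtain ⟨i, hi⟩ := e1
  obtain ⟨j, hj⟩ := e2
  obtain ⟨l, hl⟩ := e3
  obtain ⟨s, t, hst⟩ := NonabelianSylow.exists_eq_zpow_mul h h2 ha2 h1 h12 h3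
  obtain ⟨u, v, huv⟩ := NonabelianSylow.exists_eq_zpow_mul h h2 ha2 h1 h12 hb
  have ha1 : a₁ ≠ 1 := fun e' => h12 (e' ▸ one_mem _)
  have hc : ∀ x y : ℤ, Commute (a₂ ^ x) (a₁ ^ y) := fun x y =>
    (h.comm h2 h1).zpow_zpow x y
  have hind : ∀ x y : ℤ, a₂ ^ x * a₁ ^ y = 1 → (x : ZMod p) = 0 ∧ (y : ZMod p) = 0 := by
    intro x y hxy
    have hy : (y : ZMod p) = 0 := by
      by_contra hy0
      obtain ⟨k, hk⟩ := Sylow.exists_pow_eq (h.elem.2 a₁ h1) hy0 1
      rw [zpow_one] at hk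
      refine h12 (hk ▸ pow_mem ?_ k)
      rw [eq_inv_of_mul_eq_one_right hxy]
      exact inv_mem (zpow_mem (Subgroup.mem_zpowers a₂) x)
    refine ⟨?_, hy⟩
    have hy1 : a₁ ^ y = 1 := orderOf_dvd_iff_zpow_eq_one.1 (by
      rw [h.orderOf_eq h1 ha1]; exact (ZMod.intCast_zmod_eq_zero_iff_dvd _ _).1 hy)
    rw [hy1, mul_one, ← orderOf_dvd_iff_zpow_eq_one, h.orderOf_eq h2 ha2] at hxy
    exact (ZMod.intCast_zmod_eq_zero_iff_dvd _ _).2 hxy
  have hcon : ∀ x y : ℤ, e * (a₂ ^ x * a₁ ^ y) * e⁻¹ = a₂ ^ (j * x) * a₁ ^ (i * y) := by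
    intro x y
    rw [zpow_mul, zpow_mul, show a₂ ^ j = e * a₂ * e⁻¹ from hj,
      show a₁ ^ i = e * a₁ * e⁻¹ from hi, conj_zpow, conj_zpow]
    group
  have hrel : a₂ ^ (j * s - l * s) * a₁ ^ (i * t - l * t) = 1 := by
    have h' : a₂ ^ (j * s) * a₁ ^ (i * t) = a₂ ^ (l * s) * a₁ ^ (l * t) := by
      rw [← hcon, ← hst, ← show a₃ ^ l = e * a₃ * e⁻¹ from hl, hst, (hc s t).mul_zpow, ← zpow_mul,
        ← zpow_mul, mul_comm s l, mul_comm t l]
    rw [zpow_sub, zpow_sub]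
    calc a₂ ^ (j * s) * (a₂ ^ (l * s))⁻¹ * (a₁ ^ (i * t) * (a₁ ^ (l * t))⁻¹)
        = a₂ ^ (j * s) * ((a₂ ^ (l * s))⁻¹ * a₁ ^ (i * t)) * (a₁ ^ (l * t))⁻¹ := by group
      _ = a₂ ^ (j * s) * (a₁ ^ (i * t) * (a₂ ^ (l * s))⁻¹) * (a₁ ^ (l * t))⁻¹ := by
          rw [((hc (l * s) (i * t)).inv_left).eq]
      _ = (a₂ ^ (j * s) * a₁ ^ (i * t)) * (a₁ ^ (l * t) * a₂ ^ (l * s))⁻¹ := by group
      _ = 1 := by rw [h', (hc (l * s) (l * t)).eq, mul_inv_cancel]
  obtain ⟨hA, hB⟩ := hind _ _ hrel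
  push_cast at hA hB
  have hs : (s : ZMod p) ≠ 0 := fun h0 => h31 (by
    rw [hst, orderOf_dvd_iff_zpow_eq_one.1 (show (orderOf a₂ : ℤ) ∣ s by
      rw [h.orderOf_eq h2 ha2]; exact (ZMod.intCast_zmod_eq_zero_iff_dvd _ _).1 h0), one_mul]
    exact zpow_mem (Subgroup.mem_zpowers _) _)
  have ht : (t : ZMod p) ≠ 0 := fun h0 => h32 (by
    rw [hst, orderOf_dvd_iff_zpow_eq_one.1 (show (orderOf a₁ : ℤ) ∣ t by
      rw [h.orderOf_eq h1 ha1]; exact (ZMod.intCast_zmod_eq_zero_iff_dvd _ _).1 h0), mul_one]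
    exact zpow_mem (Subgroup.mem_zpowers _) _)
  have hj' : (j : ZMod p) = l := sub_eq_zero.1 ((mul_eq_zero.1
    (show ((j : ZMod p) - l) * s = 0 by rw [sub_mul]; exact hA)).resolve_right hs)
  have hi' : (i : ZMod p) = l := sub_eq_zero.1 ((mul_eq_zero.1
    (show ((i : ZMod p) - l) * t = 0 by rw [sub_mul]; exact hB)).resolve_right ht)
  have hpow : ∀ {w : G}, w ∈ A → ∀ x y : ℤ, (x : ZMod p) = y → w ^ x = w ^ y := by
    intro w hw x y hxy
    rw [← sub_eq_zero, ← Int.cast_sub, ZMod.intCast_zmod_eq_zero_iff_dvd] at hxy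
    obtain ⟨c, hcc⟩ := hxy
    rw [show x = y + p * c by omega, zpow_add, zpow_mul, zpow_natCast, h.elem.2 w hw, one_zpow,
      mul_one]
  refine ⟨l, show b ^ l = e * b * e⁻¹ from ?_⟩
  rw [huv, hcon, (hc u v).mul_zpow, ← zpow_mul, ← zpow_mul,
    hpow h2 (j * u) (u * l) (by push_cast; rw [hj', mul_comm]),
    hpow h1 (i * v) (v * l) (by push_cast; rw [hi', mul_comm])]

/-- `N(A)' ≤ C(A)`. -/
theorem derived_le_centralizer (h : Ctx M p A) {S : _root_.Sylow p G} (hAS : A ≤ S)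
    (hab : IsMulCommutative (S : Subgroup G)) :
    ⁅Subgroup.normalizer (A : Set G), Subgroup.normalizer (A : Set G)⁆ ≤
      Subgroup.centralizer (A : Set G) := by
  set N := Subgroup.normalizer (A : Set G) with hN
  intro z hz
  refine OddLocal.DerivedFitting.mem_of_primePow_parts fun s hs y hy ⟨k, hk⟩ => ?_
  have hyd : y ∈ ⁅N, N⁆ := Subgroup.zpowers_le.2 hz hy
  have hyN : y ∈ N := (Subgroup.map_subtype_commutator N ▸ Subgroup.map_subtype_le _ :
    ⁅N, N⁆ ≤ N) hyd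
  by_cases hsp : s = p
  · subst hsp
    refine sylow_le_centralizer hAS hab (eq_of_le_normalizer S (Q := Subgroup.zpowers y)
      (IsPGroup.of_card (n := k) (by rw [Nat.card_zpowers, hk])) ?_ (Subgroup.mem_zpowers y))
    rw [Subgroup.zpowers_le, ← normalizer_eq h hAS hab]
    exact hyN
  · refine derived_centralizes h.min.1 h.ne_two
      (solvable_of_ne_top h.min (normalizer_ne_top h.min h.ne_bot (pgroup_ne_top h.min h.isPGroup)))
      le_rfl h.elem h.card.le hyd ?_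
    rw [hk]
    exact ((Nat.coprime_primes hs hp.out).2 hsp).pow_left k

/-- An invariant line of a non-scalar element is invariant under `N(A)`. -/
theorem normalizer_line (h : Ctx M p A) {S : _root_.Sylow p G} (hAS : A ≤ S)
    (hab : IsMulCommutative (S : Subgroup G)) {e a : G}
    (he : e ∈ Subgroup.normalizer (A : Set G)) (ha : a ∈ A) (ha1 : a ≠ 1)
    (hea : e * a * e⁻¹ ∈ Subgroup.zpowers a)
    (hns : ∃ b ∈ A, e * b * e⁻¹ ∉ Subgroup.zpowers b) {g : G}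
    (hg : g ∈ Subgroup.normalizer (A : Set G)) : g * a * g⁻¹ ∈ Subgroup.zpowers a := by
  have hmem : ∀ {x}, x ∈ A → g * x * g⁻¹ ∈ A := fun {x} hx =>
    (Subgroup.mem_normalizer_iff.1 hg x).1 hx
  have hinv : ∀ {x}, x ∈ A → e * x * e⁻¹ ∈ Subgroup.zpowers x →
      e * (g * x * g⁻¹) * e⁻¹ ∈ Subgroup.zpowers (g * x * g⁻¹) := by
    rintro x hx ⟨i, hi⟩
    refine ⟨i, show (g * x * g⁻¹) ^ i = _ from ?_⟩
    have hxi : x ^ i = e * x * e⁻¹ := hi
    have hc : Commute ⁅e, g⁆ (g * (e * x * e⁻¹) * g⁻¹) :=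
      (Subgroup.mem_centralizer_iff.1 (derived_le_centralizer h hAS hab
        (Subgroup.commutator_mem_commutator he hg)) _
        (hmem ((Subgroup.mem_normalizer_iff.1 he x).1 hx))).symm
    rw [conj_zpow, hxi]
    calc g * (e * x * e⁻¹) * g⁻¹ = ⁅e, g⁆ * (g * (e * x * e⁻¹) * g⁻¹) * ⁅e, g⁆⁻¹ := by
          rw [hc.eq, mul_inv_cancel_right]
      _ = e * (g * x * g⁻¹) * e⁻¹ := by simp only [commutatorElement_def]; group
  by_contra hne
  set a₁ := g * a * g⁻¹ with ha₁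
  set a₂ := g * a₁ * g⁻¹ with ha₂
  have ha₁1 : a₁ ≠ 1 := fun e' => hne (e' ▸ one_mem _)
  have ha₂1 : a₂ ≠ 1 := fun e' => ha₁1 (conj_eq_one_iff.1 e')
  have h01 : a ∉ Subgroup.zpowers a₁ := fun hm =>
    hne ((zpowers_eq h (hmem ha) hm ha1).symm ▸ Subgroup.mem_zpowers a₁)
  have h20 : a₂ ∉ Subgroup.zpowers a := fun hm => by
    have hg2 : (g ^ 2) ∈ Subgroup.normalizer (Subgroup.zpowers a : Set G) :=
      mem_normalizer_zpowers (by
        convert hm using 1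
        rw [ha₂, ha₁, pow_two]
        group)
    obtain ⟨k, hk⟩ : Odd (orderOf g) := h.min.1.of_dvd_nat (orderOf_dvd_natCard g)
    have hgg : (g ^ 2) ^ (k + 1) = g := by
      rw [← pow_mul, show 2 * (k + 1) = (2 * k + 1) + 1 by ring, pow_succ, ← hk,
        pow_orderOf_eq_one, one_mul]
    exact hne ((Subgroup.mem_normalizer_iff.1 (hgg ▸ pow_mem hg2 (k + 1)) a).1
      (Subgroup.mem_zpowers a))
  have h21 : a₂ ∉ Subgroup.zpowers a₁ := fun ⟨i, hi⟩ => hne (by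
    refine ⟨i, show a ^ i = _ from ?_⟩
    have h' : (g * a * g⁻¹) ^ i = g * a₁ * g⁻¹ := hi
    rw [conj_zpow] at h'
    exact mul_left_cancel (mul_right_cancel h'))
  obtain ⟨b, hb, hbe⟩ := hns
  exact hbe (scalar_of_three h ha (hmem ha) (hmem (hmem ha)) ha₁1 h01 h20 h21 hea (hinv ha hea)
    (hinv (hmem ha) (hinv ha hea)) hb)

/-- A line invariant under `N(A)` has no fixed point on `M_σ`. -/
theorem fixed_eq_bot_of_invariant (h : Ctx M p A) {a : G} (ha : a ∈ A) (ha1 : a ≠ 1)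
    (hinv : ∀ g ∈ Subgroup.normalizer (A : Set G), g * a * g⁻¹ ∈ Subgroup.zpowers a) :
    Cfsg.sigmaCore M ⊓ Subgroup.centralizer ({a} : Set G) = ⊥ := by
  by_contra hne
  have hC : Subgroup.centralizer (Subgroup.zpowers a : Set G) = Subgroup.centralizer {a} := by
    rw [Subgroup.zpowers_eq_closure, Subgroup.centralizer_closure]
  obtain ⟨hle, huniq⟩ := Context.unique_of_fixed h (X := Subgroup.zpowers a)
    (Subgroup.zpowers_le.2 ha) (by rw [Nat.card_zpowers, h.orderOf_eq ha ha1]) (by rwa [hC])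
  obtain ⟨g, hg, hgM, -⟩ := Unique.exists_moving h
  have hCg : g ∈ Subgroup.normalizer
      (Subgroup.centralizer (Subgroup.zpowers a : Set G) : Set G) :=
    Fitting.normalizer_le_normalizer_centralizer _ (mem_normalizer_zpowers (hinv g hg))
  have hcoat : IsCoatom (MulAut.conj g • M) :=
    (OrderIso.isCoatom_iff (MulEquiv.mapSubgroup (MulAut.conj g)) M).2 h.max
  have heq := huniq _ hcoat (calc
    Subgroup.centralizer (Subgroup.zpowers a : Set G)
        = MulAut.conj g • Subgroup.centralizer (Subgroup.zpowers a : Set G) :=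
          (Coprime.conj_smul_eq_self_of_mem_normalizer hCg).symm
    _ ≤ MulAut.conj g • M := Subgroup.pointwise_smul_le_pointwise_smul_iff.2 hle)
  exact hgM (normalizer_coatom h.min h.max ▸ Coprime.mem_normalizer_of_conj_smul_eq heq)

end Cfsg.Agent.Lib.OddTau.PlaneLines
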