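import Cfsg.Agent.Lib.OddTau.Lift
import Cfsg.Agent.Lib.OddOrder.MaximalBasics
import Cfsg.Agent.Lib.CNGroup.Basic

/-!
# BG 12.11: the part of a complement at a prime of `τ₂(M)`
-/

set_option autoImplicit false
set_option linter.style.haveILetI false
set_option linter.unusedSectionVars false

open scoped Pointwise commutatorElement

namespace Cfsg.Agent.Lib.OddTau.RegularLocal

open Cfsg.Agent.Lib.OddOrder Cfsg.Agent.Lib.OddOrder.MinSimple Cfsg.Agent.Lib.OddTau.Basic
  Cfsg.Agent.Lib.OddTau.TauTwoAbelian Cfsg.Agent.Lib.OddTau.PlaneLines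

universe u

variable {G : Type u} [Group G] [Finite G] {M A E : Subgroup G} {p : ℕ} [hp : Fact p.Prime]

omit hp in
theorem centralizer_zpowers (x : G) :
    Subgroup.centralizer (Subgroup.zpowers x : Set G) = Subgroup.centralizer {x} := by
  rw [Subgroup.zpowers_eq_closure, Subgroup.centralizer_closure]

omit hp in
theorem isPGroup_zpowers {q n : ℕ} [Fact q.Prime] {y : G} (hy : orderOf y = q ^ n) :
    IsPGroup q (Subgroup.zpowers y) :=
  IsPGroup.of_card (n := n) (by rw [Nat.card_zpowers, hy])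

omit hp in
/-- The `τ₂(M)`-elements of a complement centralize its `τ₂`-Sylow subgroups. -/
theorem commute_tau2 (hG : Cfsg.IsMinSimpleOddOrder G) (hM : IsCoatom M)
    (hE : Cfsg.IsComplIn E (Cfsg.sigmaCore M) M)
    (habAll : ∀ (q : ℕ) [Fact q.Prime], q ∈ Cfsg.tau2 M → ∀ T : _root_.Sylow q G,
      IsMulCommutative (T : Subgroup G))
    {q : ℕ} [Fact q.Prime] {B : Subgroup G} (hB : Ctx M q B) (hBE : B ≤ E)
    {S : _root_.Sylow q G} (hBS : B ≤ S) {x : G} (hxE : x ∈ E)
    (hx : ∀ s : ℕ, s.Prime → s ∣ orderOf x → s ∈ Cfsg.tau2 M) :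
    x ∈ Subgroup.centralizer ((S : Subgroup G) : Set G) := by
  have hab := habAll q hB.tau S
  obtain ⟨hSE, hES⟩ := sylow_compl hB hE hBE hBS hab
  refine OddLocal.DerivedFitting.mem_of_primePow_parts fun s hs y hy ⟨n, hn⟩ => ?_
  rcases n with _ | n
  · rw [pow_zero, orderOf_eq_one_iff] at hn
    exact hn ▸ one_mem _
  haveI := Fact.mk hs
  have hsτ : s ∈ Cfsg.tau2 M := hx s hs ((dvd_pow_self s n.succ_ne_zero).trans
    (hn ▸ orderOf_dvd_of_mem_zpowers hy))
  have hyE : y ∈ E := Subgroup.zpowers_le.2 hxE hy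
  have hyp := isPGroup_zpowers hn
  by_cases hsq : s = q
  · subst hsq
    exact Subgroup.le_centralizer_iff_isMulCommutative.2 hab
      (eq_of_le_normalizer S hyp (Subgroup.zpowers_le.2 (hES hyE)) (Subgroup.mem_zpowers y))
  obtain ⟨C, hCE, hC⟩ := exists_ctx hG hM hE hsτ
  obtain ⟨T, hCT⟩ := hC.isPGroup.exists_le_sylow
  obtain ⟨hTE, hET⟩ := sylow_compl hC hE hCE hCT (habAll s hsτ T)
  have hyT : y ∈ (T : Subgroup G) :=
    eq_of_le_normalizer T hyp (Subgroup.zpowers_le.2 (hET hyE)) (Subgroup.mem_zpowers y)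
  have hd : (T : Subgroup G) ⊓ (S : Subgroup G) = ⊥ := OddOrder.Basic.inf_eq_bot_of_coprime (by
    obtain ⟨a, ha⟩ := IsPGroup.iff_card.1 T.2
    obtain ⟨b, hb⟩ := IsPGroup.iff_card.1 S.2
    rw [ha, hb]
    exact ((Nat.coprime_primes hs Fact.out).2 hsq).pow a b)
  refine Subgroup.mem_centralizer_iff.2 fun a ha => ?_
  have hc : a * y * a⁻¹ * y⁻¹ ∈ (T : Subgroup G) ⊓ (S : Subgroup G) := by
    refine ⟨(T : Subgroup G).mul_mem ((Subgroup.mem_normalizer_iff.1 (hET (hSE ha)) y).1 hyT)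
      ((T : Subgroup G).inv_mem hyT), ?_⟩
    rw [show a * y * a⁻¹ * y⁻¹ = a * (y * a⁻¹ * y⁻¹) by group]
    exact (S : Subgroup G).mul_mem ha ((Subgroup.mem_normalizer_iff.1 (hES hyE) a⁻¹).1
      ((S : Subgroup G).inv_mem ha))
  rw [hd, Subgroup.mem_bot] at hc
  exact commutatorElement_eq_one_iff_mul_comm.1 hc

/-- An `r`-subgroup of `L` lies in a Sylow subgroup of `L` over some `B` of type `(r, r)`. -/
theorem exists_ctx_sylow (hG : Cfsg.IsMinSimpleOddOrder G) {L Y : Subgroup G} (hL : IsCoatom L)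
    (hpτ : p ∈ Cfsg.tau2 L) (hY : IsPGroup p Y) (hYL : Y ≤ L) :
    ∃ (P : _root_.Sylow p L) (B : Subgroup G), Y ≤ (P : Subgroup L).map L.subtype ∧
      B ≤ (P : Subgroup L).map L.subtype ∧ Ctx L p B := by
  obtain ⟨A₀, hA₀L, hA₀e, hA₀c⟩ := RankTwoPrime.exists_elemAb_sq hpτ.2.2.1 hpτ.2.2.2
  have h : Ctx L p A₀ := ⟨hG, hL, hpτ, hA₀L, hA₀e, hA₀c⟩
  obtain ⟨P₀, hP₀⟩ := Exceptional.exists_sylow_p h
  obtain ⟨P, hYP⟩ := (hY.comap_subtype (K := L)).exists_le_sylow
  obtain ⟨m, hm, hmP⟩ := Coprime.exists_conj_sylow_map P₀ P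
  have hA'P : A₀.map (MulAut.conj m).toMonoidHom ≤ (P : Subgroup L).map L.subtype :=
    hmP ▸ Subgroup.map_mono hP₀
  exact ⟨P, _, fun y hy => ⟨⟨y, hYL hy⟩,
    hYP (show (⟨y, hYL hy⟩ : L) ∈ Y.comap L.subtype from hy), rfl⟩, hA'P,
    Exceptional.ctx_conj h (hA'P.trans (Subgroup.map_subtype_le _))⟩

/-- BG 12.8, 12.11: an element of a cyclic Sylow subgroup of `E` fixes a line of `A`. -/
theorem exists_invariant_line (h : Ctx M p A) (hE : Cfsg.IsComplIn E (Cfsg.sigmaCore M) M)
    (hAE : A ≤ E) {S : _root_.Sylow p G} (hAS : A ≤ S)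
    (hab : IsMulCommutative (S : Subgroup G)) {r : ℕ} [hr : Fact r.Prime] (hrp : r ≠ p)
    (hrσ : r ∉ Cfsg.sigma M) (hr1 : Cfsg.PRankLE r 1 M)
    (hfix : ∀ f ∈ E, orderOf f = r →
      Cfsg.sigmaCore M ⊓ Subgroup.centralizer ({f} : Set G) = ⊥)
    {e : G} (he : e ∈ E) {n : ℕ} (hen : orderOf e = r ^ n) :
    ∃ a ∈ A, a ≠ 1 ∧ e * a * e⁻¹ ∈ Subgroup.zpowers a := by
  have hG := h.min
  have heA : e ∈ Subgroup.normalizer (A : Set G) := Context.le_normalizer_of_compl h hE hAE he
  by_contra hno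
  push Not at hno
  obtain ⟨a₀, ha₀, ha₀1⟩ := A.bot_or_exists_ne_one.resolve_left h.ne_bot
  have hcases : ∀ W : Subgroup G, W ≤ A → e ∈ Subgroup.normalizer (W : Set G) → W = ⊥ ∨ W = A := by
    intro W hW heW
    rcases card_cases h hW with h0 | h1 | h2
    · exact Or.inl h0
    · obtain ⟨a, haW, ha1⟩ := W.bot_or_exists_ne_one.resolve_left fun e' => hp.out.ne_one (by
        rw [← h1, e', Subgroup.card_bot])
      refine absurd ?_ (hno a (hW haW) ha1)
      rw [Subgroup.eq_of_le_of_card_ge (Subgroup.zpowers_le.2 haW)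
        (by rw [Nat.card_zpowers, h.orderOf_eq (hW haW) ha1, h1])]
      exact (Subgroup.mem_normalizer_iff.1 heW a).1 haW
    · exact Or.inr h2
  have hnA : ¬ ∀ a ∈ A, e * a = a * e := fun hc => hno a₀ ha₀ ha₀1 (by
    rw [hc a₀ ha₀, mul_inv_cancel_right]; exact Subgroup.mem_zpowers a₀)
  rcases n with _ | m
  · rw [pow_zero, orderOf_eq_one_iff] at hen
    exact hnA fun a _ => by rw [hen, one_mul, mul_one]
  set f := e ^ r ^ m with hf
  have hfo : orderOf f = r := by
    refine orderOf_eq_prime ?_ fun h1 => ?_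
    · rw [hf, ← pow_mul, ← pow_succ, ← hen, pow_orderOf_eq_one]
    · have hd := orderOf_dvd_iff_pow_eq_one.2 h1
      rw [hen, Nat.pow_dvd_pow_iff_le_right hr.out.one_lt] at hd
      omega
  have hfE : f ∈ E := pow_mem he _
  have hff := hfix f hfE hfo
  have hfe : Commute f e := (Commute.refl e).pow_left _
  have hecf : e ∈ Subgroup.centralizer ({f} : Set G) :=
    Subgroup.mem_centralizer_singleton_iff.2 hfe.eq.symm
  have hcopE : (Nat.card (Subgroup.zpowers e)).Coprime (Nat.card A) := by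
    rw [Nat.card_zpowers, hen, h.card]
    exact ((Nat.coprime_primes hr.out hp.out).2 hrp).pow _ _
  -- `f` centralizes `A`
  have hfA : A ≤ Subgroup.centralizer ({f} : Set G) := by
    rcases hcases (A ⊓ Subgroup.centralizer ({f} : Set G)) inf_le_left
      (Coprime.le_normalizer_inf (A := Subgroup.zpowers e) (Subgroup.zpowers_le.2 heA)
        (Subgroup.zpowers_le.2 (Subgroup.le_normalizer hecf)) (Subgroup.mem_zpowers e)) with h0 | h1
    · exfalso
      have hFA : Subgroup.zpowers f ≤ Subgroup.normalizer (A : Set G) :=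
        Subgroup.zpowers_le.2 (pow_mem heA _)
      haveI := h.elem.1
      have hcopF : (Nat.card (Subgroup.zpowers f)).Coprime (Nat.card A) := by
        rw [Nat.card_zpowers, hfo, h.card]
        exact ((Nat.coprime_primes hr.out hp.out).2 hrp).pow_right _
      have hAf : ⁅A, Subgroup.zpowers f⁆ = A := by
        have hk := Coprime.commutator_sup_centralizer hFA hcopF
          (Or.inr (Coprime.isSolvable_of_isMulCommutative A))
        rwa [centralizer_zpowers, h0, sup_bot_eq] at hk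
      obtain ⟨q, hq, hqd⟩ := Nat.exists_prime_and_dvd fun e' =>
        SigmaNormal.sigmaCore_ne_bot h (Subgroup.card_eq_one.1 e')
      haveI := Fact.mk hq
      have hqσ := mem_sigma_of_dvd hq hqd
      obtain ⟨Q, -, hQσ, hAQ⟩ := h.exists_sylow hqσ (Q₀ := ⊥) IsPGroup.of_bot bot_le
        (h.le.trans fun x _ => Subgroup.mem_normalizer_fintype fun n hn => by
          rw [Subgroup.mem_bot.1 hn]; simp)
      have hMQ := Exceptional.le_normalizer_sylow h hQσ
      have hfM : Subgroup.zpowers f ≤ M := Subgroup.zpowers_le.2 (hE.1 hfE)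
      haveI : Group.IsSolvable ↥(((Q : Subgroup G) ⊔ A) ⊔ Subgroup.zpowers f) :=
        haveI := solvable_of_ne_top hG h.max.1
        Coprime.isSolvable_of_le (sup_le (sup_le (hQσ.trans (sigmaCore_le M)) h.le) hfM)
      have hc := commutator_centralizes_of_fpf (p := r) (r := p) (s := q) hG.1 hrp
        (fun e' => hrσ (e' ▸ hqσ)) (fun e' => h.not_sigma (e' ▸ hqσ)) Q.2 h.isPGroup hfo hAQ
        (hMQ (hE.1 hfE)) (pow_mem heA _)
        (le_bot_iff.1 ((inf_le_inf_right _ hQσ).trans hff.le))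
      rw [hAf, Subgroup.le_centralizer_iff] at hc
      exact Q.ne_bot_of_dvd_card (hqd.trans (Cfsg.sigmaCore M).card_subgroup_dvd_card)
        (le_bot_iff.1 ((le_inf hQσ hc).trans (Context.centralizer_inf_eq_bot h).le))
    · exact h1 ▸ inf_le_right
  have hf1 : f ≠ 1 := fun e' => hr.out.ne_one (by rw [← hfo, e', orderOf_one])
  have hXp : IsPGroup r (Subgroup.zpowers f) :=
    isPGroup_zpowers (n := 1) (by rw [hfo, pow_one])
  have hX1 : Subgroup.zpowers f ≠ ⊥ := fun e' => hf1 (Subgroup.zpowers_eq_bot.1 e')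
  obtain ⟨L, hL, hNL⟩ := exists_coatom_ge hG
    (normalizer_ne_top hG hX1 (pgroup_ne_top hG hXp))
  have hCL : Subgroup.centralizer ({f} : Set G) ≤ L :=
    (centralizer_zpowers f).ge.trans ((Subgroup.centralizer_le_normalizer _).trans hNL)
  have hAL : A ≤ L := hfA.trans hCL
  have heL : e ∈ L := hCL hecf
  have heL' : Subgroup.zpowers e ≤ L := Subgroup.zpowers_le.2 heL
  have hAe : ⁅A, Subgroup.zpowers e⁆ = A := by
    refine (hcases _ (Coprime.commutator_le_of_le_normalizer (Subgroup.zpowers_le.2 heA))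
      (Coprime.right_le_normalizer_commutator A _ (Subgroup.mem_zpowers e))).resolve_left
      fun h0 => hnA fun a ha => ?_
    exact Subgroup.mem_centralizer_iff.1 (Subgroup.commutator_eq_bot_iff_le_centralizer.1 h0 ha) e
      (Subgroup.mem_zpowers e)
  have hSM : (S : Subgroup G) ≤ M := (sylow_le_centralizer hAS hab).trans h.centralizer_le
  have hpL2 : Cfsg.PRankLE p 2 L :=
    InvariantPrime.prankLE_of_sylow S (Rank.prankLE_mono hSM h.tau.2.2.1) L
  have hep : IsPGroup r (Subgroup.zpowers e) := isPGroup_zpowers hen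
  rcases SigmaEmbedding.mem_sigma_or_tau2 hG hL hXp hX1 hNL with hσL | hτL
  · have heσ := pgroup_le_sigmaCore hG hL hσL hep heL'
    have hAσ : A ≤ Cfsg.sigmaCore L := by
      rw [← hAe, Subgroup.commutator_le]
      intro a ha v hv
      exact mul_mem ((Subgroup.mem_normalizer_iff.1 (le_normalizer_sigmaCore L (hAL ha)) v).1
        (heσ hv)) (inv_mem (heσ hv))
    have hpσL : p ∈ Cfsg.sigma L :=
      mem_sigma_of_dvd hp.out (h.dvd_card.trans (Subgroup.card_dvd_of_le hAσ))
    have heD : Subgroup.zpowers e ≤ ⁅L, L⁆ := Sigma.le_derived hG hL hσL hep heL'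
    have hAD : A ≤ ⁅L, L⁆ := Sigma.le_derived hG hL hpσL h.isPGroup hAL
    obtain ⟨-, -, -, -, hnil⟩ := AlphaCore.alphaCore_spec hG hL
    have hmem : ∀ {u : G}, u ∈ ⁅L, L⁆ → ∀ hu : u ∈ L, (⟨u, hu⟩ : L) ∈ commutator L := by
      intro u hu huL
      rw [← Subgroup.map_subtype_commutator] at hu
      obtain ⟨w, hw, rfl⟩ := hu
      exact hw
    have hle : A ≤ Cfsg.alphaCore L := by
      refine hAe.symm.le.trans (Subgroup.commutator_le.2 fun a ha v hv => ?_)
      refine ⟨⁅(⟨a, hAL ha⟩ : L), ⟨v, heL' hv⟩⁆, ?_, rfl⟩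
      rw [← QuotientGroup.ker_mk' (Cfsg.piCore (Cfsg.alpha L) L), SetLike.mem_coe,
        MonoidHom.mem_ker, map_commutatorElement, commutatorElement_eq_one_iff_mul_comm]
      refine CNGroup.Basic.commute_of_mem_nilpotent hnil (Subgroup.mem_map_of_mem _ (hmem (hAD ha) _))
        (Subgroup.mem_map_of_mem _ (hmem (heD hv) _)) ?_
      refine Nat.Coprime.of_dvd (orderOf_map_dvd _ _) (orderOf_map_dvd _ _) ?_
      rw [Subgroup.orderOf_mk, Subgroup.orderOf_mk]
      exact Nat.Coprime.coprime_dvd_left (A.orderOf_dvd_natCard ha)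
        (hcopE.symm.coprime_dvd_right ((Subgroup.zpowers e).orderOf_dvd_natCard hv))
    exact (Cores.piCore_isPiGroup _ p hp.out
      ((h.dvd_card.trans (Subgroup.card_dvd_of_le hle)).trans (Subgroup.card_map_dvd _ _))).2 hpL2
  · have hrσL : r ∉ Cfsg.sigma L := hτL.2.1
    have hpσL : p ∈ Cfsg.sigma L := by
      by_contra hpσ
      have hpτ : p ∈ Cfsg.tau2 L := ⟨hp.out, hpσ, hpL2, fun h1 => by
        have := Rank.prankLE_subgroup_iff.1 h1 A hAL h.elem
        rw [h.card, Nat.pow_le_pow_iff_right hp.out.one_lt] at this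
        omega⟩
      have hA : Ctx L p A := ⟨hG, hL, hpτ, hAL, h.elem, h.card⟩
      obtain ⟨K, hK⟩ := MaximalBasics.exists_compl hG hL
      have hJn : Subgroup.zpowers e ≤ Subgroup.normalizer (A : Set G) := Subgroup.zpowers_le.2 heA
      obtain ⟨g, hg, hgK⟩ := SigmaSubgroup.exists_conj_le_of_sup (solvable_of_ne_top hG hL.1)
        (sigmaCore_le L) (le_normalizer_sigmaCore L) hK.1
        (by rw [sup_comm]; exact OddOrder.Basic.isComplIn_sup hK)
        (sup_le hAL heL') (π := {q | q ∉ Cfsg.sigma L})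
        (fun q hq hd => by
          rcases SigmaSubgroup.relIndex_sup_right_le q hq hd hJn with h1 | h1
          · by_cases hqp : q = p
            · exact hqp ▸ hpσ
            · exact absurd h1 (h.not_dvd hq hqp)
          · rw [Nat.card_zpowers, hen] at h1
            exact ((Nat.prime_dvd_prime_iff_eq hq hr.out).1 (hq.dvd_of_dvd_pow h1)) ▸ hrσL)
        (fun q hq hd hn => hn (mem_sigma_of_dvd hq hd))
      rw [Subgroup.map_sup, sup_le_iff, zpowers_map, Subgroup.zpowers_le] at hgK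
      have hne : Cfsg.tau2 L ≠ {p} := fun e' => hrp (Set.mem_singleton_iff.1 (e' ▸ hτL))
      have hc := mem_centralizer_of_tau2 (Exceptional.ctx_conj hA (hgK.1.trans hK.1)) hK hgK.1
        hne hgK.2 fun q hq hd => by
          rw [show g * e * g⁻¹ = (MulAut.conj g).toMonoidHom e from rfl,
            orderOf_injective (MulAut.conj g).toMonoidHom (MulAut.conj g).injective, hen] at hd
          exact ((Nat.prime_dvd_prime_iff_eq hq hr.out).1 (hq.dvd_of_dvd_pow hd)) ▸ hτL
      refine hnA fun a ha => ?_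
      have h' := Subgroup.mem_centralizer_iff.1 hc _
        (Subgroup.mem_map_of_mem (MulAut.conj g).toMonoidHom ha)
      exact (MulAut.conj g).injective (by
        rw [map_mul, map_mul]
        exact h'.symm)
    obtain ⟨P, B, heP, hBP, hB⟩ := exists_ctx_sylow hG hL hτL hep heL'
    set P₀ := (P : Subgroup L).map L.subtype with hP₀
    haveI hPc := Abelian.sylow_comm hB P hBP
    have hfB : f ∈ B := (Sylow.pow_eq_one_iff hB P hBP f
      (heP (pow_mem (Subgroup.mem_zpowers e) _))).1 (hfo ▸ pow_orderOf_eq_one f)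
    have hNA : Subgroup.normalizer (A : Set G) ≤ L :=
      SigmaEmbedding.normalizer_le_of_not_isCyclic hG hL hpσL h.isPGroup hAL h.not_isCyclic
    have hSσ : (S : Subgroup G) ≤ Cfsg.sigmaCore L := pgroup_le_sigmaCore hG hL hpσL S.2
      ((sylow_le_centralizer hAS hab).trans ((Subgroup.centralizer_le_normalizer _).trans hNA))
    have hBA : B ≤ Subgroup.normalizer (A : Set G) := by
      rw [normalizer_eq h hAS hab]
      exact hB.le.trans (Exceptional.le_normalizer_sylow hB hSσ)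
    obtain ⟨f', hf'B, hf'M⟩ : ∃ f' ∈ B, f' ∉ M := by
      by_contra hcon
      push Not at hcon
      have := Rank.prankLE_subgroup_iff.1 hr1 B hcon hB.elem
      rw [hB.card, Nat.pow_le_pow_iff_right hr.out.one_lt] at this
      omega
    set N := Subgroup.normalizer (A : Set G) with hN
    set V := P₀ ⊓ N with hV
    haveI : IsMulCommutative V := Abelian.isMulCommutative_of_forall fun a ha b hb =>
      setLike_mul_comm (s := P₀) ha.1 hb.1
    have heV : e ∈ V := ⟨heP (Subgroup.mem_zpowers e), heA⟩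
    have hVcop : (Nat.card V).Coprime (Nat.card A) := by
      obtain ⟨k, hk⟩ := IsPGroup.iff_card.1 (IsPGroup.to_le (P.2.map L.subtype) (inf_le_left : V ≤ P₀))
      rw [hk, h.card]
      exact ((Nat.coprime_primes hr.out hp.out).2 hrp).pow _ _
    obtain ⟨D, ⟨hDV, v, hv, hDv⟩, hD1⟩ : ∃ D ∈ {B : Subgroup G | B ≤ V ∧
        ∃ a ∈ V, B ⊔ Subgroup.zpowers a = V}, A ⊓ Subgroup.centralizer (D : Set G) ≠ ⊥ := by
      by_contra hcon
      push Not at hcon
      exact h.ne_bot (le_bot_iff.1 ((Coprime.iSup_centralizer_cyclic_quotient_eq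
        (inf_le_right : V ≤ N) hVcop).ge.trans (iSup₂_le fun D hD => (hcon D hD).le)))
    have hDA : A ≤ Subgroup.centralizer (D : Set G) := by
      refine ((hcases _ inf_le_left (Coprime.le_normalizer_inf (A := Subgroup.zpowers e)
        (Subgroup.zpowers_le.2 heA) (Subgroup.zpowers_le.2 (Subgroup.le_normalizer ?_))
        (Subgroup.mem_zpowers e))).resolve_left hD1).ge.trans inf_le_right
      exact Subgroup.mem_centralizer_iff.2 fun d hd => setLike_mul_comm (hDV hd) heV
    set φ := A.normalizerMonoidHom with hφ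
    have hker : ∀ (u : G) (hu : u ∈ N), φ ⟨u, hu⟩ = 1 ↔ ∀ a ∈ A, u * a = a * u := by
      intro u hu
      refine ⟨fun h1 a ha => ?_, fun hc => MulEquiv.ext fun a => Subtype.ext ?_⟩
      · have h0 := congrArg Subtype.val (DFunLike.congr_fun h1 (⟨a, ha⟩ : A))
        have h2 : u * a * u⁻¹ = a := h0
        exact mul_inv_eq_iff_eq_mul.1 h2
      · show u * (a : G) * u⁻¹ = a
        rw [hc a a.2, mul_inv_cancel_right]
    have hgen : ∀ u (hu : u ∈ V), φ ⟨u, hu.2⟩ ∈ Subgroup.zpowers (φ ⟨v, hv.2⟩) := by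
      intro u hu
      have hn : D ≤ Subgroup.normalizer (Subgroup.zpowers v : Set G) := fun d hd =>
        Subgroup.centralizer_le_normalizer _ (Subgroup.mem_centralizer_iff.2 fun w hw =>
          setLike_mul_comm (Subgroup.zpowers_le.2 hv hw) (hDV hd))
      have hu' : u ∈ ((D ⊔ Subgroup.zpowers v : Subgroup G) : Set G) := by rw [hDv]; exact hu
      rw [Subgroup.coe_mul_of_left_le_normalizer_right _ _ hn] at hu'
      obtain ⟨d, hd, _, ⟨i, rfl⟩, rfl⟩ := hu'
      refine ⟨i, ?_⟩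
      have hd1 : φ ⟨d, (hDV hd).2⟩ = 1 := (hker d _).2 fun a ha =>
        Subgroup.mem_centralizer_iff.1 (hDA ha) d hd
      show φ ⟨v, hv.2⟩ ^ i = φ _
      rw [← map_zpow, ← one_mul (φ (_ ^ i)), ← hd1, ← map_mul]
      rfl
    have hφe : φ ⟨e, heA⟩ ≠ 1 := fun h1 => hnA ((hker e heA).1 h1)
    obtain ⟨c, hc, hyc⟩ := (Nat.dvd_prime_pow hr.out).1
      ((orderOf_map_dvd φ ⟨e, heA⟩).trans (dvd_of_eq ((Subgroup.orderOf_mk e heA).trans hen)))
    rcases c with _ | c
    · exact hφe (orderOf_eq_one_iff.1 (hyc.trans (pow_zero r)))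
    haveI : Finite (MulAut A) :=
      Finite.of_injective (fun g : MulAut A => (g : A → A)) DFunLike.coe_injective
    have hx := mem_zpowers_of_cyclic (r := r) (H := Subgroup.zpowers (φ ⟨v, hv.2⟩))
      (inferInstance) (hgen f' ⟨hBP hf'B, hBA hf'B⟩)
      (pow_mem (hgen e heV) (r ^ c))
      (by
        rw [← map_pow, show (⟨f', hBA hf'B⟩ : N) ^ r = 1 from Subtype.ext (hB.elem.2 f' hf'B),
          map_one])
      (fun h1 => by
        have hd := orderOf_dvd_iff_pow_eq_one.2 h1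
        rw [hyc, Nat.pow_dvd_pow_iff_le_right hr.out.one_lt] at hd
        omega)
      (by rw [← pow_mul, ← pow_succ, ← hyc, pow_orderOf_eq_one])
    obtain ⟨i, hi⟩ := hx
    have hi' : (φ ⟨e, heA⟩ ^ r ^ c) ^ i = φ ⟨f', hBA hf'B⟩ := hi
    rw [← map_pow, ← map_zpow, ← inv_mul_eq_one, ← map_inv, ← map_mul] at hi'
    have hcc := (hker (((e ^ r ^ c) ^ i)⁻¹ * f')
      (mul_mem (inv_mem (zpow_mem (pow_mem heA _) i)) (hBA hf'B))).1 (by
        convert hi' using 2
        exact Subtype.ext (by simp))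
    have hmM : ((e ^ r ^ c) ^ i)⁻¹ * f' ∈ M :=
      h.centralizer_le (Subgroup.mem_centralizer_iff.2 fun a ha => (hcc a ha).symm)
    exact hf'M (by
      simpa using mul_mem (zpow_mem (pow_mem (hE.1 he) (r ^ c)) i) hmM)

end Cfsg.Agent.Lib.OddTau.RegularLocal
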