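import Cfsg.Agent.Lib.OddOrder.RankTwoCentralizer
import Cfsg.Agent.Lib.OddOrder.PLengthOne
import Cfsg.Agent.Lib.OddOrder.SigmaHall
import Cfsg.Agent.Lib.FpfHeight.FourGroupFitting

/-!
# Common facts for BG 12.5

`Ctx M p A` is the hypothesis of BG 12.5: `M` maximal, `p ∈ τ₂(M)`, `A ≤ M` of type `(p, p)`.
-/

set_option autoImplicit false
set_option linter.style.haveILetI false
set_option linter.unusedSectionVars false

open scoped Pointwise commutatorElement

namespace Cfsg.Agent.Lib.OddTau.Basic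

open Cfsg.Agent.Lib.OddOrder Cfsg.Agent.Lib.OddOrder.MinSimple

universe u

variable {G : Type u} [Group G] [Finite G]

/-- The hypothesis of BG 12.5. -/
structure Ctx (M : Subgroup G) (p : ℕ) (A : Subgroup G) : Prop where
  min : Cfsg.IsMinSimpleOddOrder G
  max : IsCoatom M
  tau : p ∈ Cfsg.tau2 M
  le : A ≤ M
  elem : Cfsg.IsElementaryAbelian p A
  card : Nat.card A = p ^ 2

theorem sigmaCore_le (M : Subgroup G) : Cfsg.sigmaCore M ≤ M := Subgroup.map_subtype_le _

theorem le_normalizer_sigmaCore (M : Subgroup G) :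
    M ≤ Subgroup.normalizer (Cfsg.sigmaCore M : Set G) :=
  OddOrder.Basic.le_normalizer_map_subtype M _

theorem mem_sigma_of_dvd {M : Subgroup G} {q : ℕ} (hq : q.Prime)
    (h : q ∣ Nat.card (Cfsg.sigmaCore M)) : q ∈ Cfsg.sigma M :=
  Cores.piCore_isPiGroup _ q hq (h.trans (Subgroup.card_map_dvd _ _))

theorem coprime_sigmaCore {M X : Subgroup G} {r : ℕ} [hr : Fact r.Prime]
    (hX : IsPGroup r X) (hrs : r ∉ Cfsg.sigma M) :
    (Nat.card X).Coprime (Nat.card (Cfsg.sigmaCore M)) := by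
  obtain ⟨n, hn⟩ := IsPGroup.iff_card.1 hX
  rw [hn]
  exact ((Nat.Prime.coprime_iff_not_dvd hr.out).2 fun h => hrs (mem_sigma_of_dvd hr.out h)).pow_left n

theorem isSolvable_sigmaCore (hG : Cfsg.IsMinSimpleOddOrder G) {M : Subgroup G}
    (hM : IsCoatom M) : Group.IsSolvable (Cfsg.sigmaCore M) :=
  haveI := solvable_of_ne_top hG hM.1
  Coprime.isSolvable_of_le (sigmaCore_le M)

/-- `M_σ` contains the `q`-subgroups of `M` for `q ∈ σ(M)`. -/
theorem pgroup_le_sigmaCore (hG : Cfsg.IsMinSimpleOddOrder G) {M : Subgroup G} (hM : IsCoatom M)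
    {q : ℕ} [hq : Fact q.Prime] (hqσ : q ∈ Cfsg.sigma M) {X : Subgroup G} (hX : IsPGroup q X)
    (hXM : X ≤ M) : X ≤ Cfsg.sigmaCore M := by
  intro x hx
  obtain ⟨k, hk⟩ := hX ⟨x, hx⟩
  set K := Cfsg.piCore (Cfsg.sigma M) M with hK
  have h1 : (⟨x, hXM hx⟩ : M) ^ q ^ k = 1 := Subtype.ext (by simpa using congrArg Subtype.val hk)
  have h2 : (QuotientGroup.mk' K ⟨x, hXM hx⟩) = 1 := by
    rw [← orderOf_eq_one_iff]
    refine Nat.eq_one_of_dvd_coprimes ?_
      ((orderOf_map_dvd _ _).trans (orderOf_dvd_of_pow_eq_one h1))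
      ((orderOf_dvd_natCard _).trans (Subgroup.index_eq_card K).symm.dvd)
    exact ((Nat.Prime.coprime_iff_not_dvd hq.out).2
      (SigmaHall.not_dvd_index_piCore hG hM hq.out hqσ)).pow_left k
  exact ⟨⟨x, hXM hx⟩, (QuotientGroup.eq_one_iff _).1 h2, rfl⟩

section

variable {p : ℕ} [hp : Fact p.Prime] {M A : Subgroup G}

theorem Ctx.not_sigma (h : Ctx M p A) : p ∉ Cfsg.sigma M := h.tau.2.1

theorem Ctx.not_alpha (h : Ctx M p A) : p ∉ Cfsg.alpha M := fun hα => hα.2 h.tau.2.2.1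

theorem Ctx.dvd_card (h : Ctx M p A) : p ∣ Nat.card A := h.card ▸ dvd_pow_self p two_ne_zero

theorem Ctx.isPGroup (h : Ctx M p A) : IsPGroup p A := IsPGroup.of_card h.card

theorem Ctx.ne_two (h : Ctx M p A) : p ≠ 2 :=
  ne_two_of_dvd h.min (h.dvd_card.trans A.card_subgroup_dvd_card)

theorem Ctx.not_isCyclic (h : Ctx M p A) : ¬ IsCyclic A := Rank.elemAb_not_isCyclic h.elem (by
  rw [h.card]; exact lt_self_pow₀ hp.out.one_lt (by norm_num))

theorem Ctx.ne_bot (h : Ctx M p A) : A ≠ ⊥ := fun e => h.not_isCyclic (e ▸ inferInstance)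

theorem Ctx.comm (h : Ctx M p A) {a b : G} (ha : a ∈ A) (hb : b ∈ A) : Commute a b :=
  PGroups.elemAb_comm h.elem ha hb

theorem Ctx.orderOf_eq (h : Ctx M p A) {a : G} (ha : a ∈ A) (ha1 : a ≠ 1) : orderOf a = p :=
  orderOf_eq_prime (h.elem.2 a ha) ha1

theorem Ctx.not_dvd (h : Ctx M p A) {q : ℕ} (hq : q.Prime) (hqp : q ≠ p) : ¬ q ∣ Nat.card A := by
  rw [h.card]
  exact fun hd => hqp ((Nat.prime_dvd_prime_iff_eq hq hp.out).1 (hq.dvd_of_dvd_pow hd))

theorem Ctx.ne_of_sigma (h : Ctx M p A) {q : ℕ} (hqσ : q ∈ Cfsg.sigma M) : q ≠ p := fun e =>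
  h.not_sigma (e ▸ hqσ)

theorem Ctx.transitivity (h : Ctx M p A) : Cfsg.TransitivityHypothesis A :=
  RankTwoCentralizer.transitivityHypothesis h.min
    (fun H hH => PLengthOne.of_ne_top h.min p H hH) h.max h.le h.elem h.card h.not_alpha

theorem Ctx.centralizer_le (h : Ctx M p A) : Subgroup.centralizer (A : Set G) ≤ M :=
  (RankTwoCentralizer.spec h.min (fun q _ => PLengthOne.of_ne_top h.min q) h.max h.le h.elem
    h.card).1

theorem Ctx.good (h : Ctx M p A) : RankTwoCentralizer.Good p M A := by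
  by_contra hn
  exact h.not_sigma ((RankTwoCentralizer.spec h.min (fun q _ => PLengthOne.of_ne_top h.min q) h.max
    h.le h.elem h.card).2 hn).1

theorem Ctx.le_normalizer (h : Ctx M p A) :
    A ≤ Subgroup.normalizer (Cfsg.sigmaCore M : Set G) :=
  h.le.trans (le_normalizer_sigmaCore M)

theorem Ctx.coprime (h : Ctx M p A) : (Nat.card A).Coprime (Nat.card (Cfsg.sigmaCore M)) :=
  coprime_sigmaCore h.isPGroup h.not_sigma

theorem Ctx.coreC_le (h : Ctx M p A) : Transitivity.coreC A ≤ M :=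
  (piCoreOf_le _ _).trans h.centralizer_le

/-- An `A`-invariant `q`-subgroup of `M`, `q ∈ σ(M)`, lies in an `A`-invariant Sylow subgroup of
`G` in `M_σ`. -/
theorem Ctx.exists_sylow (h : Ctx M p A) {q : ℕ} [Fact q.Prime] (hqσ : q ∈ Cfsg.sigma M)
    {Q₀ : Subgroup G} (hQ₀ : IsPGroup q Q₀) (hQ₀M : Q₀ ≤ M)
    (hAQ₀ : A ≤ Subgroup.normalizer (Q₀ : Set G)) :
    ∃ S : Sylow q G, Q₀ ≤ S ∧ (S : Subgroup G) ≤ Cfsg.sigmaCore M ∧
      A ≤ Subgroup.normalizer ((S : Subgroup G) : Set G) := by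
  obtain ⟨T, hT0, hAT⟩ := Coprime.exists_invariant_sylow_ge h.le_normalizer h.coprime
    (Or.inr (isSolvable_sigmaCore h.min h.max)) q Q₀ (pgroup_le_sigmaCore h.min h.max hqσ hQ₀ hQ₀M)
    hQ₀ hAQ₀
  set T₀ := (T : Subgroup _).map (Cfsg.sigmaCore M).subtype with hT₀
  obtain ⟨P, hP, hPM, -⟩ := Sigma.exists_sylow_ge hqσ (T.2.map (Cfsg.sigmaCore M).subtype)
    ((Subgroup.map_subtype_le _).trans (sigmaCore_le M))
  have hPσ := pgroup_le_sigmaCore h.min h.max hqσ P.2 hPM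
  have heq : (P : Subgroup G).subgroupOf (Cfsg.sigmaCore M) = (T : Subgroup _) :=
    T.is_maximal' P.2.comap_subtype fun x hx => hP ⟨x, hx, rfl⟩
  have : (P : Subgroup G) = T₀ := by
    rw [hT₀, ← heq, Subgroup.map_subgroupOf_eq_of_le hPσ]
  exact ⟨P, this ▸ hT0, hPσ, this ▸ hAT⟩

theorem Ctx.sylow_mem_max (h : Ctx M p A) {q : ℕ} [Fact q.Prime] {S : Sylow q G}
    (hAS : A ≤ Subgroup.normalizer ((S : Subgroup G) : Set G)) :
    (S : Subgroup G) ∈ Cfsg.maxInvSubgroups ⊤ A {q} :=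
  ⟨Transitivity.mem_inv.2 ⟨le_top, S.2, hAS⟩, fun _ hR hle =>
    S.is_maximal' (Transitivity.mem_inv.1 hR).2.1 hle⟩

end

/-- If `a` of prime order acts without fixed points on the `s`-group `Q` and normalizes the
`r`-group `R` normalizing `Q`, then `[R, a]` centralizes `Q`. -/
theorem commutator_centralizes_of_fpf {p r s : ℕ} [hp : Fact p.Prime] [hr : Fact r.Prime]
    [hs : Fact s.Prime] (hodd : Odd (Nat.card G)) (hpr : p ≠ r) (hps : p ≠ s) (hrs : r ≠ s)
    {Q R : Subgroup G} (hQ : IsPGroup s Q) (hR : IsPGroup r R) {a : G} (ha : orderOf a = p)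
    (hRQ : R ≤ Subgroup.normalizer (Q : Set G)) (haQ : a ∈ Subgroup.normalizer (Q : Set G))
    (haR : a ∈ Subgroup.normalizer (R : Set G))
    [hsolv : Group.IsSolvable ↥((Q ⊔ R) ⊔ Subgroup.zpowers a)]
    (hfix : Q ⊓ Subgroup.centralizer ({a} : Set G) = ⊥) :
    ⁅R, Subgroup.zpowers a⁆ ≤ Subgroup.centralizer (Q : Set G) := by
  by_contra hnc
  have hzR := Subgroup.zpowers_le.2 haR
  have hcop : (Nat.card (Subgroup.zpowers a)).Coprime (Nat.card R) := by
    obtain ⟨n, hn⟩ := IsPGroup.iff_card.1 hR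
    rw [Nat.card_zpowers, ha, hn]
    exact ((Nat.coprime_primes hp.out hr.out).2 hpr).pow_right n
  set V := ⁅R, Subgroup.zpowers a⁆ with hV
  have hVR : V ≤ R := Coprime.commutator_le_of_le_normalizer hzR
  have hVQ : V ≤ Subgroup.normalizer (Q : Set G) := hVR.trans hRQ
  have haV : a ∈ Subgroup.normalizer (V : Set G) :=
    Coprime.right_le_normalizer_commutator R _ (Subgroup.mem_zpowers a)
  have hVV : ⁅V, Subgroup.zpowers a⁆ = V :=
    Coprime.commutator_commutator_eq hzR hcop (Or.inl (Coprime.isSolvable_zpowers a))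
  set H := (Q ⊔ V) ⊔ Subgroup.zpowers a with hH
  have hQH : Q ≤ H := le_sup_left.trans le_sup_left
  have hVH : V ≤ H := le_sup_right.trans le_sup_left
  have hzH : Subgroup.zpowers a ≤ H := le_sup_right
  haveI : Group.IsSolvable H :=
    Coprime.isSolvable_of_le (sup_le_sup_right (sup_le_sup_left hVR Q) _)
  set N₀ := V ⊓ Subgroup.centralizer (Q : Set G) with hN₀
  have hNn : H ≤ Subgroup.normalizer (N₀ : Set G) := by
    refine sup_le (sup_le ?_ (Coprime.le_normalizer_inf Subgroup.le_normalizer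
      (hVQ.trans (Fitting.normalizer_le_normalizer_centralizer Q)))) (Subgroup.zpowers_le.2 ?_)
    · exact (Subgroup.le_centralizer_iff.1 (inf_le_right : N₀ ≤ _)).trans
        (Transitivity.centralizer_le_normalizer N₀)
    · exact Coprime.le_normalizer_inf (A := Subgroup.zpowers a) (Subgroup.zpowers_le.2 haV)
        ((Subgroup.zpowers_le.2 haQ).trans (Fitting.normalizer_le_normalizer_centralizer Q))
        (Subgroup.mem_zpowers a)
  set N := N₀.subgroupOf H with hN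
  haveI : N.Normal :=
    (Subgroup.normal_subgroupOf_iff_le_normalizer (inf_le_left.trans hVH)).2 hNn
  have hQN : Q ⊓ N₀ = ⊥ := OddOrder.Basic.inf_eq_bot_of_coprime
    (Fitting.coprime_card hrs.symm hQ ((hR.to_le hVR).to_le inf_le_left))
  set π := QuotientGroup.mk' N with hπ
  have hπ1 : ∀ x : H, π x = 1 ↔ (x : G) ∈ N₀ := fun x => QuotientGroup.eq_one_iff x
  set U' := (Q.subgroupOf H).map π with hU'
  set V' := (V.subgroupOf H).map π with hV'
  set b : H := ⟨a, hzH (Subgroup.mem_zpowers a)⟩ with hb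
  have hb' : orderOf (π b) = p := by
    refine orderOf_eq_prime ?_ fun e => ?_
    · rw [← map_pow, show b ^ p = 1 from Subtype.ext (by simp [hb, ← ha, pow_orderOf_eq_one]),
        map_one]
    · have haN : a ∈ N₀ := (hπ1 b).1 e
      obtain ⟨n, hn⟩ := IsPGroup.iff_card.1 hR
      have hd : p ∣ r ^ n := ha ▸ hn ▸ R.orderOf_dvd_natCard (hVR haN.1)
      exact hpr ((Nat.prime_dvd_prime_iff_eq hp.out hr.out).1 (hp.out.dvd_of_dvd_pow hd))
  have hnorm : ∀ {X : Subgroup G} {x : H}, X ≤ H → (x : G) ∈ Subgroup.normalizer (X : Set G) →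
      π x ∈ Subgroup.normalizer (((X.subgroupOf H).map π : Subgroup (H ⧸ N)) : Set (H ⧸ N)) := by
    intro X x _ hx
    refine Subgroup.le_normalizer_map π (Subgroup.mem_map_of_mem π ?_)
    refine Subgroup.mem_normalizer_iff.2 fun y => ?_
    show (y : G) ∈ X ↔ _
    exact Subgroup.mem_normalizer_iff.1 hx y
  haveI : Group.IsSolvable (H ⧸ N) :=
    Group.isSolvable_of_surjective (QuotientGroup.mk'_surjective N)
  have hfixed := FixedPoint.fixed_ne_bot (G := H ⧸ N) (p := p) (q := r) (s := s)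
    ((hodd.of_dvd_nat H.card_subgroup_dvd_card).of_dvd_nat (Subgroup.card_quotient_dvd_card N))
    hpr hps hrs (U := U') (V := V') ((hQ.comap_subtype (K := H)).map π)
    (((hR.to_le hVR).comap_subtype (K := H)).map π) hb'
    (by
      rintro _ ⟨x, hx, rfl⟩
      exact hnorm hQH (hVQ hx))
    (hnorm hQH haQ) (hnorm hVH haV)
    (by
      have e : ⁅V.subgroupOf H, Subgroup.zpowers b⁆ = V.subgroupOf H := by
        refine Subgroup.map_injective H.subtype_injective ?_
        rw [Subgroup.map_commutator, Subgroup.map_subgroupOf_eq_of_le hVH, MonoidHom.map_zpowers]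
        exact hVV
      rw [hV', ← MonoidHom.map_zpowers, ← Subgroup.map_commutator, e])
    (fun hc => hnc fun v hv => Subgroup.mem_centralizer_iff.2 fun u hu => by
      have h1 : π (⁅(⟨u, hQH hu⟩ : H), ⟨v, hVH hv⟩⁆) = 1 := by
        rw [map_commutatorElement, commutatorElement_eq_one_iff_mul_comm]
        exact Subgroup.mem_centralizer_iff.1
          (hc (Subgroup.mem_map_of_mem π (show (⟨v, hVH hv⟩ : H) ∈ V.subgroupOf H from hv)))
          _ (Subgroup.mem_map_of_mem π (show (⟨u, hQH hu⟩ : H) ∈ Q.subgroupOf H from hu))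
      have h2 : ⁅u, v⁆ ∈ Q := by
        rw [commutatorElement_def, show u * v * u⁻¹ * v⁻¹ = u * (v * u⁻¹ * v⁻¹) by group]
        exact mul_mem hu ((Subgroup.mem_normalizer_iff.1 (hVQ hv) _).1 (inv_mem hu))
      refine commutatorElement_eq_one_iff_mul_comm.1 (Subgroup.mem_bot.1 (hQN ▸ ⟨h2, ?_⟩))
      exact (hπ1 _).1 h1)
    (by
      rintro _ ⟨v, hv, rfl⟩ hc -
      refine (hπ1 v).2 ⟨hv, Subgroup.mem_centralizer_iff.2 fun u hu => ?_⟩
      have h1 : π (⁅(⟨u, hQH hu⟩ : H), v⁆) = 1 := by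
        rw [map_commutatorElement, commutatorElement_eq_one_iff_mul_comm]
        exact Subgroup.mem_centralizer_iff.1 hc _
          (Subgroup.mem_map_of_mem π (show (⟨u, hQH hu⟩ : H) ∈ Q.subgroupOf H from hu))
      have h2 : ⁅u, (v : G)⁆ ∈ Q := by
        rw [commutatorElement_def,
          show u * (v : G) * u⁻¹ * (v : G)⁻¹ = u * ((v : G) * u⁻¹ * (v : G)⁻¹) by group]
        exact mul_mem hu ((Subgroup.mem_normalizer_iff.1 (hVQ hv) _).1 (inv_mem hu))
      exact commutatorElement_eq_one_iff_mul_comm.1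
        (Subgroup.mem_bot.1 (hQN ▸ ⟨h2, (hπ1 _).1 h1⟩)))
  apply hfixed
  rw [eq_bot_iff]
  rintro _ ⟨⟨u, hu, rfl⟩, hc⟩
  have h1 : π ⁅u, b⁆ = 1 := by
    rw [map_commutatorElement, commutatorElement_eq_one_iff_mul_comm]
    exact Subgroup.mem_centralizer_singleton_iff.1 hc
  have h2 : ⁅(u : G), a⁆ ∈ Q := by
    rw [commutatorElement_def,
      show (u : G) * a * (u : G)⁻¹ * a⁻¹ = (u : G) * (a * (u : G)⁻¹ * a⁻¹) by group]
    exact mul_mem hu ((Subgroup.mem_normalizer_iff.1 haQ _).1 (inv_mem hu))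
  have h3 : (u : G) ∈ Q ⊓ Subgroup.centralizer ({a} : Set G) :=
    ⟨hu, Subgroup.mem_centralizer_singleton_iff.2 (commutatorElement_eq_one_iff_mul_comm.1
      (Subgroup.mem_bot.1 (hQN ▸ ⟨h2, (hπ1 _).1 h1⟩)))⟩
  rw [hfix, Subgroup.mem_bot] at h3
  rw [Subgroup.mem_bot, show u = 1 from Subtype.ext h3, map_one]

/-- A subgroup with a fixed-point-free operator of prime order is nilpotent. -/
theorem isNilpotent_of_fpf {p : ℕ} [hp : Fact p.Prime] {K : Subgroup G}
    (hK : Group.IsSolvable K) {a : G} (ha : a ∈ Subgroup.normalizer (K : Set G))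
    (hap : a ^ p = 1) (hfix : K ⊓ Subgroup.centralizer ({a} : Set G) = ⊥) :
    Group.IsNilpotent K := by
  refine FpfHeight.FourGroupFitting.isNilpotent_of_fpf_prime K hK hp.out
    (K.normalizerMonoidHom ⟨a, ha⟩) ?_ fun g hg => ?_
  · rw [← map_pow, show (⟨a, ha⟩ : Subgroup.normalizer (K : Set G)) ^ p = 1 from
      Subtype.ext (by simpa using hap), map_one]
  · have h1 : a * (g : G) * a⁻¹ = (g : G) := congrArg Subtype.val hg
    refine Subtype.ext (Subgroup.mem_bot.1 (hfix ▸ (⟨g.2, ?_⟩ : (g : G) ∈ K ⊓ _)))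
    exact Subgroup.mem_centralizer_singleton_iff.2 (mul_inv_eq_iff_eq_mul.1 h1).symm

end Cfsg.Agent.Lib.OddTau.Basic
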