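import Cfsg.Agent.Lib.OddTau.TauTwoAbelian
import Cfsg.Agent.Lib.OddOrder.CyclicSylow

/-!
# BG 15: the `σ(M)'`-part of `F(M)`
-/

set_option autoImplicit false
set_option linter.style.haveILetI false
set_option linter.unusedSectionVars false

namespace Cfsg.Agent.Lib.OddTau.SigmaPrimeFitting

open scoped commutatorElement

open Cfsg.Agent.Lib.OddOrder Cfsg.Agent.Lib.OddOrder.MinSimple Cfsg.Agent.Lib.OddTau.Basic

universe u

variable {G : Type u} [Group G] [Finite G] {M : Subgroup G}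

/-- `O_p(M)`, `p ∉ σ(M)`, centralizes `M_σ`. -/
theorem pCoreOf_le_centralizer {p : ℕ} [Fact p.Prime] (hp : p ∉ Cfsg.sigma M) :
    Cfsg.pCoreOf p M ≤ Subgroup.centralizer (Cfsg.sigmaCore M : Set G) := by
  intro x hx
  refine Subgroup.mem_centralizer_iff.2 fun y hy => commutatorElement_eq_one_iff_mul_comm.1 ?_
  have hXM : Cfsg.pCoreOf p M ≤ M := Subgroup.map_subtype_le _
  have h : ⁅y, x⁆ ∈ Cfsg.sigmaCore M ⊓ Cfsg.pCoreOf p M := by
    rw [commutatorElement_def]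
    refine ⟨?_, (Cfsg.pCoreOf p M).mul_mem ((Subgroup.mem_normalizer_iff.1
      (CharP.le_normalizer_pCoreOf p M (sigmaCore_le M hy)) x).1 hx)
      ((Cfsg.pCoreOf p M).inv_mem hx)⟩
    rw [show y * x * y⁻¹ * x⁻¹ = y * (x * y⁻¹ * x⁻¹) by group]
    exact mul_mem hy ((Subgroup.mem_normalizer_iff.1
      (le_normalizer_sigmaCore M (hXM hx)) y⁻¹).1 (inv_mem hy))
  rwa [OddOrder.Basic.inf_eq_bot_of_coprime
    (coprime_sigmaCore (CharP.isPGroup_pCoreOf p M) hp).symm, Subgroup.mem_bot] at h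

/-- A prime outside `σ(M)` with `O_p(M) ≠ 1` is in `τ₂(M)`. -/
theorem mem_tau2 (hG : Cfsg.IsMinSimpleOddOrder G) (hM : IsCoatom M) {p : ℕ} [Fact p.Prime]
    (hp : p ∉ Cfsg.sigma M) (hne : Cfsg.pCoreOf p M ≠ ⊥) : p ∈ Cfsg.tau2 M :=
  (SigmaEmbedding.mem_sigma_or_tau2 hG hM (CharP.isPGroup_pCoreOf p M) hne
    (normalizer_eq_of_coatom hG hM (Subgroup.map_subtype_le _) hne
      (CharP.le_normalizer_pCoreOf p M)).le).resolve_left hp

theorem spec (hG : Cfsg.IsMinSimpleOddOrder G) (hM : IsCoatom M) :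
    IsCyclic ↥(Cfsg.piCoreOf {q | q.Prime ∧ q ∉ Cfsg.sigma M} (Cfsg.fittingOf M)) ∧
      (∀ p : ℕ, p.Prime →
        p ∣ Nat.card ↥(Cfsg.piCoreOf {q | q.Prime ∧ q ∉ Cfsg.sigma M} (Cfsg.fittingOf M)) →
          p ∈ Cfsg.tau2 M) ∧
      Cfsg.fittingOf M = Cfsg.fittingOf (Cfsg.sigmaCore M) ⊔
        Cfsg.piCoreOf {q | q.Prime ∧ q ∉ Cfsg.sigma M} (Cfsg.fittingOf M) := by
  set π := {q : ℕ | q.Prime ∧ q ∉ Cfsg.sigma M} with hπ
  set F := Cfsg.fittingOf M with hF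
  set Y := Cfsg.piCoreOf π F with hY
  have hFM : F ≤ M := Cores.fittingOf_le M
  have hYF : Y ≤ F := piCoreOf_le π F
  have hsyl : ∀ (p : ℕ) [Fact p.Prime] (Q : Subgroup G), IsPGroup p Q → Q ≤ Y → Q ≠ ⊥ →
      p ∉ Cfsg.sigma M ∧ Q ≤ Cfsg.pCoreOf p M ∧ p ∈ Cfsg.tau2 M := by
    intro p _ Q hQ hQY hQ1
    have hp : p ∉ Cfsg.sigma M := ((piCoreOf_isPiGroup π F) p Fact.out
      ((SigmaEmbedding.ne_one_of_pgroup hQ hQ1).trans (Subgroup.card_dvd_of_le hQY))).2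
    have hle := Fitting.le_pCoreOf_of_fitting (hQY.trans hYF) hQ
    exact ⟨hp, hle, mem_tau2 hG hM hp (ne_bot_of_le_ne_bot hQ1 hle)⟩
  haveI := Cores.fittingOf_isNilpotent M
  have hYnil : Group.IsNilpotent Y := Group.nilpotent_of_mulEquiv (Subgroup.subgroupOfEquivOfLe hYF)
  refine ⟨?_, fun p hp hd => ?_, le_antisymm ?_ (sup_le ?_ hYF)⟩
  · haveI := hYnil
    refine CyclicSylow.isCyclic_of_sylow_cyclic fun p hp Q => ?_
    haveI := Fact.mk hp
    by_contra hnc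
    set Q₀ := (Q : Subgroup Y).map Y.subtype with hQ₀
    have hQ1 : (Q : Subgroup Y) ≠ ⊥ := fun e => hnc (by rw [e]; infer_instance)
    have hQ₀1 : Q₀ ≠ ⊥ := fun e =>
      hQ1 ((Subgroup.map_eq_bot_iff_of_injective _ Y.subtype_injective).1 e)
    obtain ⟨hpσ, hle, hpτ⟩ := hsyl p Q₀ (Q.2.map _) (Subgroup.map_subtype_le _) hQ₀1
    have hnc₀ : ¬ IsCyclic Q₀ := fun hc => hnc (by
      haveI := hc
      exact ((Q : Subgroup Y).equivMapOfInjective _ Y.subtype_injective).isCyclic.2 hc)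
    obtain ⟨B, -, hB, hBc⟩ := PGroups.exists_normal_elemAb_sq
      (ne_two_of_dvd hG ((SigmaEmbedding.ne_one_of_pgroup (Q.2.map Y.subtype) hQ₀1).trans
        Q₀.card_subgroup_dvd_card)) (Q.2.map Y.subtype) hnc₀
    have hB₀X : B.map Q₀.subtype ≤ Cfsg.pCoreOf p M := (Subgroup.map_subtype_le _).trans hle
    have h : Ctx M p (B.map Q₀.subtype) := ⟨hG, hM, hpτ, hB₀X.trans (Subgroup.map_subtype_le _),
      PGroups.elemAb_map Q₀.subtype hB,
      (Subgroup.card_map_of_injective Q₀.subtype_injective).trans hBc⟩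
    exact SigmaNormal.sigmaCore_ne_bot h (le_bot_iff.1 ((le_inf le_rfl
      (Subgroup.le_centralizer_iff.1 (hB₀X.trans (pCoreOf_le_centralizer hpσ)))).trans
        (Context.centralizer_inf_eq_bot h).le))
  · haveI := Fact.mk hp
    obtain ⟨y, hy⟩ := exists_prime_orderOf_dvd_card' p hd
    exact (hsyl p (Subgroup.zpowers (y : G))
      (IsPGroup.of_card (n := 1) (by rw [Nat.card_zpowers, Subgroup.orderOf_coe, hy, pow_one]))
      (Subgroup.zpowers_le.2 y.2) fun e => hp.ne_one (by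
        rw [← hy, ← Subgroup.orderOf_coe, Subgroup.zpowers_eq_bot.1 e, orderOf_one])).2.2
  · intro x hx
    refine OddLocal.DerivedFitting.mem_of_primePow_parts fun q hq y hy ⟨k, hk⟩ => ?_
    haveI := Fact.mk hq
    have hyX := Fitting.mem_pCoreOf_of_pow (Subgroup.zpowers_le.2 hx hy) hk
    have hX := CharP.isPGroup_pCoreOf q M
    by_cases hqσ : q ∈ Cfsg.sigma M
    · exact Subgroup.mem_sup_left (Fitting.le_fittingOf
        (pgroup_le_sigmaCore hG hM hqσ hX (Subgroup.map_subtype_le _))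
        ((sigmaCore_le M).trans (CharP.le_normalizer_pCoreOf q M)) hX.isNilpotent hyX)
    · refine Subgroup.mem_sup_right (le_piCoreOf (Fitting.pCoreOf_le_fittingOf q M)
        (hFM.trans (CharP.le_normalizer_pCoreOf q M)) (fun r hr hd => ?_) hyX)
      obtain ⟨n, hn⟩ := IsPGroup.iff_card.1 hX
      obtain rfl := (Nat.prime_dvd_prime_iff_eq hr hq).1 (hr.dvd_of_dvd_pow (hn ▸ hd))
      exact ⟨hq, hqσ⟩
  · exact Fitting.fittingOf_le_of_normal (sigmaCore_le M) (le_normalizer_sigmaCore M)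

end Cfsg.Agent.Lib.OddTau.SigmaPrimeFitting
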