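import Cfsg.Agent.Lib.OddTau.Nonabelian
import Cfsg.Agent.Lib.OddTau.Context
import Cfsg.Agent.Lib.OddOrder.SigmaSubgroup
import Cfsg.Agent.S1414

/-!
# BG 12.7: `p ∈ τ₂(M)` with nonabelian Sylow subgroups in `G`
-/

set_option autoImplicit false
set_option linter.style.haveILetI false
set_option linter.unusedSectionVars false

open scoped Pointwise commutatorElement

namespace Cfsg.Agent.Lib.OddTau.NonabelianSylow

open Cfsg.Agent.Lib.OddOrder Cfsg.Agent.Lib.OddOrder.MinSimple Cfsg.Agent.Lib.OddTau.Basic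
  Cfsg.Agent.Lib.OddTau.Exceptional Cfsg.Agent.Lib.OddTau.Unique

universe u

variable {G : Type u} [Group G] [Finite G] {p : ℕ} [hp : Fact p.Prime] {M A : Subgroup G}

theorem exists_eq_zpow_mul (h : Ctx M p A) {z a : G} (hz : z ∈ A) (hz1 : z ≠ 1) (ha : a ∈ A)
    (haz : a ∉ Subgroup.zpowers z) {b : G} (hb : b ∈ A) : ∃ s t : ℤ, b = z ^ s * a ^ t := by
  have hcn : Subgroup.zpowers a ≤ Subgroup.normalizer (Subgroup.zpowers z : Set G) := fun x hx =>
    Subgroup.centralizer_le_normalizer _ (Subgroup.mem_centralizer_iff.2 fun v hv =>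
      h.comm (Subgroup.zpowers_le.2 hz hv) (Subgroup.zpowers_le.2 ha hx))
  have hsub : Subgroup.zpowers z ⊔ Subgroup.zpowers a ≤ A :=
    sup_le (Subgroup.zpowers_le.2 hz) (Subgroup.zpowers_le.2 ha)
  have hlt : Subgroup.zpowers z < Subgroup.zpowers z ⊔ Subgroup.zpowers a :=
    lt_of_le_of_ne le_sup_left fun e => haz (e ▸ Subgroup.mem_sup_right (Subgroup.mem_zpowers a))
  have h1 : p < Nat.card ↥(Subgroup.zpowers z ⊔ Subgroup.zpowers a) := by
    rw [← h.orderOf_eq hz hz1, ← Nat.card_zpowers]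
    exact lt_of_le_of_ne (Subgroup.card_le_of_le hlt.le)
      fun e => hlt.ne (Subgroup.eq_of_le_of_card_ge hlt.le e.ge)
  obtain ⟨j, hj, hjc⟩ := (Nat.dvd_prime_pow hp.out).1 (h.card ▸ Subgroup.card_dvd_of_le hsub)
  rw [hjc] at h1
  have : 1 < j := (Nat.pow_lt_pow_iff_right hp.out.one_lt).1 (by rwa [pow_one])
  rw [← Subgroup.eq_of_le_of_card_ge hsub (by rw [h.card, hjc, show j = 2 by omega])] at hb
  obtain ⟨_, ⟨s, rfl⟩, _, ⟨t, rfl⟩, he⟩ := Set.mem_mul.1
    (by rw [← Subgroup.coe_mul_of_right_le_normalizer_left _ _ hcn]; exact hb :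
      b ∈ (Subgroup.zpowers z : Set G) * (Subgroup.zpowers a : Set G))
  exact ⟨s, t, he.symm⟩

/-- The elements of order `p` among the proper powers of elements of `P` are central in `S`. -/
theorem socle_mem_centralizer (h : Ctx M p A) (P : Sylow p M)
    (hAP : A ≤ (P : Subgroup M).map M.subtype) (S : Sylow p G)
    (hPS : (P : Subgroup M).map M.subtype ≤ S) {x : G} (hx : x ∈ (P : Subgroup M).map M.subtype)
    {j : ℕ} (hu : (x ^ p ^ (j + 1)) ^ p = 1) :
    x ^ p ^ (j + 1) ∈ Subgroup.centralizer ((S : Subgroup G) : Set G) := by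
  have hp2 := h.ne_two
  have hAS : A ≤ (S : Subgroup G) := hAP.trans hPS
  set u := x ^ p ^ (j + 1) with hudef
  have huA : u ∈ A :=
    (Sylow.pow_eq_one_iff h P hAP u (pow_mem hx _)).1 hu
  have hSnc : ¬ IsCyclic (S : Subgroup G) := fun hc =>
    h.not_isCyclic (haveI := hc; Subgroup.isCyclic_of_le hAS)
  obtain ⟨W', hW'n, hW', hW'c⟩ := PGroups.exists_normal_elemAb_sq hp2 S.2 hSnc
  set W := W'.map (S : Subgroup G).subtype with hW
  have hWS : W ≤ (S : Subgroup G) := Subgroup.map_subtype_le _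
  have hWe : Cfsg.IsElementaryAbelian p W := PGroups.elemAb_map _ hW'
  have hWc : Nat.card W = p ^ 2 := by
    rw [hW, Subgroup.card_map_of_injective (Subgroup.subtype_injective _), hW'c]
  have hSW : (S : Subgroup G) ≤ Subgroup.normalizer (W : Set G) :=
    OddOrder.Basic.le_normalizer_map_subtype _ W'
  obtain ⟨Z', hZ'W, hZ'c, -, hZ'p⟩ := PGroups.exists_central_card_prime S.2 W' fun e => by
    rw [e, Subgroup.card_bot] at hW'c
    exact (Nat.one_lt_pow two_ne_zero hp.out.one_lt).ne hW'c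
  obtain ⟨⟨z, hzS⟩, hz', hz1'⟩ := Z'.bot_or_exists_ne_one.resolve_left fun e => by
    rw [e, Subgroup.card_bot] at hZ'p
    exact hp.out.ne_one hZ'p.symm
  have hz1 : z ≠ 1 := fun e => hz1' (Subtype.ext e)
  have hzW : z ∈ W := ⟨⟨z, hzS⟩, hZ'W hz', rfl⟩
  have hzC : ∀ x ∈ (S : Subgroup G), Commute x z := fun x hx =>
    congrArg Subtype.val (Subgroup.mem_center_iff.1 (hZ'c hz') ⟨x, hx⟩)
  have hzA : z ∈ A := Sylow.mem_of_centralizes h
    (Subgroup.mem_centralizer_iff.2 fun x hx => hzC x (hAS hx)) (hWe.2 z hzW)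
  by_cases hAW : A ≤ Subgroup.centralizer (W : Set G)
  · have hWA : W = A := Subgroup.eq_of_le_of_card_ge (fun w hw => Sylow.mem_of_centralizes h
      (Subgroup.le_centralizer_iff.1 hAW hw) (hWe.2 w hw)) (by rw [h.card, hWc])
    have hr := Abelian.prankLE_of_normal h (hWA ▸ hSW) hzA hz1 hzC
    rcases SylowNormalizer.structure_rank_two h.min
      (fun H hH => PLengthOne.of_ne_top h.min p H hH) S hr with hab |
      ⟨P₁, P₂, hsup, hcomm, -, -, hexp₁, hcyc, hΩ⟩
    · exact Subgroup.mem_centralizer_iff.2 fun y hy =>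
        congrArg Subtype.val (hab.is_comm.comm ⟨y, hy⟩ ⟨u, hAS huA⟩)
    have hn : P₂ ≤ Subgroup.normalizer (P₁ : Set G) := fun c hc =>
      Subgroup.centralizer_le_normalizer _ (Subgroup.mem_centralizer_iff.2 fun b hb =>
        hcomm b hb c hc)
    have hdec : ∀ y ∈ (S : Subgroup G), ∃ b ∈ P₁, ∃ c ∈ P₂, b * c = y := fun y hy => by
      rw [← hsup] at hy
      exact Set.mem_mul.1 (by
        rw [← Subgroup.coe_mul_of_right_le_normalizer_left _ _ hn]; exact hy)
    obtain ⟨b, hb, c, hc, hbc⟩ := hdec x (hPS hx)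
    have hu2 : u ∈ P₂ := by
      rw [hudef, ← hbc, (show Commute b c from hcomm b hb c hc).mul_pow]
      have hb1 : b ^ p ^ (j + 1) = 1 := by
        have hbp := congrArg Subtype.val (Monoid.pow_exponent_eq_one (⟨b, hb⟩ : P₁))
        rw [hexp₁] at hbp
        rw [pow_succ', pow_mul]
        simp only [SubmonoidClass.coe_pow, OneMemClass.coe_one] at hbp
        rw [hbp, one_pow]
      rw [hb1, one_mul]
      exact pow_mem hc _
    refine Subgroup.mem_centralizer_iff.2 fun y hy => ?_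
    obtain ⟨b', hb', c', hc', rfl⟩ := hdec y hy
    have huZ : u ∈ P₁ ⊓ Subgroup.centralizer (P₁ : Set G) := hΩ ▸ Subgroup.subset_closure ⟨hu2, hu⟩
    haveI := hcyc
    exact (Commute.mul_left (Subgroup.mem_centralizer_iff.1 huZ.2 b' hb')
      (congrArg Subtype.val ((IsCyclic.commGroup (α := P₂)).mul_comm ⟨c', hc'⟩ ⟨u, hu2⟩))).eq
  by_cases huz : u ∈ Subgroup.zpowers z
  · obtain ⟨i, hi⟩ := huz
    exact Subgroup.mem_centralizer_iff.2 fun y hy => hi ▸ ((hzC y hy).zpow_right i).eq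
  exfalso
  refine hAW fun b hb => Subgroup.mem_centralizer_iff.2 fun w hw => ?_
  obtain ⟨s, t, rfl⟩ := exists_eq_zpow_mul h hzA hz1 huA huz hb
  obtain ⟨k, hk⟩ := S.2 ⟨x, hPS hx⟩
  obtain ⟨i, hi⟩ := Sylow.exists_step hWe hWc hzW hz1 (k := k)
    (by simpa using congrArg Subtype.val hk) (hSW (hPS hx)) (hzC x (hPS hx)) hw
  have hpow : ∀ n : ℕ, x ^ n * w * (x ^ n)⁻¹ = (z ^ i) ^ n * w := by
    intro n
    induction n with
    | zero => simp
    | succ n ih =>
      have h1 : x * (z ^ i) ^ n * x⁻¹ = (z ^ i) ^ n := by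
        rw [(((hzC x (hPS hx)).zpow_right i).pow_right n).eq, mul_inv_cancel_right]
      calc x ^ (n + 1) * w * (x ^ (n + 1))⁻¹ = x * (x ^ n * w * (x ^ n)⁻¹) * x⁻¹ := by
            rw [pow_succ']; group
        _ = (x * (z ^ i) ^ n * x⁻¹) * (x * w * x⁻¹) := by rw [ih]; group
        _ = _ := by rw [h1, hi, ← mul_assoc, ← pow_succ]
  have hxp := hpow p
  rw [show (z ^ i) ^ p = 1 by
    rw [← zpow_natCast, ← zpow_mul, mul_comm, zpow_mul, zpow_natCast, hWe.2 z hzW, one_zpow],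
    one_mul, mul_inv_eq_iff_eq_mul] at hxp
  have huw : Commute u w := by
    rw [hudef, pow_succ', pow_mul]
    exact (show Commute (x ^ p) w from hxp).pow_left _
  exact ((((hzC w (hWS hw))).zpow_right s).mul_right (huw.symm.zpow_right t)).eq

/-- The data attached to a nonabelian Sylow subgroup over `A`. -/
structure Data (M : Subgroup G) (p : ℕ) (A : Subgroup G) (S : Sylow p G) (z a g : G) : Prop where
  ctx : Ctx M p A
  le_sylow : A ≤ (S : Subgroup G)
  nab : ¬ IsMulCommutative (S : Subgroup G)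
  not_le : ¬ (S : Subgroup G) ≤ M
  zmem : z ∈ A
  zne : z ≠ 1
  zcen : ∀ x ∈ (S : Subgroup G), Commute x z
  amem : a ∈ A
  anotz : a ∉ Subgroup.zpowers z
  acen : Subgroup.centralizer ({a} : Set G) ≤ M
  gmem : g ∈ (S : Subgroup G)
  gnorm : g ∈ Subgroup.normalizer (A : Set G)
  gout : g ∉ M
  step : ∃ i : ℤ, (i : ZMod p) ≠ 0 ∧ g * a * g⁻¹ = z ^ i * a
  sylow : ∃ P : Sylow p M, A ≤ (P : Subgroup M).map M.subtype ∧
    (P : Subgroup M).map M.subtype ≤ (S : Subgroup G)

theorem exists_data (h : Ctx M p A) (hS : ∀ S : Sylow p G, ¬ IsMulCommutative (S : Subgroup G)) :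
    ∃ (S : Sylow p G) (z a g : G), Data M p A S z a g := by
  obtain ⟨P, hAP⟩ := exists_sylow_p h
  set P₀ := (P : Subgroup M).map M.subtype with hP₀
  obtain ⟨S, hPS⟩ := (P.2.map M.subtype).exists_le_sylow
  have hAS : A ≤ (S : Subgroup G) := hAP.trans hPS
  haveI hPc := Abelian.sylow_comm h P hAP
  have hSM : ¬ (S : Subgroup G) ≤ M := by
    intro hle
    refine hS S (Abelian.isMulCommutative_of_forall fun x hx y hy => ?_)
    have heq : (S : Subgroup G).subgroupOf M = (P : Subgroup M) :=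
      P.is_maximal' S.2.comap_subtype fun w hw => hPS ⟨w, hw, rfl⟩
    have hmem : ∀ w ∈ (S : Subgroup G), w ∈ P₀ := fun w hw =>
      ⟨⟨w, hle hw⟩, heq ▸ (show (⟨w, hle hw⟩ : M) ∈ (S : Subgroup G).subgroupOf M from hw), rfl⟩
    exact congrArg Subtype.val (mul_comm' (⟨x, hmem x hx⟩ : P₀) ⟨y, hmem y hy⟩)
  haveI : Nontrivial (S : Subgroup G) :=
    (Subgroup.nontrivial_iff_ne_bot _).2 (ne_bot_of_le_ne_bot h.ne_bot hAS)
  haveI := S.2.center_nontrivial
  obtain ⟨n, hn, hnc⟩ :=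
    (S.2.to_subgroup (Subgroup.center (S : Subgroup G))).nontrivial_iff_card.1 inferInstance
  obtain ⟨⟨⟨z, hzS⟩, hzc⟩, hzo⟩ := exists_prime_orderOf_dvd_card'
    (G := Subgroup.center (S : Subgroup G)) p ((dvd_pow_self p hn.ne').trans hnc.symm.dvd)
  rw [← Subgroup.orderOf_coe, ← Subgroup.orderOf_coe] at hzo
  have hzC : ∀ x ∈ (S : Subgroup G), Commute x z := fun x hx =>
    congrArg Subtype.val (Subgroup.mem_center_iff.1 hzc ⟨x, hx⟩)
  have hz1 : z ≠ 1 := fun e => hp.out.ne_one (by rw [← hzo]; exact orderOf_eq_one_iff.2 e)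
  have hzA : z ∈ A := Sylow.mem_of_centralizes h
    (Subgroup.mem_centralizer_iff.2 fun x hx => hzC x (hAS hx)) (hzo ▸ pow_orderOf_eq_one z)
  obtain ⟨a, ha, ha1, -, haC⟩ := exists_good h
  have hSzC : (S : Subgroup G) ≤ Subgroup.centralizer ({z} : Set G) := fun x hx =>
    Subgroup.mem_centralizer_singleton_iff.2 (hzC x hx).eq
  have haz : a ∉ Subgroup.zpowers z := by
    rintro ⟨i, hi⟩
    refine hSM (le_trans (fun x hx => ?_) haC)
    exact Subgroup.mem_centralizer_singleton_iff.2 (hi ▸ ((hzC x hx).zpow_right i).eq)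
  have hlt : P₀ < (S : Subgroup G) :=
    lt_of_le_of_ne hPS fun e => hSM (e ▸ Subgroup.map_subtype_le _)
  obtain ⟨g, hg, hgP⟩ := SetLike.exists_of_lt (Sigma.exists_gt_inf_normalizer S.2 hlt)
  have hgM : g ∉ M := fun hm => hgP (by
    have heq : ((S : Subgroup G) ⊓ M).subgroupOf M = (P : Subgroup M) :=
      P.is_maximal' (S.2.to_le inf_le_left).comap_subtype fun w hw =>
        show (w : G) ∈ (S : Subgroup G) ⊓ M from ⟨hPS ⟨w, hw, rfl⟩, w.2⟩
    exact ⟨⟨g, hm⟩, heq ▸ (show (⟨g, hm⟩ : M) ∈ ((S : Subgroup G) ⊓ M).subgroupOf M from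
      ⟨hg.1, hm⟩), rfl⟩)
  have hgA := Sylow.normalizer_le_normalizer h P hAP hg.2
  obtain ⟨k, hk⟩ := S.2 ⟨g, hg.1⟩
  obtain ⟨i, hi⟩ := Sylow.exists_step h.elem h.card hzA hz1 (k := k)
    (by simpa using congrArg Subtype.val hk) hgA (hzC g hg.1) ha
  refine ⟨S, z, a, g, h, hAS, hS S, hSM, hzA, hz1, hzC, ha, haz, haC, hg.1, hgA, hgM,
    ⟨i, fun h0 => ?_, hi⟩, P, hAP, hPS⟩
  rw [ZMod.intCast_zmod_eq_zero_iff_dvd, ← hzo, orderOf_dvd_iff_zpow_eq_one] at h0
  rw [h0, one_mul] at hi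
  exact hgM (haC (Subgroup.mem_centralizer_singleton_iff.2 (mul_inv_eq_iff_eq_mul.1 hi)))

variable {S : Sylow p G} {z a g : G}

theorem Data.exists_maximal (d : Data M p A S z a g) :
    ∃ L : Subgroup G, IsCoatom L ∧ L ≠ M ∧ (S : Subgroup G) ≤ L ∧ p ∈ Cfsg.sigma L ∧
      Subgroup.centralizer ({z} : Set G) ≤ L := by
  have hU := Nonabelian.inUniqueMaximal d.ctx.min S.2 d.nab
  have hSz : (S : Subgroup G) ≤ Subgroup.centralizer ({z} : Set G) := fun x hx =>
    Subgroup.mem_centralizer_singleton_iff.2 (d.zcen x hx).eq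
  obtain ⟨L, hL, hzL⟩ := exists_coatom_ge d.ctx.min (centralizer_singleton_ne_top d.ctx.min d.zne)
  exact ⟨L, hL, fun e => d.not_le (e ▸ hSz.trans hzL), hSz.trans hzL,
    Nonabelian.mem_sigma d.ctx.min hL S.2 d.nab (hSz.trans hzL), hzL⟩

theorem Data.fixed_z (d : Data M p A S z a g) :
    Cfsg.sigmaCore M ⊓ Subgroup.centralizer ({z} : Set G) = ⊥ := by
  obtain ⟨L, hL, hLM, -, -, hzL⟩ := d.exists_maximal
  by_contra hne
  refine hLM (eq_of_meet d.ctx hL (le_trans (fun b hb => ?_) hzL)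
    (ne_bot_of_le_ne_bot hne (inf_le_inf_left _ hzL)))
  exact Subgroup.mem_centralizer_singleton_iff.2 (d.ctx.comm hb d.zmem).eq

theorem Data.z_pow (d : Data M p A S z a g) : z ^ p = 1 := d.ctx.elem.2 z d.zmem

/-- The elements of `A` outside `⟨a⟩` act without fixed points and have centralizers outside `M`. -/
theorem Data.outside (d : Data M p A S z a g) {b : G} (hb : b ∈ A)
    (hba : b ∉ Subgroup.zpowers a) :
    Cfsg.sigmaCore M ⊓ Subgroup.centralizer ({b} : Set G) = ⊥ ∧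
      ¬ Subgroup.centralizer ({b} : Set G) ≤ M := by
  have h := d.ctx
  obtain ⟨s, t, rfl⟩ := exists_eq_zpow_mul h d.zmem d.zne d.amem d.anotz hb
  have hs : (s : ZMod p) ≠ 0 := fun h0 => hba (by
    rw [ZMod.intCast_zmod_eq_zero_iff_dvd, ← h.orderOf_eq d.zmem d.zne,
      orderOf_dvd_iff_zpow_eq_one] at h0
    rw [h0, one_mul]
    exact ⟨t, rfl⟩)
  by_cases ht : (t : ZMod p) = 0
  · rw [ZMod.intCast_zmod_eq_zero_iff_dvd] at ht
    obtain ⟨c, rfl⟩ := ht
    rw [show a ^ ((p : ℤ) * c) = 1 by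
      rw [zpow_mul, zpow_natCast, h.elem.2 a d.amem, one_zpow], mul_one]
    obtain ⟨n, hn⟩ := Sylow.exists_pow_eq d.z_pow hs 1
    rw [zpow_one] at hn
    have heq : Subgroup.centralizer ({z ^ s} : Set G) = Subgroup.centralizer ({z} : Set G) := by
      ext w
      rw [Subgroup.mem_centralizer_singleton_iff, Subgroup.mem_centralizer_singleton_iff]
      exact ⟨fun hw => hn ▸ ((show Commute w (z ^ s) from hw).pow_right n).eq,
        fun hw => ((show Commute w z from hw).zpow_right s).eq⟩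
    rw [heq]
    refine ⟨d.fixed_z, fun hle => d.not_le (le_trans (fun x hx => ?_) hle)⟩
    exact Subgroup.mem_centralizer_singleton_iff.2 (d.zcen x hx).eq
  obtain ⟨i, hi0, hi⟩ := d.step
  obtain ⟨n, hn⟩ : ∃ n : ℕ, ((z ^ i) ^ n) ^ t = z ^ s := by
    have hit : ((i * t : ℤ) : ZMod p) ≠ 0 := by push_cast; exact mul_ne_zero hi0 ht
    obtain ⟨n, hn⟩ := Sylow.exists_pow_eq d.z_pow hit s
    exact ⟨n, by rw [← hn, ← zpow_natCast, ← zpow_natCast, ← zpow_mul, ← zpow_mul,
      ← zpow_mul]; congr 1; ring⟩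
  have hgn : ∀ n : ℕ, g ^ n * a * (g ^ n)⁻¹ = (z ^ i) ^ n * a := by
    intro n
    induction n with
    | zero => simp
    | succ n ih =>
      have h1 : g * (z ^ i) ^ n * g⁻¹ = (z ^ i) ^ n := by
        rw [(((d.zcen g d.gmem).zpow_right i).pow_right n).eq, mul_inv_cancel_right]
      calc g ^ (n + 1) * a * (g ^ (n + 1))⁻¹ = g * (g ^ n * a * (g ^ n)⁻¹) * g⁻¹ := by
            rw [pow_succ']; group
        _ = (g * (z ^ i) ^ n * g⁻¹) * (g * a * g⁻¹) := by rw [ih]; group
        _ = _ := by rw [h1, hi, ← mul_assoc, ← pow_succ]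
  have hconj : g ^ n * a ^ t * (g ^ n)⁻¹ = z ^ s * a ^ t := by
    rw [← conj_zpow, hgn, ((((h.comm d.zmem d.amem).zpow_left i).pow_left n)).mul_zpow, hn]
  have hgnM : g ^ n ∉ M := by
    intro hm
    -- elements of `S ∩ M` centralize `A`
    obtain ⟨P, hAP, hPS⟩ := d.sylow
    have heq : ((S : Subgroup G) ⊓ M).subgroupOf M = (P : Subgroup M) :=
      P.is_maximal' (S.2.to_le inf_le_left).comap_subtype fun w hw =>
        show (w : G) ∈ (S : Subgroup G) ⊓ M from ⟨hPS ⟨w, hw, rfl⟩, w.2⟩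
    have hmem : g ^ n ∈ (P : Subgroup M).map M.subtype := ⟨⟨g ^ n, hm⟩, heq ▸
      (show (⟨g ^ n, hm⟩ : M) ∈ ((S : Subgroup G) ⊓ M).subgroupOf M from
        ⟨pow_mem d.gmem n, hm⟩), rfl⟩
    have hc : Commute (a ^ t) (g ^ n) := Subgroup.mem_centralizer_iff.1
      (Subgroup.le_centralizer_iff.1 (Sylow.le_centralizer h P hAP) hmem) _ (zpow_mem d.amem t)
    rw [← hc.eq, mul_inv_cancel_right] at hconj
    refine hs ?_
    rw [ZMod.intCast_zmod_eq_zero_iff_dvd, ← h.orderOf_eq d.zmem d.zne,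
      orderOf_dvd_iff_zpow_eq_one]
    exact mul_eq_right.1 hconj.symm
  obtain ⟨c, hc⟩ := Sylow.exists_pow_eq (u := a) (h.elem.2 a d.amem) ht 1
  rw [zpow_one] at hc
  have hat : Subgroup.centralizer ({a ^ t} : Set G) ≤ M := le_trans (fun w hw =>
    Subgroup.mem_centralizer_singleton_iff.2
      (hc ▸ ((show Commute w (a ^ t) from Subgroup.mem_centralizer_singleton_iff.1 hw).pow_right c).eq))
    d.acen
  have hfix := fixed_eq_bot h hgnM (le_conj_of_normalizer h (pow_mem d.gnorm n)) hat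
  rw [hconj] at hfix
  refine ⟨hfix, fun hle => ?_⟩
  -- then `M_σ` would meet a conjugate of `M`
  have haσ : Cfsg.sigmaCore M ⊓ Subgroup.centralizer ({a ^ t} : Set G) ≠ ⊥ := by
    intro h0
    haveI := h.elem.1
    refine SigmaNormal.sigmaCore_ne_bot h (le_bot_iff.1
      ((Coprime.iSup_centralizer_eq h.not_isCyclic h.le_normalizer h.coprime).ge.trans
        (iSup₂_le fun b hb => ?_)))
    by_cases hbz : b ∈ Subgroup.zpowers z
    · obtain ⟨m, rfl⟩ := hbz
      refine le_trans (inf_le_inf_left _ ?_) d.fixed_z.le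
      have hm : (m : ZMod p) ≠ 0 := fun h0 => hb.2 (by
        rw [ZMod.intCast_zmod_eq_zero_iff_dvd, ← h.orderOf_eq d.zmem d.zne,
          orderOf_dvd_iff_zpow_eq_one] at h0
        exact h0)
      obtain ⟨k, hk⟩ := Sylow.exists_pow_eq d.z_pow hm 1
      rw [zpow_one] at hk
      intro w hw
      exact Subgroup.mem_centralizer_singleton_iff.2 (hk ▸
        ((show Commute w (z ^ m) from Subgroup.mem_centralizer_singleton_iff.1 hw).pow_right k).eq)
    · obtain ⟨s', t', rfl⟩ := exists_eq_zpow_mul h d.zmem d.zne d.amem d.anotz hb.1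
      have ht' : (t' : ZMod p) ≠ 0 := fun h0 => hbz (by
        rw [ZMod.intCast_zmod_eq_zero_iff_dvd] at h0
        obtain ⟨c', rfl⟩ := h0
        rw [zpow_mul, zpow_natCast, h.elem.2 a d.amem, one_zpow, mul_one]
        exact ⟨s', rfl⟩)
      by_cases hs' : (s' : ZMod p) = 0
      · rw [ZMod.intCast_zmod_eq_zero_iff_dvd, ← h.orderOf_eq d.zmem d.zne,
          orderOf_dvd_iff_zpow_eq_one] at hs'
        rw [hs', one_mul]
        refine le_trans (inf_le_inf_left _ ?_) h0.le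
        obtain ⟨k, hk⟩ := Sylow.exists_pow_eq (u := a) (h.elem.2 a d.amem) ht' t
        intro w hw
        exact Subgroup.mem_centralizer_singleton_iff.2 (hk ▸
          ((show Commute w (a ^ t') from Subgroup.mem_centralizer_singleton_iff.1 hw).pow_right k).eq)
      obtain ⟨n', hn'⟩ : ∃ n : ℕ, ((z ^ i) ^ n) ^ t' = z ^ s' := by
        have hit : ((i * t' : ℤ) : ZMod p) ≠ 0 := by push_cast; exact mul_ne_zero hi0 ht'
        obtain ⟨n, hn⟩ := Sylow.exists_pow_eq d.z_pow hit s'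
        exact ⟨n, by rw [← hn, ← zpow_natCast, ← zpow_natCast, ← zpow_mul, ← zpow_mul,
          ← zpow_mul]; congr 1; ring⟩
      have hconj' : g ^ n' * a ^ t' * (g ^ n')⁻¹ = z ^ s' * a ^ t' := by
        rw [← conj_zpow, hgn, ((((h.comm d.zmem d.amem).zpow_left i).pow_left n')).mul_zpow, hn']
      have hgnM' : g ^ n' ∉ M := by
        intro hm
        obtain ⟨P, hAP, hPS⟩ := d.sylow
        have heq : ((S : Subgroup G) ⊓ M).subgroupOf M = (P : Subgroup M) :=
          P.is_maximal' (S.2.to_le inf_le_left).comap_subtype fun w hw =>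
            show (w : G) ∈ (S : Subgroup G) ⊓ M from ⟨hPS ⟨w, hw, rfl⟩, w.2⟩
        have hmem : g ^ n' ∈ (P : Subgroup M).map M.subtype := ⟨⟨g ^ n', hm⟩, heq ▸
          (show (⟨g ^ n', hm⟩ : M) ∈ ((S : Subgroup G) ⊓ M).subgroupOf M from
            ⟨pow_mem d.gmem n', hm⟩), rfl⟩
        have hc : Commute (a ^ t') (g ^ n') := Subgroup.mem_centralizer_iff.1
          (Subgroup.le_centralizer_iff.1 (Sylow.le_centralizer h P hAP) hmem) _
            (zpow_mem d.amem t')
        rw [← hc.eq, mul_inv_cancel_right] at hconj'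
        refine hs' ?_
        rw [ZMod.intCast_zmod_eq_zero_iff_dvd, ← h.orderOf_eq d.zmem d.zne,
          orderOf_dvd_iff_zpow_eq_one]
        exact mul_eq_right.1 hconj'.symm
      obtain ⟨c', hc'⟩ := Sylow.exists_pow_eq (u := a) (h.elem.2 a d.amem) ht' 1
      rw [zpow_one] at hc'
      have hat' : Subgroup.centralizer ({a ^ t'} : Set G) ≤ M := le_trans (fun w hw =>
        Subgroup.mem_centralizer_singleton_iff.2 (hc' ▸
          ((show Commute w (a ^ t') from Subgroup.mem_centralizer_singleton_iff.1 hw).pow_right c').eq))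
        d.acen
      rw [← hconj']
      exact (fixed_eq_bot h hgnM' (le_conj_of_normalizer h (pow_mem d.gnorm n')) hat').le
  obtain ⟨v, hv, hv1⟩ := (Subgroup.bot_or_exists_ne_one _).resolve_left haσ
  have hmem : v ∈ Cfsg.sigmaCore M ⊓ M.map (MulAut.conj (g ^ n)⁻¹).toMonoidHom := by
    refine ⟨hv.1, g ^ n * v * (g ^ n)⁻¹, hle ?_, by
      show (g ^ n)⁻¹ * (g ^ n * v * (g ^ n)⁻¹) * (g ^ n)⁻¹⁻¹ = v
      group⟩
    refine Subgroup.mem_centralizer_singleton_iff.2 ?_
    rw [← hconj]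
    have hvc : v * a ^ t = a ^ t * v := Subgroup.mem_centralizer_singleton_iff.1 hv.2
    calc g ^ n * v * (g ^ n)⁻¹ * (g ^ n * a ^ t * (g ^ n)⁻¹)
        = g ^ n * (v * a ^ t) * (g ^ n)⁻¹ := by group
      _ = _ := by rw [hvc]; group
  rw [inf_conj_eq_bot h (fun hm => hgnM (inv_mem_iff.1 hm))
    (le_conj_of_normalizer h (inv_mem (pow_mem d.gnorm n))), Subgroup.mem_bot] at hmem
  exact hv1 hmem

/-- `a` centralizes `M_σ`. -/
theorem Data.le_centralizer (d : Data M p A S z a g) :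
    Cfsg.sigmaCore M ≤ Subgroup.centralizer ({a} : Set G) := by
  haveI := d.ctx.elem.1
  refine (Coprime.iSup_centralizer_eq d.ctx.not_isCyclic d.ctx.le_normalizer
    d.ctx.coprime).ge.trans (iSup₂_le fun b hb => ?_)
  by_cases hba : b ∈ Subgroup.zpowers a
  · refine inf_le_right.trans fun w hw => ?_
    have ha1 : a ≠ 1 := fun e => d.anotz (e ▸ one_mem _)
    have heq : Subgroup.zpowers b = Subgroup.zpowers a :=
      Subgroup.eq_of_le_of_card_ge (Subgroup.zpowers_le.2 hba) (by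
        rw [Nat.card_zpowers, Nat.card_zpowers, d.ctx.orderOf_eq d.amem ha1,
          d.ctx.orderOf_eq hb.1 hb.2])
    obtain ⟨i, hi⟩ := (heq ▸ Subgroup.mem_zpowers a : a ∈ Subgroup.zpowers b)
    exact Subgroup.mem_centralizer_singleton_iff.2 (hi ▸
      ((show Commute w b from Subgroup.mem_centralizer_singleton_iff.1 hw).zpow_right i).eq)
  · exact (d.outside hb.1 hba).1.le.trans bot_le

theorem Data.inf_centralizer (d : Data M p A S z a g) :
    A ⊓ Subgroup.centralizer (Cfsg.sigmaCore M : Set G) = Subgroup.zpowers a := by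
  refine le_antisymm (fun b hb => ?_) (Subgroup.zpowers_le.2 ⟨d.amem,
    Subgroup.mem_centralizer_iff.2 fun x hx =>
      Subgroup.mem_centralizer_singleton_iff.1 (d.le_centralizer hx)⟩)
  by_contra hba
  refine SigmaNormal.sigmaCore_ne_bot d.ctx (le_bot_iff.1 (le_trans (le_inf le_rfl fun x hx => ?_)
    (d.outside hb.1 hba).1.le))
  exact Subgroup.mem_centralizer_singleton_iff.2 (Subgroup.mem_centralizer_iff.1 hb.2 x hx)

/-- No other prime is in `τ₂(M)`. -/
theorem Data.tau2_eq (d : Data M p A S z a g) {E : Subgroup G}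
    (hE : Cfsg.IsComplIn E (Cfsg.sigmaCore M) M) (hAE : A ≤ E) : Cfsg.tau2 M = {p} := by
  have h := d.ctx
  refine Set.eq_singleton_iff_unique_mem.2 ⟨h.tau, fun r hrτ => ?_⟩
  by_contra hrp
  haveI := Fact.mk hrτ.1
  haveI := solvable_of_ne_top h.min h.max.1
  obtain ⟨B₀, hB₀M, hB₀, hB₀c⟩ := RankTwoPrime.exists_elemAb_sq hrτ.2.2.1 hrτ.2.2.2
  obtain ⟨k, hk, hkE⟩ := SigmaSubgroup.exists_conj_le_of_sup (π := ({r} : Set ℕ))
    (solvable_of_ne_top h.min h.max.1) (sigmaCore_le M) (le_normalizer_sigmaCore M) hE.1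
    (by rw [sup_comm]; exact OddOrder.Basic.isComplIn_sup hE) hB₀M
    (Transitivity.inv_of_isPGroup (IsPGroup.of_card hB₀c))
    fun q hq hqd e => by
      rw [Set.mem_singleton_iff] at e
      exact hrτ.2.1 (e ▸ mem_sigma_of_dvd hq hqd)
  set B := B₀.map (MulAut.conj k).toMonoidHom with hB
  have hB' : Ctx M r B := ⟨h.min, h.max, hrτ, hkE.trans hE.1, PGroups.elemAb_conj k hB₀, by
    rw [hB, Subgroup.card_map_of_injective (MulAut.conj k).injective, hB₀c]⟩
  have hBA : B ≤ Subgroup.centralizer (A : Set G) := by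
    intro b hb
    refine Subgroup.mem_centralizer_iff.2 fun x hx => ?_
    have hmem : ⁅x, b⁆ ∈ A ⊓ B := by
      rw [commutatorElement_def]
      refine ⟨?_, B.mul_mem ((Subgroup.mem_normalizer_iff.1
        (Context.le_normalizer_of_compl hB' hE hkE (hAE hx)) b).1 hb) (B.inv_mem hb)⟩
      rw [show x * b * x⁻¹ * b⁻¹ = x * (b * x⁻¹ * b⁻¹) by group]
      exact A.mul_mem hx ((Subgroup.mem_normalizer_iff.1
        (Context.le_normalizer_of_compl h hE hAE (hkE hb)) _).1 (A.inv_mem hx))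
    rw [OddOrder.Basic.inf_eq_bot_of_coprime (Fitting.coprime_card (Ne.symm hrp) h.isPGroup
      hB'.isPGroup), Subgroup.mem_bot, commutatorElement_eq_one_iff_mul_comm] at hmem
    exact hmem
  obtain ⟨L, hL, hLM, hSL, hpσ, hzL⟩ := d.exists_maximal
  have hBL : B ≤ L := (hBA.trans (Subgroup.centralizer_le
    (Set.singleton_subset_iff.2 d.zmem))).trans hzL
  have hrτL : r ∉ Cfsg.tau2 L := by
    intro hrL
    have hBLctx : Ctx L r B := ⟨h.min, hL, hrL, hBL, hB'.elem, hB'.card⟩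
    refine hLM (eq_of_meet hBLctx h.max hB'.le ?_).symm
    exact ne_bot_of_le_ne_bot h.ne_bot
      (le_inf (pgroup_le_sigmaCore h.min hL hpσ h.isPGroup (d.le_sylow.trans hSL)) h.le)
  have hrσ : r ∈ Cfsg.sigma L := by
    by_contra hσ
    refine hrτL ⟨hrτ.1, hσ, ?_, fun h1 => ?_⟩
    · by_contra h2
      exact hσ (AlphaCore.alpha_subset_sigma h.min hL ⟨hrτ.1, h2⟩)
    · exact Rank.not_prankLE_of_elemAb hBL hB'.elem (by
        rw [hB'.card, pow_one]; exact lt_self_pow₀ hrτ.1.one_lt one_lt_two) h1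
  obtain ⟨-, -, -, ⟨H, hH, hHn⟩, -⟩ := Cfsg.Agent.S1414.result h.min L hL
  have hidx : ∀ {q : ℕ} [Fact q.Prime], q ∈ Cfsg.sigma L → ¬ Cfsg.IsIdealPrime q G →
      ¬ q ∣ H.index := by
    intro q hq hqσ hni hd
    obtain ⟨T, -, hTL, -⟩ := Sigma.exists_sylow_ge hqσ (X := ⊥) IsPGroup.of_bot bot_le
    rw [← Subgroup.relIndex_mul_index (hH.1.trans (sigmaCore_le L)),
      ← Subgroup.relIndex_mul_relIndex H _ L hH.1 (sigmaCore_le L)] at hd
    rcases hq.out.dvd_mul.1 hd with h1 | h1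
    · rcases hq.out.dvd_mul.1 h1 with h2 | h2
      · exact hH.2.2 q hq.out ⟨hq.out, fun hβ => hni hβ.2⟩ h2
      · exact (SigmaHall.sigmaCore_isPiHallOf h.min hL).2.2 q hq.out hqσ h2
    · exact T.not_dvd_index (h1.trans (Subgroup.index_dvd_of_le hTL))
  have hp' := hidx hpσ (RankTwoPrime.not_ideal h.min h.max h.tau.2.2.1 h.tau.2.2.2)
  have hr' := hidx hrσ (RankTwoPrime.not_ideal h.min h.max hrτ.2.2.1 hrτ.2.2.2)
  obtain ⟨Sp⟩ : Nonempty (Sylow p H) := inferInstance
  obtain ⟨Sr⟩ : Nonempty (Sylow r H) := inferInstance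
  let S' : Sylow p G := (Sp.2.map H.subtype).toSylow (by
    rw [Subgroup.index_map_subtype]
    exact fun hd => (hp.out.dvd_mul.1 hd).elim Sp.not_dvd_index hp')
  let R' : Sylow r G := (Sr.2.map H.subtype).toSylow (by
    rw [Subgroup.index_map_subtype]
    exact fun hd => (Fact.out (p := r.Prime)).dvd_mul.1 hd |>.elim Sr.not_dvd_index hr')
  have hcomm : (R' : Subgroup G) ≤ Subgroup.centralizer ((S' : Subgroup G) : Set G) :=
    OddOrder.Basic.le_centralizer_of_nilpotent hHn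
      (by rw [IsPGroup.toSylow_coe]; exact Subgroup.map_subtype_le _)
      (by rw [IsPGroup.toSylow_coe]; exact Subgroup.map_subtype_le _)
      (Fitting.coprime_card hrp R'.2 S'.2)
  obtain ⟨c, hc⟩ := MulAction.exists_smul_eq G S' S
  have hR : ((c • R' : Sylow r G) : Subgroup G) ≤
      Subgroup.centralizer ((S : Subgroup G) : Set G) := by
    rw [← hc, Sylow.coe_subgroup_smul, Sylow.coe_subgroup_smul]
    rintro _ ⟨x, hx, rfl⟩
    refine Subgroup.mem_centralizer_iff.2 ?_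
    rintro _ ⟨y, hy, rfl⟩
    show MulAut.conj c y * MulAut.conj c x = MulAut.conj c x * MulAut.conj c y
    rw [← map_mul, ← map_mul, Subgroup.mem_centralizer_iff.1 (hcomm hx) y hy]
  have hRM : ((c • R' : Sylow r G) : Subgroup G) ≤ M :=
    hR.trans ((Subgroup.centralizer_le (SetLike.coe_subset_coe.2 d.le_sylow)).trans
      h.centralizer_le)
  have hR1 := AlphaCentralizer.not_prankLE_sylow ((c • R').subtype hRM) hrτ.2.2.2
  rw [Sylow.coe_subtype, Subgroup.map_subgroupOf_eq_of_le hRM] at hR1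
  obtain ⟨B₁, hB₁, hB₁e, hB₁c⟩ :=
    RankTwoPrime.exists_elemAb_sq (Rank.prankLE_mono hRM hrτ.2.2.1) hR1
  have hB₁ctx : Ctx M r B₁ := ⟨h.min, h.max, hrτ, hB₁.trans hRM, hB₁e, hB₁c⟩
  exact d.not_le (le_trans (Subgroup.le_centralizer_iff.1 hR)
    ((Subgroup.centralizer_le (SetLike.coe_subset_coe.2 hB₁)).trans hB₁ctx.centralizer_le))

/-- `F(M) = M_σ × ⟨a⟩`. -/
theorem Data.fitting_eq (d : Data M p A S z a g) {E : Subgroup G}
    (hE : Cfsg.IsComplIn E (Cfsg.sigmaCore M) M) (hAE : A ≤ E) :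
    Cfsg.fittingOf M = Cfsg.sigmaCore M ⊔ Subgroup.zpowers a := by
  have h := d.ctx
  haveI := solvable_of_ne_top h.min h.max.1
  have hnil := isNilpotent_sigmaCore h
  refine le_antisymm ?_ ?_
  · intro x hx
    refine OddLocal.DerivedFitting.mem_of_primePow_parts fun s hs y hy hys => ?_
    obtain ⟨k, hk⟩ := hys
    haveI := Fact.mk hs
    have hyX : y ∈ Cfsg.pCoreOf s M :=
      Fitting.mem_pCoreOf_of_pow (Subgroup.zpowers_le.2 hx hy) hk
    set X := Cfsg.pCoreOf s M with hX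
    have hXp : IsPGroup s X := CharP.isPGroup_pCoreOf s M
    have hXM : X ≤ M := Subgroup.map_subtype_le _
    have hMX : M ≤ Subgroup.normalizer (X : Set G) := CharP.le_normalizer_pCoreOf s M
    by_cases hy1 : y = 1
    · exact hy1 ▸ one_mem _
    by_cases hsσ : s ∈ Cfsg.sigma M
    · exact Subgroup.mem_sup_left (pgroup_le_sigmaCore h.min h.max hsσ hXp hXM hyX)
    have hX1 : X ≠ ⊥ := fun e => hy1 (Subgroup.mem_bot.1 (e ▸ hyX))
    have hsp : s = p := by
      rcases SigmaEmbedding.mem_sigma_or_tau2 h.min h.max hXp hX1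
        (normalizer_eq_of_coatom h.min h.max hXM hX1 hMX).le with h1 | h1
      · exact absurd h1 hsσ
      · rw [d.tau2_eq hE hAE] at h1
        exact h1
    subst hsp
    obtain ⟨P, hAP, hPS⟩ := d.sylow
    have hXP : X ≤ (P : Subgroup M).map M.subtype := by
      have hJ : IsPGroup s ↥(X ⊔ (P : Subgroup M).map M.subtype) :=
        IsPGroup.to_sup_of_normal_left' hXp (P.2.map _)
          ((Subgroup.map_subtype_le _).trans hMX)
      have heq : (X ⊔ (P : Subgroup M).map M.subtype).subgroupOf M = (P : Subgroup M) :=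
        P.is_maximal' hJ.comap_subtype fun w hw => Subgroup.mem_sup_right ⟨w, hw, rfl⟩
      intro w hw
      exact ⟨⟨w, hXM hw⟩, heq ▸ (show (⟨w, hXM hw⟩ : M) ∈
        (X ⊔ (P : Subgroup M).map M.subtype).subgroupOf M from Subgroup.mem_sup_left hw), rfl⟩
    have hXC : X ≤ Subgroup.centralizer (Cfsg.sigmaCore M : Set G) :=
      OddOrder.Basic.le_centralizer_of_nilpotent (Cores.fittingOf_isNilpotent M)
        (Fitting.pCoreOf_le_fittingOf s M)
        (Fitting.le_fittingOf (sigmaCore_le M) (le_normalizer_sigmaCore M) hnil)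
        (coprime_sigmaCore hXp h.not_sigma)
    have hord : ∀ u ∈ X, u ^ s = 1 → u ∈ Subgroup.zpowers a := fun u hu hus => by
      rw [← d.inf_centralizer]
      exact ⟨(Sylow.pow_eq_one_iff h P hAP u (hXP hu)).1 hus, hXC hu⟩
    rcases k with _ | _ | k
    · exact absurd (orderOf_eq_one_iff.1 (by rw [hk, pow_zero])) hy1
    · rw [zero_add, pow_one] at hk
      exact Subgroup.mem_sup_right (hord y hyX (hk ▸ pow_orderOf_eq_one y))
    exfalso
    set u := y ^ s ^ (k + 1) with hu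
    have hus : u ^ s = 1 := by
      rw [hu, ← pow_mul, ← pow_succ, ← hk, pow_orderOf_eq_one]
    have huC := socle_mem_centralizer h P hAP S hPS (hXP hyX) hus
    obtain ⟨j, hj⟩ := hord u (pow_mem hyX _) hus
    obtain ⟨i, hi0, hi⟩ := d.step
    have hju : g * a ^ j * g⁻¹ = a ^ j := by
      rw [show a ^ j = u from hj, (show Commute g u from
        Subgroup.mem_centralizer_iff.1 huC g d.gmem).eq, mul_inv_cancel_right]
    rw [← conj_zpow, hi, ((h.comm d.zmem d.amem).zpow_left i).mul_zpow, mul_eq_right,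
      ← zpow_mul, ← orderOf_dvd_iff_zpow_eq_one, h.orderOf_eq d.zmem d.zne,
      ← ZMod.intCast_zmod_eq_zero_iff_dvd] at hju
    push_cast at hju
    have hj0 := (mul_eq_zero.1 hju).resolve_left hi0
    rw [ZMod.intCast_zmod_eq_zero_iff_dvd] at hj0
    obtain ⟨c, rfl⟩ := hj0
    have hu1 : u = 1 := by
      rw [← hj]
      show a ^ ((s : ℤ) * c) = 1
      rw [zpow_mul, zpow_natCast, h.elem.2 a d.amem, one_zpow]
    have hd := orderOf_dvd_iff_pow_eq_one.2 (hu ▸ hu1 : y ^ s ^ (k + 1) = 1)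
    rw [hk, Nat.pow_dvd_pow_iff_le_right hs.one_lt] at hd
    omega
  · refine sup_le (Fitting.le_fittingOf (sigmaCore_le M) (le_normalizer_sigmaCore M) hnil) ?_
    refine Fitting.le_fittingOf (Subgroup.zpowers_le.2 (h.le d.amem)) ?_
      (IsPGroup.of_card (p := p) (n := 1) (by rw [Nat.card_zpowers,
        h.orderOf_eq d.amem fun e : a = 1 => d.anotz (e ▸ one_mem _), pow_one])).isNilpotent
    intro m hm
    obtain ⟨e, he, v, hv, rfl⟩ := hE.2.2.2 m hm
    refine mul_mem ?_ (Subgroup.centralizer_le_normalizer _ (Subgroup.mem_centralizer_iff.2 ?_))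
    · rw [← d.inf_centralizer]
      exact Coprime.le_normalizer_inf (A := E) (Context.le_normalizer_of_compl h hE hAE)
        ((hE.1.trans (le_normalizer_sigmaCore M)).trans
          (Fitting.normalizer_le_normalizer_centralizer _)) he
    · rintro _ ⟨j, rfl⟩
      exact ((show Commute v a from
        Subgroup.mem_centralizer_singleton_iff.1 (d.le_centralizer hv)).zpow_right j).eq.symm

end Cfsg.Agent.Lib.OddTau.NonabelianSylow
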