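import Cfsg.Agent.Lib.OddTau.PlaneLines

/-!
# An invariant cyclic lift of an invariant line, by averaging over a group of coprime order
-/

set_option autoImplicit false
set_option linter.style.haveILetI false
set_option linter.unusedSectionVars false

namespace Cfsg.Agent.Lib.OddTau.Lift

universe u

variable {G : Type u} [Group G] [Finite G] {p : ℕ} [hp : Fact p.Prime]

theorem dvd_pow_sub (a : ℤ) (j : ℕ) : (p : ℤ) ∣ a ^ p ^ j - a := by
  rw [← ZMod.intCast_zmod_eq_zero_iff_dvd]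
  push_cast
  rw [ZMod.pow_card_pow, sub_self]

/-- If a coprime group fixes the line of `w ^ p ^ j` in an abelian group of exponent `p ^ (j + 1)`
then it fixes a cyclic subgroup of that order over the line. -/
theorem exists_invariant_lift {E S : Subgroup G} (hSE : S ≤ E)
    (hES : E ≤ Subgroup.normalizer (S : Set G)) (hidx : ¬ p ∣ S.relIndex E)
    (hab : IsMulCommutative S) {j : ℕ} (hexp : ∀ y ∈ S, y ^ p ^ (j + 1) = 1) {w : G} (hw : w ∈ S)
    (hx1 : w ^ p ^ j ≠ 1)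
    (hinv : ∀ e ∈ E, e * w ^ p ^ j * e⁻¹ ∈ Subgroup.zpowers (w ^ p ^ j)) :
    ∃ u ∈ S, orderOf u = p ^ (j + 1) ∧ E ≤ Subgroup.normalizer (Subgroup.zpowers u : Set G) ∧
      u ^ p ^ j ∈ Subgroup.zpowers (w ^ p ^ j) := by
  classical
  letI : CommGroup S := { (inferInstance : Group S) with mul_comm := mul_comm' }
  let φ : E →* MulAut S := S.normalizerMonoidHom.comp (Subgroup.inclusion hES)
  set Γ := φ.range with hΓ
  haveI : Finite (MulAut S) := Finite.of_injective (fun f : MulAut S => (f : S → S))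
    DFunLike.coe_injective
  letI := Fintype.ofFinite Γ
  have hcop : ¬ p ∣ Nat.card Γ := by
    intro hd
    rw [hΓ, ← Subgroup.index_ker] at hd
    refine hidx (hd.trans (Subgroup.index_dvd_of_le fun y hy => ?_))
    rw [MonoidHom.mem_ker]
    refine MulEquiv.ext fun s => Subtype.ext ?_
    show (y : G) * (s : G) * (y : G)⁻¹ = (s : G)
    have hc : (y : G) * (s : G) = (s : G) * (y : G) :=
      setLike_mul_comm (Subgroup.mem_subgroupOf.1 hy) s.2
    rw [hc, mul_inv_cancel_right]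
  set w' : S := ⟨w, hw⟩ with hw'
  set x := w' ^ p ^ j with hxdef
  have hxp : x ^ p = 1 := Subtype.ext (by
    show (w ^ p ^ j) ^ p = 1
    rw [← pow_mul, ← pow_succ]
    exact hexp w hw)
  have hxo : orderOf x = p := orderOf_eq_prime hxp fun e => hx1 (congrArg Subtype.val e)
  have hx_eq : ∀ {a b : ℤ}, (p : ℤ) ∣ a - b → x ^ a = x ^ b := by
    intro a b h
    rw [← mul_inv_eq_one, ← zpow_sub, ← orderOf_dvd_iff_zpow_eq_one, hxo]
    exact h
  have hγ : ∀ γ : Γ, ∃ m : ℤ, (γ : MulAut S) x = x ^ m := by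
    rintro ⟨_, ⟨e, he⟩, rfl⟩
    obtain ⟨m, hm⟩ := hinv e he
    exact ⟨m, Subtype.ext (by
      show e * w ^ p ^ j * e⁻¹ = ((x ^ m : S) : G)
      rw [SubgroupClass.coe_zpow, ← show (w ^ p ^ j) ^ m = e * w ^ p ^ j * e⁻¹ from hm]
      rfl)⟩
  choose m hm using hγ
  have hmul : ∀ γ δ : Γ, (p : ℤ) ∣ m (γ * δ) - m γ * m δ := by
    intro γ δ
    rw [← hxo, orderOf_dvd_iff_zpow_eq_one, zpow_sub, mul_inv_eq_one, ← hm]
    show (γ : MulAut S) ((δ : MulAut S) x) = _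
    rw [hm δ, map_zpow, hm γ, ← zpow_mul]
  have hone : (p : ℤ) ∣ m 1 - 1 := by
    rw [← hxo, orderOf_dvd_iff_zpow_eq_one, zpow_sub, zpow_one, mul_inv_eq_one, ← hm]
    rfl
  set N : Γ → ℤ := fun γ => m γ ^ p ^ j with hN
  have hNmul : ∀ γ δ : Γ, ((p ^ (j + 1) : ℕ) : ℤ) ∣ N (γ * δ) - N γ * N δ := by
    intro γ δ
    rw [hN]
    simp only
    rw [← mul_pow]
    push_cast
    exact dvd_sub_pow_of_dvd_sub (hmul γ δ) j
  have hS_eq : ∀ (y : S) {a b : ℤ}, ((p ^ (j + 1) : ℕ) : ℤ) ∣ a - b → y ^ a = y ^ b := by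
    intro y a b h
    rw [← mul_inv_eq_one, ← zpow_sub, ← orderOf_dvd_iff_zpow_eq_one]
    exact (Int.natCast_dvd_natCast.2 (orderOf_dvd_of_pow_eq_one
      (Subtype.ext (hexp y y.2)))).trans h
  set ε : S := ∏ γ : Γ, ((γ : MulAut S) w') ^ N γ⁻¹ with hε
  have hinvε : ∀ γ₀ : Γ, (γ₀ : MulAut S) ε = ε ^ N γ₀ := by
    intro γ₀
    rw [hε, map_prod, ← Finset.prod_zpow]
    refine Fintype.prod_equiv (Equiv.mulLeft γ₀) _ _ fun γ => ?_
    rw [map_zpow, ← zpow_mul, Equiv.coe_mulLeft]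
    show ((γ₀ * γ : Γ) : MulAut S) w' ^ N γ⁻¹ = _
    refine hS_eq _ ?_
    have h := hNmul (γ₀ * γ)⁻¹ γ₀
    rwa [show (γ₀ * γ)⁻¹ * γ₀ = γ⁻¹ by group] at h
  have hεpow : ε ^ p ^ j = x ^ Nat.card Γ := by
    rw [hε, ← Finset.prod_pow, Nat.card_eq_fintype_card]
    refine Finset.prod_eq_pow_card fun γ _ => ?_
    rw [← zpow_natCast, ← zpow_mul, mul_comm, zpow_mul, zpow_natCast, ← map_pow, ← hxdef, hm,
      ← zpow_mul]
    refine (hx_eq ?_).trans (zpow_one x)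
    have h1 := hmul γ γ⁻¹
    rw [mul_inv_cancel] at h1
    have h2 := (dvd_pow_sub (p := p) (m γ⁻¹) j).mul_left (m γ)
    have h3 : m γ * N γ⁻¹ - 1 =
        m γ * (m γ⁻¹ ^ p ^ j - m γ⁻¹) - (m 1 - m γ * m γ⁻¹) + (m 1 - 1) := by
      rw [hN]
      ring
    rw [h3]
    exact dvd_add (dvd_sub h2 h1) hone
  refine ⟨ε, ε.2, ?_, fun e he => PlaneLines.mem_normalizer_zpowers ?_, ?_⟩
  · refine orderOf_eq_prime_pow (fun h => hcop ?_) (hexp _ ε.2)
    rw [← hxo, orderOf_dvd_iff_pow_eq_one, ← hεpow]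
    exact Subtype.ext (by simpa using h)
  · refine ⟨N ⟨φ ⟨e, he⟩, ⟨_, rfl⟩⟩, ?_⟩
    have h := congrArg Subtype.val (hinvε ⟨φ ⟨e, he⟩, ⟨_, rfl⟩⟩)
    rw [SubgroupClass.coe_zpow] at h
    exact h.symm
  · refine ⟨Nat.card Γ, ?_⟩
    have h := congrArg Subtype.val hεpow
    show (w ^ p ^ j) ^ (Nat.card Γ : ℤ) = _
    rw [zpow_natCast]
    exact h.symm

end Cfsg.Agent.Lib.OddTau.Lift
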