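import Cfsg.Agent.Lib.OddTau.RegularLocal

/-!
# BG 12.11: a regular normal subgroup of full exponent in the Sylow `p`-subgroup, `p ∈ τ₂(M)`
-/

set_option autoImplicit false
set_option linter.style.haveILetI false
set_option linter.unusedSectionVars false

namespace Cfsg.Agent.Lib.OddTau.RegularPart

open Cfsg.Agent.Lib.OddOrder Cfsg.Agent.Lib.OddOrder.MinSimple Cfsg.Agent.Lib.OddTau.Basic
  Cfsg.Agent.Lib.OddTau.TauTwoAbelian Cfsg.Agent.Lib.OddTau.PlaneLines
  Cfsg.Agent.Lib.OddTau.RegularLocal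

universe u

variable {G : Type u} [Group G] [Finite G] {M A E : Subgroup G} {p : ℕ} [hp : Fact p.Prime]

theorem exists_regular (h : Ctx M p A) (hE : Cfsg.IsComplIn E (Cfsg.sigmaCore M) M) (hAE : A ≤ E)
    (habAll : ∀ (q : ℕ) [Fact q.Prime], q ∈ Cfsg.tau2 M → ∀ T : _root_.Sylow q G,
      IsMulCommutative (T : Subgroup G))
    (h13 : ∀ e ∈ E, e ≠ 1 →
      (∀ q : ℕ, q.Prime → q ∣ orderOf e → q ∈ Cfsg.tau1 M ∪ Cfsg.tau3 M) →
      Cfsg.sigmaCore M ⊓ Subgroup.centralizer ({e} : Set G) = ⊥) :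
    ∃ U : Subgroup G, U ≤ E ∧ IsPGroup p U ∧ E ≤ Subgroup.normalizer (U : Set G) ∧
      (∀ y ∈ U, orderOf y = p → Cfsg.sigmaCore M ⊓ Subgroup.centralizer ({y} : Set G) = ⊥) ∧
      ∃ u ∈ U, ∀ y ∈ E, ∀ n : ℕ, orderOf y = p ^ n → y ^ orderOf u = 1 := by
  have hG := h.min
  obtain ⟨S, hAS⟩ := h.isPGroup.exists_le_sylow
  have hab : IsMulCommutative (S : Subgroup G) := habAll p h.tau S
  obtain ⟨hSE, hES⟩ := sylow_compl h hE hAE hAS hab
  have hES' : ∀ y ∈ E, ∀ n : ℕ, orderOf y = p ^ n → y ∈ (S : Subgroup G) := fun y hy n hn =>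
    eq_of_le_normalizer S (isPGroup_zpowers hn) (Subgroup.zpowers_le.2 (hES hy))
      (Subgroup.mem_zpowers y)
  have hEA := Context.le_normalizer_of_compl h hE hAE
  have hSC := sylow_le_centralizer hAS hab
  have hSA : ∀ y ∈ (S : Subgroup G), y ^ p = 1 → y ∈ A := fun y hy hyp =>
    Sylow.mem_of_centralizes h (hSC hy) hyp
  -- the exponent of `S`
  letI : CommGroup (S : Subgroup G) :=
    { (inferInstance : Group (S : Subgroup G)) with mul_comm := hab.is_comm.comm }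
  obtain ⟨u₀, hu₀⟩ := Monoid.exists_orderOf_eq_exponent
    (G := (S : Subgroup G)) Monoid.ExponentExists.of_finite
  obtain ⟨N, hN⟩ := IsPGroup.iff_card.1 S.2
  obtain ⟨k, -, hk⟩ := (Nat.dvd_prime_pow hp.out).1
    ((orderOf_dvd_natCard u₀).trans (dvd_of_eq hN))
  have hexp : ∀ y ∈ (S : Subgroup G), y ^ p ^ k = 1 := fun y hy => by
    have h1 := Monoid.pow_exponent_eq_one (⟨y, hy⟩ : (S : Subgroup G))
    rw [← hu₀, hk] at h1
    simpa using congrArg Subtype.val h1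
  obtain ⟨a₀, ha₀, ha₀1⟩ := A.bot_or_exists_ne_one.resolve_left h.ne_bot
  rcases k with _ | j
  · exact absurd (by simpa using hexp a₀ (hAS ha₀)) ha₀1
  by_cases hall : ∀ a ∈ A, a ≠ 1 → Cfsg.sigmaCore M ⊓ Subgroup.centralizer ({a} : Set G) = ⊥
  · refine ⟨S, hSE, S.2, hES, fun y hy hyo => hall y ?_ fun e => hp.out.ne_one (by
      rw [← hyo, e, orderOf_one]), u₀, u₀.2, fun y hy n hn => ?_⟩
    · exact hSA y hy (hyo ▸ pow_orderOf_eq_one y)
    · rw [Subgroup.orderOf_coe, hk]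
      exact hexp y (hES' y hy n hn)
  -- a regular invariant line at the top of `S`
  obtain ⟨w, hw, hw1, hwE, hwfix⟩ : ∃ w ∈ (S : Subgroup G), w ^ p ^ j ≠ 1 ∧
      (∀ e ∈ E, e * w ^ p ^ j * e⁻¹ ∈ Subgroup.zpowers (w ^ p ^ j)) ∧
      Cfsg.sigmaCore M ⊓ Subgroup.centralizer ({w ^ p ^ j} : Set G) = ⊥ := by
    have hu1 : (u₀ : G) ^ p ^ j ≠ 1 := fun h1 => by
      have hd := orderOf_dvd_iff_pow_eq_one.2 h1
      rw [Subgroup.orderOf_coe, hk, Nat.pow_dvd_pow_iff_le_right hp.out.one_lt] at hd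
      omega
    have htopA : ∀ v ∈ (S : Subgroup G), v ^ p ^ j ∈ A := fun v hv => hSA _ (pow_mem hv _) (by
      rw [← pow_mul, ← pow_succ]; exact hexp v hv)
    set z := (u₀ : G) ^ p ^ j with hz
    by_cases htop : ∀ v ∈ (S : Subgroup G), v ^ p ^ j ∈ Subgroup.zpowers z
    · have hinv : ∀ g ∈ Subgroup.normalizer (A : Set G), g * z * g⁻¹ ∈ Subgroup.zpowers z := by
        intro g hg
        rw [normalizer_eq h hAS hab] at hg
        rw [hz, ← conj_pow]
        exact htop _ ((Subgroup.mem_normalizer_iff.1 hg _).1 u₀.2)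
      exact ⟨u₀, u₀.2, hu1, fun e he => hinv e (hEA he),
        fixed_eq_bot_of_invariant h (htopA _ u₀.2) hu1 hinv⟩
    push Not at htop
    obtain ⟨v, hv, hvz⟩ := htop
    have hlift : ∀ b ∈ A, ∃ w ∈ (S : Subgroup G), w ^ p ^ j = b := by
      intro b hb
      obtain ⟨s, t, rfl⟩ :=
        NonabelianSylow.exists_eq_zpow_mul h (htopA _ u₀.2) hu1 (htopA v hv) hvz hb
      refine ⟨(u₀ : G) ^ s * v ^ t, mul_mem (zpow_mem u₀.2 s) (zpow_mem hv t), ?_⟩
      rw [(show Commute (u₀ : G) v from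
        setLike_mul_comm (s := (S : Subgroup G)) u₀.2 hv).zpow_zpow s t |>.mul_pow,
        ← zpow_natCast ((u₀ : G) ^ s), ← zpow_natCast (v ^ t), ← zpow_mul, ← zpow_mul,
        mul_comm s, mul_comm t, zpow_mul, zpow_mul, zpow_natCast, zpow_natCast]
    by_cases hsc : ∀ e ∈ E, ∀ b ∈ A, e * b * e⁻¹ ∈ Subgroup.zpowers b
    · obtain ⟨A₁, hA₁, hA₁c, hA₁f⟩ := Context.exists_fixed_point_free h
      obtain ⟨a, ha, ha1⟩ := A₁.bot_or_exists_ne_one.resolve_left fun e' => hp.out.ne_one (by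
        rw [← hA₁c, e', Subgroup.card_bot])
      have hA₁eq : Subgroup.zpowers a = A₁ := Subgroup.eq_of_le_of_card_ge
        (Subgroup.zpowers_le.2 ha) (by rw [Nat.card_zpowers, h.orderOf_eq (hA₁ ha) ha1, hA₁c])
      obtain ⟨w, hw, hwa⟩ := hlift a (hA₁ ha)
      refine ⟨w, hw, hwa ▸ ha1, fun e he => hwa ▸ hsc e he a (hA₁ ha), ?_⟩
      rw [hwa, ← centralizer_zpowers, hA₁eq]
      exact hA₁f
    push Not at hsc
    obtain ⟨e, he, b, hb, hbe⟩ := hsc
    obtain ⟨y, hy, ⟨n, q, hq, hyo⟩, b', hb', hb'y⟩ : ∃ y ∈ E,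
        (∃ n q, q.Prime ∧ orderOf y = q ^ n) ∧ ∃ b ∈ A, y * b * y⁻¹ ∉ Subgroup.zpowers b := by
      by_contra hcon
      push Not at hcon
      refine hbe ((Subgroup.mem_normalizer_iff.1 (OddLocal.DerivedFitting.mem_of_primePow_parts
        (H := Subgroup.normalizer (Subgroup.zpowers b : Set G)) (y := e)
        fun q hq y hy ⟨n, hn⟩ => mem_normalizer_zpowers
          (hcon y (Subgroup.zpowers_le.2 he hy) ⟨n, q, hq, hn⟩ b hb)) b).1
        (Subgroup.mem_zpowers b))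
    haveI := Fact.mk hq
    have hyA := hEA hy
    have hcent : y ∉ Subgroup.centralizer (A : Set G) := fun hc => hb'y (by
      rw [← Subgroup.mem_centralizer_iff.1 hc b' hb', mul_inv_cancel_right]
      exact Subgroup.mem_zpowers b')
    have hqp : q ≠ p := by
      rintro rfl
      exact hcent (hSC (hES' y hy n hyo))
    have hqd : q ∣ orderOf y := by
      rcases n with _ | n
      · rw [pow_zero, orderOf_eq_one_iff] at hyo
        exact absurd (hyo ▸ one_mem _) hcent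
      · exact hyo ▸ dvd_pow_self q n.succ_ne_zero
    have hqE : q ∣ Nat.card E := hqd.trans (E.orderOf_dvd_natCard hy)
    have hqσ := not_sigma_of_dvd hG h.max hE hq hqE
    have hq2 : Cfsg.PRankLE q 2 M := by
      by_contra hn'
      exact hqσ (AlphaCore.alpha_subset_sigma hG h.max ⟨hq, hn'⟩)
    have hq1 : Cfsg.PRankLE q 1 M := by
      by_contra hn'
      have hqτ : q ∈ Cfsg.tau2 M := ⟨hq, hqσ, hq2, hn'⟩
      exact hcent (Subgroup.centralizer_le (SetLike.coe_subset_coe.2 hAS)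
        (commute_tau2 hG h.max hE habAll h hAE hAS hy fun s hs hd => by
          rw [hyo] at hd
          exact (Nat.prime_dvd_prime_iff_eq hs hq).1 (hs.dvd_of_dvd_pow hd) ▸ hqτ))
    have hq13 : q ∈ Cfsg.tau1 M ∪ Cfsg.tau3 M := by
      by_cases hd : q ∣ Nat.card ↥⁅M, M⁆
      · exact Or.inr ⟨hq, hqσ, hd, hq1⟩
      · exact Or.inl ⟨hq, hqσ, hqE.trans (Subgroup.card_dvd_of_le hE.1), hd, hq1⟩
    obtain ⟨a, ha, ha1, hay⟩ := exists_invariant_line h hE hAE hAS hab hqp hqσ hq1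
      (fun f hf hfo => h13 f hf (fun e' => hq.ne_one (by rw [← hfo, e', orderOf_one]))
        fun s hs hd => by
          rw [hfo] at hd
          exact (Nat.prime_dvd_prime_iff_eq hs hq).1 hd ▸ hq13) hy hyo
    have hinv : ∀ g ∈ Subgroup.normalizer (A : Set G), g * a * g⁻¹ ∈ Subgroup.zpowers a :=
      fun g hg => normalizer_line h hAS hab hyA ha ha1 hay ⟨b', hb', hb'y⟩ hg
    obtain ⟨w, hw, hwa⟩ := hlift a ha
    exact ⟨w, hw, hwa ▸ ha1, fun e he => hwa ▸ hinv e (hEA he),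
      hwa ▸ fixed_eq_bot_of_invariant h ha ha1 hinv⟩
  obtain ⟨u, hu, huo, huE, hux⟩ := Lift.exists_invariant_lift hSE hES
    (fun hd => S.not_dvd_index (hd.trans (by
      rw [← Subgroup.relIndex_mul_index hSE]; exact dvd_mul_right _ _))) hab
    hexp hw hw1 hwE
  have hUS : Subgroup.zpowers u ≤ (S : Subgroup G) := Subgroup.zpowers_le.2 hu
  refine ⟨Subgroup.zpowers u, hUS.trans hSE, IsPGroup.to_le S.2 hUS, huE, fun y hy hyo => ?_,
    u, Subgroup.mem_zpowers u, fun y hy n hn => huo ▸ hexp y (hES' y hy n hn)⟩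
  have hy1 : y ≠ 1 := fun e => hp.out.ne_one (by rw [← hyo, e, orderOf_one])
  have hym : y ∈ Subgroup.zpowers (w ^ p ^ j) := by
    refine Subgroup.zpowers_le.2 hux (mem_zpowers_of_cyclic (r := p) inferInstance hy
      (pow_mem (Subgroup.mem_zpowers u) (p ^ j)) (hyo ▸ pow_orderOf_eq_one y) (fun h1 => ?_)
      (by rw [← pow_mul, ← pow_succ, ← huo, pow_orderOf_eq_one]))
    have hd := orderOf_dvd_iff_pow_eq_one.2 h1
    rw [huo, Nat.pow_dvd_pow_iff_le_right hp.out.one_lt] at hd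
    omega
  have hxA : w ^ p ^ j ∈ A := hSA _ (pow_mem hw _) (by
    rw [← pow_mul, ← pow_succ]; exact hexp w hw)
  rw [← centralizer_zpowers, zpowers_eq h hxA hym hy1, centralizer_zpowers]
  exact hwfix

end Cfsg.Agent.Lib.OddTau.RegularPart
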