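import Cfsg.Agent.Lib.OddTau.Unique

/-!
# BG 12.5(c): `M_σ A` is normal in `M`
-/

set_option autoImplicit false
set_option linter.style.haveILetI false
set_option linter.unusedSectionVars false

open scoped Pointwise commutatorElement

namespace Cfsg.Agent.Lib.OddTau.SigmaNormal

open Cfsg.Agent.Lib.OddOrder Cfsg.Agent.Lib.OddOrder.MinSimple Cfsg.Agent.Lib.OddTau.Basic
  Cfsg.Agent.Lib.OddTau.Exceptional Cfsg.Agent.Lib.OddTau.Sylow Cfsg.Agent.Lib.OddTau.Unique

universe u

variable {G : Type u} [Group G] [Finite G] {p : ℕ} [hp : Fact p.Prime] {M A : Subgroup G}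

theorem lt_of_dvd_mul {p r : ℕ} (hp : p.Prime) (hp2 : p ≠ 2) (hr : r.Prime) (hr2 : r ≠ 2)
    (h : p ∣ (r - 1) * (r + 1)) : p < r := by
  have h2 := hr.two_le
  rcases hp.dvd_mul.1 h with h1 | h1
  · have := Nat.le_of_dvd (by omega) h1
    omega
  · obtain ⟨m, hm⟩ := h1
    obtain ⟨a, ha⟩ := hp.odd_of_ne_two hp2
    obtain ⟨b, hb⟩ := hr.odd_of_ne_two hr2
    rcases m with _ | _ | m
    · omega
    · omega
    · have : p * 2 ≤ r + 1 := hm ▸ Nat.mul_le_mul_left p (by omega)
      have := hp.two_le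
      omega

theorem sigmaCore_ne_bot (h : Ctx M p A) : Cfsg.sigmaCore M ≠ ⊥ := by
  obtain ⟨q, hq, hqσ, hqM⟩ := exists_sigma_prime h.min h.max
  obtain ⟨S, -, hSσ, -⟩ := h.exists_sylow hqσ (Q₀ := ⊥) IsPGroup.of_bot bot_le
    (h.le.trans fun x _ => Subgroup.mem_normalizer_fintype fun n hn => by
      rw [Subgroup.mem_bot.1 hn]; simp)
  exact ne_bot_of_le_ne_bot (S.ne_bot_of_dvd_card (hqM.trans M.card_subgroup_dvd_card)) hSσ

/-- A nontrivial `A`-invariant `p`-group centralizing `M_σ` has normalizer in `M`. -/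
theorem normalizer_le_of_centralizes (h : Ctx M p A) {r : ℕ} [Fact r.Prime] {X : Subgroup G}
    (hX : IsPGroup r X) (hX1 : X ≠ ⊥) (hAX : A ≤ Subgroup.normalizer (X : Set G))
    (hXC : X ≤ Subgroup.centralizer (Cfsg.sigmaCore M : Set G)) :
    Subgroup.normalizer (X : Set G) ≤ M := by
  obtain ⟨L, hL, hNL⟩ := exists_coatom_ge h.min (normalizer_ne_top h.min hX1
    (pgroup_ne_top h.min hX))
  refine (eq_of_meet h hL (hAX.trans hNL) ?_) ▸ hNL
  rw [inf_eq_left.2 (((Subgroup.le_centralizer_iff.1 hXC).trans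
    (Transitivity.centralizer_le_normalizer X)).trans hNL)]
  exact sigmaCore_ne_bot h

/-- `A` centralizes the invariant Sylow subgroups of `O_{p'}(M)` for primes outside `σ(M)`. -/
theorem le_centralizer_sylow (h : Ctx M p A) {r : ℕ} [hr : Fact r.Prime]
    (hrσ : r ∉ Cfsg.sigma M) (hrp : r ≠ p) (P : Sylow p M)
    (hAP : A ≤ (P : Subgroup M).map M.subtype) {R : Subgroup G} (hR : IsPGroup r R)
    (hRK : R ≤ NormedConstrained.pO p M) (hAR : A ≤ Subgroup.normalizer (R : Set G))
    (hidx : ¬ r ∣ R.relIndex (NormedConstrained.pO p M)) :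
    A ≤ Subgroup.centralizer (R : Set G) := by
  by_contra hnc
  haveI := h.elem.1
  haveI := solvable_of_ne_top h.min h.max.1
  have hRM : R ≤ M := hRK.trans (NormedConstrained.pO_le M)
  have hR1 : R ≠ ⊥ := fun e => hnc (by
    rw [e]
    exact fun x _ => Subgroup.mem_centralizer_iff.2 fun y hy => by
      rw [SetLike.mem_coe, Subgroup.mem_bot] at hy
      rw [hy, one_mul, mul_one])
  have hrd : r ∣ Nat.card R := by
    haveI : Nontrivial R := (Subgroup.nontrivial_iff_ne_bot _).2 hR1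
    obtain ⟨k, hk, hkc⟩ := hR.nontrivial_iff_card.1 inferInstance
    exact (dvd_pow_self r hk.ne').trans hkc.symm.dvd
  have hrM : r ∣ Nat.card M := hrd.trans (Subgroup.card_dvd_of_le hRM)
  have hr2 : r ≠ 2 := ne_two_of_dvd h.min (hrM.trans M.card_subgroup_dvd_card)
  have hrα : r ∉ Cfsg.alpha M := fun hα => hrσ (AlphaCore.alpha_subset_sigma h.min h.max hα)
  have hr2M : Cfsg.PRankLE r 2 M := by
    by_contra h2
    exact hrα ⟨hr.out, h2⟩
  have hcopA : (Nat.card A).Coprime (Nat.card R) := Fitting.coprime_card hrp.symm h.isPGroup hR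
  -- `[R, A]` centralizes `M_σ`
  set C := R ⊓ Subgroup.centralizer (Cfsg.sigmaCore M : Set G) with hC
  have hMC : M ≤ Subgroup.normalizer (Subgroup.centralizer (Cfsg.sigmaCore M : Set G) : Set G) :=
    (le_normalizer_sigmaCore M).trans (Fitting.normalizer_le_normalizer_centralizer _)
  have hAC : A ≤ Subgroup.normalizer (C : Set G) :=
    Coprime.le_normalizer_inf hAR (h.le.trans hMC)
  obtain ⟨a, ha, ha1, haN, haC⟩ := exists_good h
  obtain ⟨g, hg, hgM, hg2⟩ := exists_moving h
  have hconjA : ∀ g : G, g ∈ Subgroup.normalizer (A : Set G) → g * a * g⁻¹ ∈ A := fun g hg =>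
    (Subgroup.mem_normalizer_iff.1 hg a).1 ha
  have hcen : ∀ g : G, g ∈ Subgroup.normalizer (A : Set G) → g ∉ M →
      ⁅R, Subgroup.zpowers (g * a * g⁻¹)⁆ ≤ C := by
    intro g hg hgM
    have hx : g * a * g⁻¹ ∈ A := hconjA g hg
    have hx1 : g * a * g⁻¹ ≠ 1 := fun e => ha1 (by
      calc a = g⁻¹ * (g * a * g⁻¹) * g := by group
        _ = 1 := by rw [e]; group)
    refine le_inf (Coprime.commutator_le_of_le_normalizer (Subgroup.zpowers_le.2 (hAR hx)))
      (Subgroup.le_centralizer_iff.1 (Coprime.le_of_forall_sylow fun q hq => ?_))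
    haveI := Fact.mk hq
    by_cases hqd : q ∣ Nat.card (Cfsg.sigmaCore M)
    · have hqσ := mem_sigma_of_dvd hq hqd
      obtain ⟨T, hAT⟩ := Coprime.exists_invariant_sylow h.le_normalizer h.coprime
        (Or.inr (isSolvable_sigmaCore h.min h.max)) q
      obtain ⟨S, hTS, hSσ, -⟩ := h.exists_sylow hqσ (T.2.map _)
        ((Subgroup.map_subtype_le _).trans (sigmaCore_le M)) hAT
      refine ⟨T, hTS.trans ?_⟩
      have hSn := le_normalizer_sylow h hSσ
      haveI : Group.IsSolvable ↥(((S : Subgroup G) ⊔ R) ⊔ Subgroup.zpowers (g * a * g⁻¹)) :=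
        Coprime.isSolvable_of_le (sup_le (sup_le (hSσ.trans (sigmaCore_le M)) hRM)
          (Subgroup.zpowers_le.2 (h.le hx)))
      have hqr : r ≠ q := fun e => hrσ (e ▸ hqσ)
      exact Subgroup.le_centralizer_iff.1 (commutator_centralizes_of_fpf (p := p) (r := r) (s := q)
        h.min.1 hrp.symm (h.ne_of_sigma hqσ).symm hqr S.2 hR (h.orderOf_eq hx hx1)
        (hRM.trans hSn) (hSn (h.le hx)) (hAR hx)
        (le_bot_iff.1 ((inf_le_inf_right _ hSσ).trans
          (fixed_eq_bot h hgM (le_conj_of_normalizer h hg) haC).le)))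
    · obtain ⟨T⟩ : Nonempty (Sylow q (Cfsg.sigmaCore M)) := inferInstance
      refine ⟨T, ?_⟩
      obtain ⟨n, hn⟩ := IsPGroup.iff_card.1 T.2
      rcases n with _ | n
      · rw [Subgroup.card_eq_one.1 (hn.trans (pow_zero q)), Subgroup.map_bot]
        exact bot_le
      · exact absurd (((dvd_pow_self q n.succ_ne_zero).trans hn.symm.dvd).trans
          (Subgroup.card_subgroup_dvd_card _)) hqd
  have hRAC : ⁅R, A⁆ ≤ C := by
    set x := g * a * g⁻¹ with hxdef
    set y := g⁻¹ * a * g⁻¹⁻¹ with hydef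
    have hxA : x ∈ A := hconjA g hg
    have hyA : y ∈ A := hconjA g⁻¹ (inv_mem hg)
    have hxy : y ∉ Subgroup.zpowers x := by
      rintro ⟨i, hi⟩
      simp only at hi
      refine hg2 (inv_mem_iff.1 (haN ?_))
      refine Coprime.mem_normalizer_of_conj_smul_eq ?_
      have h1 : MulAut.conj (g ^ 2)⁻¹ a = a ^ i := by
        show (g ^ 2)⁻¹ * a * (g ^ 2)⁻¹⁻¹ = a ^ i
        calc (g ^ 2)⁻¹ * a * (g ^ 2)⁻¹⁻¹ = g⁻¹ * y * g := by rw [hydef]; simp only [sq, mul_inv_rev, inv_inv, mul_assoc]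
          _ = g⁻¹ * x ^ i * g := by rw [hi]
          _ = a ^ i := by rw [hxdef, conj_zpow]; group
      show (Subgroup.zpowers a).map (MulAut.conj (g ^ 2)⁻¹).toMonoidHom = _
      rw [MonoidHom.map_zpowers]
      refine Subgroup.eq_of_le_of_card_ge (Subgroup.zpowers_le.2 ?_) ?_
      · show MulAut.conj (g ^ 2)⁻¹ a ∈ _
        exact h1 ▸ ⟨i, rfl⟩
      · rw [Nat.card_zpowers, Nat.card_zpowers]
        exact (orderOf_injective (MulAut.conj (g ^ 2)⁻¹).toMonoidHom
          (MulAut.conj (g ^ 2)⁻¹).injective a).ge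
    have hsup : Subgroup.zpowers x ⊔ Subgroup.zpowers y = A := by
      have hx1 : x ≠ 1 := fun e => ha1 (by
        calc a = g⁻¹ * (g * a * g⁻¹) * g := by group
          _ = 1 := by rw [← hxdef, e]; group)
      have hsub : Subgroup.zpowers x ⊔ Subgroup.zpowers y ≤ A :=
        sup_le (Subgroup.zpowers_le.2 hxA) (Subgroup.zpowers_le.2 hyA)
      have hlt : Subgroup.zpowers x < Subgroup.zpowers x ⊔ Subgroup.zpowers y :=
        lt_of_le_of_ne le_sup_left fun e =>
          hxy (e ▸ Subgroup.mem_sup_right (Subgroup.mem_zpowers _))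
      have h1 : p < Nat.card ↥(Subgroup.zpowers x ⊔ Subgroup.zpowers y) := by
        rw [← h.orderOf_eq hxA hx1, ← Nat.card_zpowers]
        exact lt_of_le_of_ne (Subgroup.card_le_of_le hlt.le)
          fun e => hlt.ne (Subgroup.eq_of_le_of_card_ge hlt.le e.ge)
      obtain ⟨j, hj, hjc⟩ := (Nat.dvd_prime_pow hp.out).1 (h.card ▸ Subgroup.card_dvd_of_le hsub)
      rw [hjc] at h1
      have : 1 < j := (Nat.pow_lt_pow_iff_right hp.out.one_lt).1 (by rwa [pow_one])
      exact Subgroup.eq_of_le_of_card_ge hsub (by rw [h.card, hjc, show j = 2 by omega])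
    have hgi : g⁻¹ ∉ M := fun hm => hgM (inv_mem_iff.1 hm)
    rw [Subgroup.commutator_le]
    intro v hv b hb
    rw [← hsup] at hb
    have hcn : Subgroup.zpowers y ≤ Subgroup.normalizer (Subgroup.zpowers x : Set G) := fun w hw =>
      Subgroup.centralizer_le_normalizer _ (Subgroup.mem_centralizer_iff.2 fun u hu =>
        h.comm (Subgroup.zpowers_le.2 hxA hu) (Subgroup.zpowers_le.2 hyA hw))
    obtain ⟨b₁, hb₁, b₂, hb₂, rfl⟩ := Set.mem_mul.1
      (by rw [← Subgroup.coe_mul_of_right_le_normalizer_left _ _ hcn]; exact hb :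
        b ∈ (Subgroup.zpowers x : Set G) * (Subgroup.zpowers y : Set G))
    rw [show ⁅v, b₁ * b₂⁆ = ⁅v, b₁⁆ * (b₁ * ⁅v, b₂⁆ * b₁⁻¹) by
      simp only [commutatorElement_def]; group]
    refine mul_mem (hcen g hg hgM (Subgroup.commutator_mem_commutator hv hb₁)) ?_
    exact (Subgroup.mem_normalizer_iff.1 (hAC (Subgroup.zpowers_le.2 hxA hb₁)) _).1
      (hcen g⁻¹ (inv_mem hg) hgi (Subgroup.commutator_mem_commutator hv hb₂))
  set R₃ := ⁅R, A⁆ with hR₃
  have hR₃R : R₃ ≤ R := Coprime.commutator_le_of_le_normalizer hAR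
  have hR₃1 : R₃ ≠ ⊥ := fun e => hnc
    (Subgroup.le_centralizer_iff.1 (Subgroup.commutator_eq_bot_iff_le_centralizer.1 e))
  have hR₃C : R₃ ≤ Subgroup.centralizer (Cfsg.sigmaCore M : Set G) := hRAC.trans inf_le_right
  have hrA : ¬ r ∣ Nat.card A := h.not_dvd hr.out hrp
  by_cases hrC : r ∣ Nat.card (Subgroup.centralizer (A : Set G))
  · -- `A` centralizes a maximal invariant `r`-subgroup
    obtain ⟨Rs, hRs, hRRs⟩ := Transitivity.exists_max_ge (H := (⊤ : Subgroup G)) (B := A)
      (π := {r}) (Transitivity.mem_inv.2 ⟨le_top, hR, hAR⟩)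
    obtain ⟨T, hAT, hTd⟩ := RankTwoCentralizer.exists_sylow_le_derived h.min
      (fun H hH => PLengthOne.of_ne_top h.min p H hH) h.elem h.card h.transitivity hrp hRs hrC
    have hRsp := Transitivity.isPGroup_of_inv hRs.1.2.1
    have hRs1 : Rs ≠ ⊥ := ne_bot_of_le_ne_bot hR1 hRRs
    have hR₃p : IsPGroup r R₃ := hR.to_le hR₃R
    set E := Subgroup.closure {x : G | x ∈ R₃ ∧ x ∈ Subgroup.centralizer (R₃ : Set G) ∧ x ^ r = 1}
      with hE
    have hEle : E ≤ R₃ := (Subgroup.closure_le _).2 fun x hx => hx.1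
    have hEe : Cfsg.IsElementaryAbelian r E := PGroups.elemAb_closure
      (fun x hx y hy => Subgroup.mem_centralizer_iff.1 hy.2.1 x hx.1) fun x hx => hx.2.2
    have hE1 : E ≠ ⊥ := by
      haveI : Nontrivial R₃ := (Subgroup.nontrivial_iff_ne_bot _).2 hR₃1
      haveI := hR₃p.center_nontrivial
      obtain ⟨n, hn, hnc'⟩ :=
        (hR₃p.to_subgroup (Subgroup.center R₃)).nontrivial_iff_card.1 inferInstance
      obtain ⟨⟨⟨z, hz⟩, hzc⟩, hzo⟩ := exists_prime_orderOf_dvd_card' (G := Subgroup.center R₃) r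
        ((dvd_pow_self r hn.ne').trans hnc'.symm.dvd)
      rw [← Subgroup.orderOf_coe, ← Subgroup.orderOf_coe] at hzo
      intro e
      have hmem : z ∈ E := Subgroup.subset_closure ⟨hz, Subgroup.mem_centralizer_iff.2 fun x hx =>
        congrArg Subtype.val (Subgroup.mem_center_iff.1 hzc ⟨x, hx⟩), hzo ▸ pow_orderOf_eq_one z⟩
      rw [e, Subgroup.mem_bot] at hmem
      exact hr.out.ne_one (by rw [← hzo]; exact orderOf_eq_one_iff.2 hmem)
    have hAE : A ≤ Subgroup.normalizer (E : Set G) := fun b hb =>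
      Subgroup.mem_normalizer_fintype fun x hx => by
        have hAR₃ := Coprime.right_le_normalizer_commutator R A hb
        have hle : E ≤ E.comap (MulAut.conj b).toMonoidHom := by
          conv_lhs => rw [hE]
          rw [Subgroup.closure_le]
          rintro y ⟨hy1, hy2, hy3⟩
          refine Subgroup.subset_closure ⟨(Subgroup.mem_normalizer_iff.1 hAR₃ y).1 hy1,
            (Subgroup.mem_normalizer_iff.1
              (Fitting.normalizer_le_normalizer_centralizer _ hAR₃) y).1 hy2, ?_⟩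
          rw [← map_pow, hy3, map_one]
        exact hle hx
    have hNE := normalizer_le_of_centralizes h (hR₃p.to_le hEle) hE1 hAE (hEle.trans hR₃C)
    have hnar : Cfsg.IsNarrow r Rs := by
      have hEs : E ≤ Rs := hEle.trans (hR₃R.trans hRRs)
      refine OddLocal.NarrowRank.isNarrow_of_centralizer hr2 hRsp (E := E.subgroupOf Rs)
        (PGroups.elemAb_subgroupOf hEe Rs) ?_
      have hmem : ∀ x : Subgroup.centralizer (E.subgroupOf Rs : Set Rs), ((x : Rs) : G) ∈ M :=
        fun x => hNE (Transitivity.centralizer_le_normalizer E (Subgroup.mem_centralizer_iff.2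
          fun y hy => congrArg Subtype.val (Subgroup.mem_centralizer_iff.1 x.2 ⟨y, hEs hy⟩ hy)))
      let f : Subgroup.centralizer (E.subgroupOf Rs : Set Rs) →* M :=
        { toFun := fun x => ⟨((x : Rs) : G), hmem x⟩
          map_one' := rfl
          map_mul' := fun _ _ => rfl }
      exact OddLocal.NarrowStructure.prankLE_of_injective f
        (fun x y hxy => Subtype.ext (Subtype.ext (congrArg (fun z : M => (z : G)) hxy))) hr2M
    refine hnc ?_
    intro b hb
    haveI := solvable_of_ne_top h.min (normalizer_ne_top h.min hRs1 (pgroup_ne_top h.min hRsp))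
    have hbR := OddLocal.NarrowAut.derived_centralizes hr2 hRsp hnar le_rfl
      (odd_card h.min _) (hTd (hAT hb))
      (((Nat.coprime_primes hp.out hr.out).2 hrp.symm).coprime_dvd_left
        (orderOf_dvd_of_pow_eq_one (h.elem.2 b hb)))
    exact Subgroup.centralizer_le (SetLike.coe_subset_coe.2 hRRs) hbR
  -- otherwise `R` is a Sylow subgroup of `M` centralizing `M_σ`
  have hCR : R ⊓ Subgroup.centralizer (A : Set G) = ⊥ := by
    by_contra hne
    haveI : Nontrivial ↥(R ⊓ Subgroup.centralizer (A : Set G)) :=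
      (Subgroup.nontrivial_iff_ne_bot _).2 hne
    obtain ⟨k, hk, hkc⟩ :=
      (hR.to_le (inf_le_left : R ⊓ Subgroup.centralizer (A : Set G) ≤ R)).nontrivial_iff_card.1
        inferInstance
    exact hrC (((dvd_pow_self r hk.ne').trans hkc.symm.dvd).trans
      (Subgroup.card_dvd_of_le inf_le_right))
  have hRR₃ : R = R₃ := by
    have h1 := Coprime.commutator_sup_centralizer hAR hcopA (Or.inr (Coprime.isSolvable_of_isPGroup hR))
    rw [hCR, sup_bot_eq] at h1
    exact h1.symm
  -- some element of `A` moves `R`: `p < r`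
  obtain ⟨b, hb, hbR⟩ := SetLike.not_le_iff_exists.1 hnc
  have hb1 : b ≠ 1 := fun e => hbR (e ▸ one_mem _)
  have hbo := h.orderOf_eq hb hb1
  have hplt : p < r := lt_of_dvd_mul hp.out h.ne_two hr.out hr2 (hbo ▸
    OddLocal.NarrowAut.prime_dvd_of_not_centralizes hr2 hR (Or.inl (Rank.prankLE_mono hRM hr2M))
      (hAR hb) (hbo.symm ▸ hp.out) (hbo.symm ▸ hrp.symm) hbR)
  set P₀ := (P : Subgroup M).map M.subtype with hP₀
  set N := M ⊓ Subgroup.normalizer (P₀ : Set G) with hN
  have hNr : ¬ r ∣ Nat.card N := by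
    intro hd
    obtain ⟨⟨t, ht⟩, hto'⟩ := exists_prime_orderOf_dvd_card' r hd
    have hto : orderOf t = r := by rw [← hto', ← Subgroup.orderOf_coe]
    by_cases htC : t ∈ Subgroup.centralizer (A : Set G)
    · exact hrC (hto ▸ Subgroup.orderOf_dvd_natCard _ htC)
    · have hlt : r < p := lt_of_dvd_mul hr.out hr2 hp.out h.ne_two (hto ▸
        OddLocal.NarrowAut.prime_dvd_of_not_centralizes h.ne_two h.isPGroup
          (Or.inl (Rank.prankLE_mono h.le h.tau.2.2.1))
          (normalizer_le_normalizer h P hAP ht.2) (hto.symm ▸ hr.out) (hto.symm ▸ hrp) htC)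
      omega
  have hPidx : ¬ p ∣ P₀.relIndex M := by
    rw [hP₀, OddOrder.Basic.relIndex_map_subtype]
    exact P.not_dvd_index
  have hfac := RankTwoKey.sup_normalizer_of_pLength_one (X := M)
    (PLengthOne.of_ne_top h.min p M h.max.1) (Subgroup.map_subtype_le _) (P.2.map _) hPidx
  have hKall : ∀ {X : Subgroup G}, IsPGroup r X → X ≤ M → X ≤ NormedConstrained.pO p M := by
    intro X hX hXM x hx
    set K := Cfsg.pPrimeCore p M with hK
    set π := QuotientGroup.mk' K with hπ
    have h1 : ((NormedConstrained.pO p M).subgroupOf M ⊔ N.subgroupOf M) = ⊤ := by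
      rw [← Subgroup.subgroupOf_sup (NormedConstrained.pO_le M) inf_le_left, hfac,
        Subgroup.subgroupOf_self]
    have h2 : (N.subgroupOf M).map π = ⊤ := by
      have h3 := congrArg (Subgroup.map π) h1
      rw [Subgroup.map_sup, Subgroup.map_top_of_surjective π (QuotientGroup.mk'_surjective K)] at h3
      rwa [show ((NormedConstrained.pO p M).subgroupOf M).map π = ⊥ by
        rw [Subgroup.map_eq_bot_iff, hπ, QuotientGroup.ker_mk']
        rintro y ⟨z, hz, hzy⟩
        exact (Subtype.ext hzy : z = y) ▸ hz, bot_sup_eq] at h3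
    obtain ⟨k, hk⟩ := hX ⟨x, hx⟩
    have h4 : π ⟨x, hXM hx⟩ = 1 := by
      rw [← orderOf_eq_one_iff]
      refine Nat.eq_one_of_dvd_coprimes (((Nat.Prime.coprime_iff_not_dvd hr.out).2 hNr).pow_left k)
        ((orderOf_map_dvd π _).trans (orderOf_dvd_of_pow_eq_one
          (Subtype.ext (by simpa using congrArg Subtype.val hk)))) ?_
      refine ((Subgroup.orderOf_dvd_natCard (⊤ : Subgroup (M ⧸ K))
        (Subgroup.mem_top (π ⟨x, hXM hx⟩))).trans ?_)
      rw [← h2]
      exact (Subgroup.card_map_dvd _ _).trans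
        (NormedConstrained.card_subgroupOf_eq (inf_le_left : N ≤ M)).dvd
    exact ⟨⟨x, hXM hx⟩, (QuotientGroup.eq_one_iff _).1 h4, rfl⟩
  obtain ⟨T, hT⟩ := (hR.comap_subtype (K := M)).exists_le_sylow
  set T₀ := (T : Subgroup M).map M.subtype with hT₀
  have hRT : R ≤ T₀ := fun x hx =>
    ⟨⟨x, hRM hx⟩, hT (show (⟨x, hRM hx⟩ : M) ∈ R.comap M.subtype from hx), rfl⟩
  have hT₀K := hKall (T.2.map _) (Subgroup.map_subtype_le _)
  have hTR : T₀ = R := by
    refine le_antisymm (Subgroup.relIndex_eq_one.1 ?_) hRT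
    by_contra hne
    obtain ⟨k, hk⟩ := IsPGroup.iff_card.1 (T.2.map M.subtype)
    have hd : R.relIndex T₀ ∣ r ^ k :=
      hk ▸ Dvd.intro_left _ (Subgroup.card_mul_index (R.subgroupOf T₀) ▸ rfl :
        Nat.card (R.subgroupOf T₀) * R.relIndex T₀ = Nat.card T₀)
    obtain ⟨j, -, hj⟩ := (Nat.dvd_prime_pow hr.out).1 hd
    refine hidx (dvd_trans ?_ ((Subgroup.relIndex_mul_relIndex R T₀ _ hRT hT₀K) ▸ dvd_mul_right _ _))
    rw [hj]
    exact dvd_pow_self r fun e => hne (by rw [hj, e, pow_zero])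
  refine hrσ ⟨hr.out, hrM, T, ?_⟩
  rw [← hT₀, hTR]
  exact normalizer_le_of_centralizes h hR hR1 hAR (hRR₃ ▸ hR₃C)

/-- BG 12.5(c). -/
theorem le_normalizer_sup (h : Ctx M p A) :
    M ≤ Subgroup.normalizer ((Cfsg.sigmaCore M ⊔ A : Subgroup G) : Set G) := by
  obtain ⟨P, hAP⟩ := exists_sylow_p h
  haveI := solvable_of_ne_top h.min h.max.1
  set P₀ := (P : Subgroup M).map M.subtype with hP₀
  set J := Cfsg.sigmaCore M ⊔ A with hJ
  have hN : M ⊓ Subgroup.normalizer (P₀ : Set G) ≤ Subgroup.normalizer (J : Set G) := fun x hx =>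
    Subgroup.normalizer_inf_normalizer_le_normalizer_sup _ _
      ⟨le_normalizer_sigmaCore M hx.1, normalizer_le_normalizer h P hAP hx.2⟩
  have hPidx : ¬ p ∣ P₀.relIndex M := by
    rw [hP₀, OddOrder.Basic.relIndex_map_subtype]
    exact P.not_dvd_index
  refine (RankTwoKey.sup_normalizer_of_pLength_one (X := M)
    (PLengthOne.of_ne_top h.min p M h.max.1) (Subgroup.map_subtype_le _) (P.2.map _) hPidx).ge.trans
    (sup_le ?_ hN)
  set K := NormedConstrained.pO p M with hK
  have hKM : K ≤ M := NormedConstrained.pO_le M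
  have hAK : A ≤ Subgroup.normalizer (K : Set G) :=
    h.le.trans (OddOrder.Basic.le_normalizer_map_subtype M _)
  have hcop : (Nat.card A).Coprime (Nat.card K) := by
    rw [h.card]
    exact (NormedConstrained.pO_coprime M).symm.pow_left 2
  have hKs : Group.IsSolvable K := Coprime.isSolvable_of_le hKM
  refine Coprime.le_of_forall_sylow fun r hr => ?_
  haveI := Fact.mk hr
  obtain ⟨R, hAR⟩ := Coprime.exists_invariant_sylow hAK hcop (Or.inr hKs) r
  refine ⟨R, ?_⟩
  set R₀ := (R : Subgroup K).map K.subtype with hR₀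
  have hR₀K : R₀ ≤ K := Subgroup.map_subtype_le _
  have hR₀M : R₀ ≤ M := hR₀K.trans hKM
  by_cases hR1 : R₀ = ⊥
  · exact hR1 ▸ bot_le
  by_cases hrσ : r ∈ Cfsg.sigma M
  · exact (pgroup_le_sigmaCore h.min h.max hrσ (R.2.map _) hR₀M).trans
      (le_sup_left.trans Subgroup.le_normalizer)
  have hrd : r ∣ Nat.card K := by
    haveI : Nontrivial R₀ := (Subgroup.nontrivial_iff_ne_bot _).2 hR1
    obtain ⟨k, hk, hkc⟩ := (R.2.map K.subtype).nontrivial_iff_card.1 inferInstance
    exact ((dvd_pow_self r hk.ne').trans hkc.symm.dvd).trans (Subgroup.card_dvd_of_le hR₀K)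
  have hrp : r ≠ p := by
    rintro rfl
    exact hr.ne_one (Nat.eq_one_of_dvd_coprimes (NormedConstrained.pO_coprime M) hrd dvd_rfl)
  have hc := le_centralizer_sylow h hrσ hrp P hAP (R.2.map _) hR₀K hAR (by
    rw [OddOrder.Basic.relIndex_map_subtype]
    exact R.not_dvd_index)
  intro x hx
  exact Subgroup.normalizer_inf_normalizer_le_normalizer_sup _ _
    ⟨le_normalizer_sigmaCore M (hR₀M hx),
      Transitivity.centralizer_le_normalizer A (Subgroup.le_centralizer_iff.1 hc hx)⟩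

end Cfsg.Agent.Lib.OddTau.SigmaNormal
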