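import Cfsg.Agent.Lib.OddTau.Exceptional

/-!
# BG 11.5: the Sylow `p`-subgroups of `M`
-/

set_option autoImplicit false
set_option linter.style.haveILetI false
set_option linter.unusedSectionVars false

open scoped Pointwise commutatorElement

namespace Cfsg.Agent.Lib.OddTau.Sylow

open Cfsg.Agent.Lib.OddOrder Cfsg.Agent.Lib.OddOrder.MinSimple Cfsg.Agent.Lib.OddTau.Basic
  Cfsg.Agent.Lib.OddTau.Exceptional

universe u

variable {G : Type u} [Group G] [Finite G] {p : ℕ} [hp : Fact p.Prime]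

/-- Powers of an element of prime order with exponent prime to `p` reach every power. -/
theorem exists_pow_eq {u : G} (hu : u ^ p = 1) {i : ℤ} (hi : (i : ZMod p) ≠ 0) (n : ℤ) :
    ∃ k : ℕ, (u ^ i) ^ k = u ^ n := by
  refine ⟨((n : ZMod p) * (i : ZMod p)⁻¹).val, ?_⟩
  rw [← zpow_natCast, ← zpow_mul, ← mul_inv_eq_one, ← zpow_neg, ← zpow_add, ← sub_eq_add_neg]
  have hd : (p : ℤ) ∣ i * (((n : ZMod p) * (i : ZMod p)⁻¹).val : ℤ) - n := by
    rw [← ZMod.intCast_zmod_eq_zero_iff_dvd]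
    push_cast
    rw [ZMod.natCast_zmod_val, mul_comm (n : ZMod p), ← mul_assoc, mul_inv_cancel₀ hi, one_mul,
      sub_self]
  obtain ⟨c, hc⟩ := hd
  rw [hc, zpow_mul, zpow_natCast, hu, one_zpow]

/-- A `p`-element normalizing a group of type `(p, p)` and fixing `z` in it acts as a transvection
along `z`. -/
theorem exists_step {W : Subgroup G} (hW : Cfsg.IsElementaryAbelian p W)
    (hWc : Nat.card W = p ^ 2) {z : G} (hz : z ∈ W) (hz1 : z ≠ 1) {y : G} {k : ℕ}
    (hy : y ^ p ^ k = 1) (hyW : y ∈ Subgroup.normalizer (W : Set G)) (hyz : Commute y z)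
    {w : G} (hw : w ∈ W) : ∃ i : ℤ, y * w * y⁻¹ = z ^ i * w := by
  by_cases hwz : w ∈ Subgroup.zpowers z
  · obtain ⟨j, rfl⟩ := hwz
    exact ⟨0, by rw [(hyz.zpow_right j).eq, mul_inv_cancel_right, zpow_zero, one_mul]⟩
  have hzo : orderOf z = p := orderOf_eq_prime (hW.2 z hz) hz1
  have hw1 : w ≠ 1 := fun e => hwz (e ▸ one_mem _)
  have hwo : orderOf w = p := orderOf_eq_prime (hW.2 w hw) hw1
  have hdis : Subgroup.zpowers z ⊓ Subgroup.zpowers w = ⊥ := by
    rw [eq_bot_iff]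
    intro x hx
    rw [Subgroup.mem_bot]
    by_contra hx1
    refine hwz ?_
    have h1 : Subgroup.zpowers x = Subgroup.zpowers w := by
      refine Subgroup.eq_of_le_of_card_ge (Subgroup.zpowers_le.2 hx.2) ?_
      rw [Nat.card_zpowers, Nat.card_zpowers, hwo,
        orderOf_eq_prime (hW.2 x (Subgroup.zpowers_le.2 hw hx.2)) hx1]
    exact Subgroup.zpowers_le.2 hx.1 (h1 ▸ Subgroup.mem_zpowers w)
  have hcn : Subgroup.zpowers w ≤ Subgroup.normalizer (Subgroup.zpowers z : Set G) := fun x hx =>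
    Subgroup.centralizer_le_normalizer _ (Subgroup.mem_centralizer_iff.2 fun v hv =>
      PGroups.elemAb_comm hW (Subgroup.zpowers_le.2 hz hv) (Subgroup.zpowers_le.2 hw hx))
  have hsup : Subgroup.zpowers z ⊔ Subgroup.zpowers w = W := by
    refine Subgroup.eq_of_le_of_card_ge (sup_le (Subgroup.zpowers_le.2 hz)
      (Subgroup.zpowers_le.2 hw)) ?_
    rw [sup_comm, Coprime.card_sup_of_disjoint hcn (disjoint_iff.2 (inf_comm (Subgroup.zpowers z) _ ▸ hdis)),
      Nat.card_zpowers, Nat.card_zpowers, hzo, hwo, hWc, sq]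
  have hm : y * w * y⁻¹ ∈ W := (Subgroup.mem_normalizer_iff.1 hyW w).1 hw
  rw [← hsup] at hm
  obtain ⟨_, ⟨i, rfl⟩, _, ⟨j, rfl⟩, he⟩ := Set.mem_mul.1
    (by rw [← Subgroup.coe_mul_of_right_le_normalizer_left _ _ hcn]; exact hm :
      y * w * y⁻¹ ∈ (Subgroup.zpowers z : Set G) * (Subgroup.zpowers w : Set G))
  simp only at he
  -- iterating gives `j ^ (p ^ k) = 1`
  have hiter : ∀ n : ℕ, ∃ a : ℤ, y ^ n * w * (y ^ n)⁻¹ = z ^ a * w ^ (j ^ n) := by
    intro n
    induction n with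
    | zero => exact ⟨0, by simp⟩
    | succ n ih =>
      obtain ⟨a, ha⟩ := ih
      refine ⟨a + i * j ^ n, ?_⟩
      have h1 : y * z ^ a * y⁻¹ = z ^ a := by rw [(hyz.zpow_right a).eq, mul_inv_cancel_right]
      have h2 : y * w ^ (j ^ n) * y⁻¹ = z ^ (i * j ^ n) * w ^ (j ^ (n + 1)) := by
        rw [← conj_zpow, ← he,
          ((show Commute z w from PGroups.elemAb_comm hW hz hw).zpow_zpow i j).mul_zpow, ← zpow_mul,
          ← zpow_mul, pow_succ']
      calc y ^ (n + 1) * w * (y ^ (n + 1))⁻¹ = y * (y ^ n * w * (y ^ n)⁻¹) * y⁻¹ := by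
            rw [pow_succ']; group
        _ = (y * z ^ a * y⁻¹) * (y * w ^ (j ^ n) * y⁻¹) := by rw [ha]; group
        _ = _ := by rw [h1, h2, ← mul_assoc, ← zpow_add]
  obtain ⟨a, ha⟩ := hiter (p ^ k)
  rw [hy, one_mul, inv_one, mul_one] at ha
  have hmem : w ^ (j ^ p ^ k - 1) ∈ Subgroup.zpowers z ⊓ Subgroup.zpowers w := by
    refine ⟨⟨-a, ?_⟩, ⟨_, rfl⟩⟩
    show z ^ (-a) = w ^ (j ^ p ^ k - 1)
    rw [zpow_sub, zpow_one, zpow_neg, eq_mul_inv_iff_mul_eq, inv_mul_eq_iff_eq_mul]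
    exact ha
  rw [hdis, Subgroup.mem_bot, ← orderOf_dvd_iff_zpow_eq_one, hwo] at hmem
  rw [← ZMod.intCast_zmod_eq_zero_iff_dvd] at hmem
  push_cast at hmem
  rw [ZMod.pow_card_pow, sub_eq_zero] at hmem
  have hj : (p : ℤ) ∣ j - 1 := by
    rw [← ZMod.intCast_zmod_eq_zero_iff_dvd]
    push_cast
    rw [hmem, sub_self]
  rw [← hwo, orderOf_dvd_iff_zpow_eq_one, zpow_sub_one, mul_inv_eq_one] at hj
  exact ⟨i, by rw [← he, hj]⟩

variable {M A : Subgroup G}

/-- Elements of order `p` of `M` centralizing `A` lie in `A`. -/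
theorem mem_of_centralizes (h : Ctx M p A) {x : G} (hx : x ∈ Subgroup.centralizer (A : Set G))
    (hxp : x ^ p = 1) : x ∈ A := by
  rw [← RankTwoPrime.eq_of_elemAb_ge h.min h.max h.tau.2.2.1 h.le h.elem h.card
    (SCN.elemAb_sup h.elem (PGroups.elemAb_zpowers hxp)
      (Subgroup.le_centralizer_iff.1 (Subgroup.zpowers_le.2 hx))) le_sup_left]
  exact Subgroup.mem_sup_right (Subgroup.mem_zpowers x)

/-- `A` is central in the Sylow `p`-subgroups of `M` containing it. -/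
theorem le_centralizer (h : Ctx M p A) (P : Sylow p M)
    (hAP : A ≤ (P : Subgroup M).map M.subtype) :
    A ≤ Subgroup.centralizer (((P : Subgroup M).map M.subtype : Subgroup G) : Set G) := by
  set P₀ := (P : Subgroup M).map M.subtype with hP₀
  by_contra hnc
  have hP₀p : IsPGroup p P₀ := P.2.map _
  have hP₀M : P₀ ≤ M := Subgroup.map_subtype_le _
  have hp2 := h.ne_two
  -- a central element of order `p`
  have hne : P₀ ≠ ⊥ := fun e => h.ne_bot (le_bot_iff.1 (e ▸ hAP))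
  haveI : Nontrivial P₀ := (Subgroup.nontrivial_iff_ne_bot _).2 hne
  haveI := hP₀p.center_nontrivial
  obtain ⟨n, hn, hnc'⟩ := (hP₀p.to_subgroup (Subgroup.center P₀)).nontrivial_iff_card.1 inferInstance
  obtain ⟨⟨⟨z, hzP⟩, hzc⟩, hzo'⟩ := exists_prime_orderOf_dvd_card' (G := Subgroup.center P₀) p
    ((dvd_pow_self p hn.ne').trans hnc'.symm.dvd)
  have hzo : orderOf z = p := by
    rw [← hzo', ← Subgroup.orderOf_coe, ← Subgroup.orderOf_coe]
  have hz1 : z ≠ 1 := fun e => hp.out.ne_one (by rw [← hzo, e, orderOf_one])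
  have hzC : z ∈ Subgroup.centralizer (P₀ : Set G) := Subgroup.mem_centralizer_iff.2 fun x hx =>
    congrArg Subtype.val (Subgroup.mem_center_iff.1 hzc ⟨x, hx⟩)
  have hzp : z ^ p = 1 := hzo ▸ pow_orderOf_eq_one z
  have hzA : z ∈ A :=
    mem_of_centralizes h (Subgroup.centralizer_le (SetLike.coe_subset_coe.2 hAP) hzC) hzp
  -- the central part of `A` is `⟨z⟩`
  have hAz : A ⊓ Subgroup.centralizer (P₀ : Set G) = Subgroup.zpowers z := by
    refine le_antisymm (fun x hx => ?_) (Subgroup.zpowers_le.2 ⟨hzA, hzC⟩)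
    by_contra hxz
    refine hnc ?_
    have hlt : Subgroup.zpowers z < A ⊓ Subgroup.centralizer (P₀ : Set G) :=
      lt_of_le_not_ge (Subgroup.zpowers_le.2 ⟨hzA, hzC⟩) fun hle => hxz (hle hx)
    have h1 : Nat.card (Subgroup.zpowers z) < Nat.card ↥(A ⊓ Subgroup.centralizer (P₀ : Set G)) :=
      lt_of_le_of_ne (Subgroup.card_le_of_le hlt.le)
        fun e => hlt.ne (Subgroup.eq_of_le_of_card_ge hlt.le e.ge)
    rw [Nat.card_zpowers, hzo] at h1
    obtain ⟨j, hj, hjc⟩ := (Nat.dvd_prime_pow hp.out).1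
      (h.card ▸ Subgroup.card_dvd_of_le (inf_le_left : A ⊓ Subgroup.centralizer (P₀ : Set G) ≤ A))
    rw [hjc] at h1
    have hj2 : j = 2 := by
      have : 1 < j := (Nat.pow_lt_pow_iff_right hp.out.one_lt).1 (by rwa [pow_one])
      omega
    exact inf_eq_left.1 (Subgroup.eq_of_le_of_card_ge inf_le_left (by rw [h.card, hjc, hj2]))
  obtain ⟨g, hg, hgM⟩ := SetLike.not_le_iff_exists.1 (normalizer_not_le h P)
  obtain ⟨a, ha, ha1, haN, haC⟩ := exists_good h
  set A' := A.map (MulAut.conj g).toMonoidHom with hA'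
  have hA'P : A' ≤ P₀ := by
    rintro _ ⟨x, hx, rfl⟩
    exact (Subgroup.mem_normalizer_iff.1 hg x).1 (hAP hx)
  have h' : Ctx M p A' := ctx_conj h (hA'P.trans hP₀M)
  have hgC : ∀ x, x ∈ Subgroup.centralizer (P₀ : Set G) ↔
      g * x * g⁻¹ ∈ Subgroup.centralizer (P₀ : Set G) := fun x =>
    Subgroup.mem_normalizer_iff.1 (Fitting.normalizer_le_normalizer_centralizer P₀ hg) x
  have hzA' : z ∈ A' :=
    mem_of_centralizes h' (Subgroup.centralizer_le (SetLike.coe_subset_coe.2 hA'P) hzC) hzp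
  -- `g` normalizes `⟨z⟩`
  have hgz : g⁻¹ * z * g ∈ Subgroup.zpowers z := by
    rw [← hAz]
    refine ⟨mem_conj.1 hzA', (hgC _).2 ?_⟩
    rwa [show g * (g⁻¹ * z * g) * g⁻¹ = z by group]
  have hgz1 : g⁻¹ * z * g ≠ 1 := fun e => hz1 (by
    calc z = g * (g⁻¹ * z * g) * g⁻¹ := by group
      _ = 1 := by rw [e]; group)
  set x₀ := g * a * g⁻¹ with hx₀
  have hx₀A : x₀ ∈ A' := ⟨a, ha, rfl⟩
  have hA : A ≤ M.map (MulAut.conj g).toMonoidHom := fun x hx => mem_conj.2
    (hP₀M ((Subgroup.mem_normalizer_iff''.1 hg x).1 (hAP hx)))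
  have hfix : Cfsg.sigmaCore M ⊓ Subgroup.centralizer ({x₀} : Set G) = ⊥ :=
    fixed_eq_bot h hgM hA haC
  have hx₀z : x₀ ∉ Subgroup.zpowers z := by
    rintro ⟨i, hi⟩
    simp only at hi
    have haz : a ∈ Subgroup.zpowers z := by
      have : a = (g⁻¹ * z * g) ^ i := by
        rw [show g⁻¹ * z * g = g⁻¹ * z * g⁻¹⁻¹ by rw [inv_inv], conj_zpow, hi, hx₀]; group
      exact this ▸ zpow_mem hgz i
    have heq : Subgroup.zpowers a = Subgroup.zpowers z :=
      Subgroup.eq_of_le_of_card_ge (Subgroup.zpowers_le.2 haz) (by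
        rw [Nat.card_zpowers, Nat.card_zpowers, hzo, h.orderOf_eq ha ha1])
    refine hgM (haN ?_)
    rw [heq]
    have hmap : (Subgroup.zpowers z).map (MulAut.conj g⁻¹).toMonoidHom = Subgroup.zpowers z := by
      rw [MonoidHom.map_zpowers]
      refine Subgroup.eq_of_le_of_card_ge (Subgroup.zpowers_le.2 ?_) ?_
      · show g⁻¹ * z * g⁻¹⁻¹ ∈ _
        rwa [inv_inv]
      · rw [Nat.card_zpowers, Nat.card_zpowers]
        exact (orderOf_injective (MulAut.conj g⁻¹).toMonoidHom (MulAut.conj g⁻¹).injective z).ge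
    exact inv_mem_iff.1 (Coprime.mem_normalizer_of_conj_smul_eq hmap)
  -- an element moving `x₀`
  set C' := P₀ ⊓ Subgroup.centralizer (A' : Set G) with hC'
  have hA'C : A' ≤ C' := le_inf hA'P (Subgroup.le_centralizer_iff_isMulCommutative.2 h'.elem.1)
  have hC'lt : C' < P₀ := lt_of_le_of_ne inf_le_left fun e => hnc fun x hx => by
    have h1 : P₀ ≤ Subgroup.centralizer (A' : Set G) := e ▸ inf_le_right
    exact (hgC x).2 (Subgroup.le_centralizer_iff.1 h1 ⟨x, hx, rfl⟩)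
  obtain ⟨y, hy, hyC⟩ := SetLike.exists_of_lt (Sigma.exists_gt_inf_normalizer hP₀p hC'lt)
  have hyA' : y ∈ Subgroup.normalizer (A' : Set G) := Subgroup.mem_normalizer_fintype fun x hx => by
    refine mem_of_centralizes h' ((Subgroup.mem_normalizer_iff.1 hy.2 x).1 (hA'C hx)).2 ?_
    rw [conj_pow, h'.elem.2 x hx, mul_one, mul_inv_cancel]
  obtain ⟨k, hk⟩ := hP₀p ⟨y, hy.1⟩
  have hyz : Commute y z := Subgroup.mem_centralizer_iff.1 hzC y hy.1
  obtain ⟨i, hi⟩ := exists_step h'.elem h'.card hzA' hz1 (k := k)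
    (by simpa using congrArg Subtype.val hk) hyA' hyz hx₀A
  have hsupA : ∀ b ∈ A', ∃ s t : ℤ, b = z ^ s * x₀ ^ t := by
    intro b hb
    have hcn : Subgroup.zpowers x₀ ≤ Subgroup.normalizer (Subgroup.zpowers z : Set G) := fun x hx =>
      Subgroup.centralizer_le_normalizer _ (Subgroup.mem_centralizer_iff.2 fun v hv =>
        h'.comm (Subgroup.zpowers_le.2 hzA' hv) (Subgroup.zpowers_le.2 hx₀A hx))
    have hsup : Subgroup.zpowers z ⊔ Subgroup.zpowers x₀ = A' := by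
      have hx₀1 : x₀ ≠ 1 := fun e => hx₀z (e ▸ one_mem _)
      refine Subgroup.eq_of_le_of_card_ge
        (sup_le (Subgroup.zpowers_le.2 hzA') (Subgroup.zpowers_le.2 hx₀A)) ?_
      rw [sup_comm, Coprime.card_sup_of_disjoint hcn, Nat.card_zpowers, Nat.card_zpowers, hzo,
        h'.orderOf_eq hx₀A hx₀1, h'.card, sq]
      rw [disjoint_iff, eq_bot_iff]
      intro x hx
      rw [Subgroup.mem_bot]
      by_contra hx1
      refine hx₀z ?_
      have h1 : Subgroup.zpowers x = Subgroup.zpowers x₀ := by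
        refine Subgroup.eq_of_le_of_card_ge (Subgroup.zpowers_le.2 hx.1) ?_
        rw [Nat.card_zpowers, Nat.card_zpowers, h'.orderOf_eq hx₀A hx₀1,
          h'.orderOf_eq (Subgroup.zpowers_le.2 hx₀A hx.1) hx1]
      exact Subgroup.zpowers_le.2 hx.2 (h1 ▸ Subgroup.mem_zpowers x₀)
    rw [← hsup] at hb
    obtain ⟨_, ⟨s, rfl⟩, _, ⟨t, rfl⟩, he⟩ := Set.mem_mul.1
      (by rw [← Subgroup.coe_mul_of_right_le_normalizer_left _ _ hcn]; exact hb :
        b ∈ (Subgroup.zpowers z : Set G) * (Subgroup.zpowers x₀ : Set G))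
    exact ⟨s, t, he.symm⟩
  have hi0 : (i : ZMod p) ≠ 0 := by
    intro h0
    rw [ZMod.intCast_zmod_eq_zero_iff_dvd, ← hzo, orderOf_dvd_iff_zpow_eq_one] at h0
    rw [h0, one_mul] at hi
    refine hyC ⟨hy.1, Subgroup.mem_centralizer_iff.2 fun b hb => ?_⟩
    obtain ⟨s, t, rfl⟩ := hsupA b hb
    exact (((hyz.zpow_right s).mul_right
      ((show Commute y x₀ from mul_inv_eq_iff_eq_mul.1 hi).zpow_right t))).eq.symm
  -- `z` centralizes `M_σ`
  have hA'n : A' ≤ Subgroup.normalizer (Cfsg.sigmaCore M : Set G) := h'.le_normalizer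
  have hyn : ∀ n : ℕ, y ^ n * x₀ * (y ^ n)⁻¹ = (z ^ i) ^ n * x₀ := by
    intro n
    induction n with
    | zero => simp
    | succ n ih =>
      have h1 : y * (z ^ i) ^ n * y⁻¹ = (z ^ i) ^ n := by
        rw [((hyz.zpow_right i).pow_right n).eq, mul_inv_cancel_right]
      calc y ^ (n + 1) * x₀ * (y ^ (n + 1))⁻¹ = y * (y ^ n * x₀ * (y ^ n)⁻¹) * y⁻¹ := by
            rw [pow_succ']; group
        _ = (y * (z ^ i) ^ n * y⁻¹) * (y * x₀ * y⁻¹) := by rw [ih]; group
        _ = _ := by rw [h1, hi, ← mul_assoc, ← pow_succ]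
  have hzσ : Cfsg.sigmaCore M ≤ Subgroup.centralizer ({z} : Set G) := by
    haveI := h'.elem.1
    refine (Coprime.iSup_centralizer_eq h'.not_isCyclic hA'n h'.coprime).ge.trans
      (iSup₂_le fun b hb => ?_)
    obtain ⟨s, t, rfl⟩ := hsupA b hb.1
    by_cases ht : (t : ZMod p) = 0
    · rw [ZMod.intCast_zmod_eq_zero_iff_dvd] at ht
      have hxt : x₀ ^ t = 1 := by
        obtain ⟨c, rfl⟩ := ht
        rw [zpow_mul, zpow_natCast, h'.elem.2 x₀ hx₀A, one_zpow]
      rw [hxt, mul_one] at hb ⊢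
      have hs : z ∈ Subgroup.zpowers (z ^ s) := by
        have hs0 : (s : ZMod p) ≠ 0 := fun h0 => hb.2 (by
          rw [ZMod.intCast_zmod_eq_zero_iff_dvd, ← hzo, orderOf_dvd_iff_zpow_eq_one] at h0
          exact h0)
        obtain ⟨n, hn⟩ := exists_pow_eq hzp hs0 1
        exact ⟨n, by simpa using hn⟩
      intro x hx
      obtain ⟨j, hj⟩ := hs
      exact Subgroup.mem_centralizer_singleton_iff.2 (hj ▸
        (Commute.zpow_right (Subgroup.mem_centralizer_singleton_iff.1 hx.2 : Commute x (z ^ s)) j).eq)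
    · refine le_trans (le_of_eq ?_) bot_le
      obtain ⟨n, hn⟩ := exists_pow_eq (u := z ^ t) (i := i)
        (by rw [← zpow_natCast, ← zpow_mul, mul_comm, zpow_mul, zpow_natCast, hzp, one_zpow]) hi0 0
      -- conjugate `x₀ ^ t` to `b`
      obtain ⟨n, hn⟩ : ∃ n : ℕ, ((z ^ i) ^ n) ^ t = z ^ s := by
        have hit : ((i * t : ℤ) : ZMod p) ≠ 0 := by push_cast; exact mul_ne_zero hi0 ht
        obtain ⟨n, hn⟩ := exists_pow_eq hzp hit s
        exact ⟨n, by rw [← hn, ← zpow_natCast, ← zpow_natCast, ← zpow_mul, ← zpow_mul,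
          ← zpow_mul]; congr 1; ring⟩
      have hconj : y ^ n * x₀ ^ t * (y ^ n)⁻¹ = z ^ s * x₀ ^ t := by
        rw [← conj_zpow, hyn, ((((h'.comm hzA' hx₀A).zpow_left i).pow_left n)).mul_zpow, hn]
      rw [eq_bot_iff]
      rintro w ⟨hw, hwb⟩
      have hyM : y ^ n ∈ M := pow_mem (hP₀M hy.1) n
      have hw' : (y ^ n)⁻¹ * w * y ^ n ∈ Cfsg.sigmaCore M :=
        (Subgroup.mem_normalizer_iff''.1 (le_normalizer_sigmaCore M hyM) w).1 hw
      have hwc : Commute ((y ^ n)⁻¹ * w * y ^ n) (x₀ ^ t) := by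
        have h1 : w * (z ^ s * x₀ ^ t) = (z ^ s * x₀ ^ t) * w :=
          Subgroup.mem_centralizer_singleton_iff.1 hwb
        rw [← hconj] at h1
        show _ = _
        calc (y ^ n)⁻¹ * w * y ^ n * x₀ ^ t
            = (y ^ n)⁻¹ * (w * (y ^ n * x₀ ^ t * (y ^ n)⁻¹)) * y ^ n := by group
          _ = _ := by rw [h1]; group
      obtain ⟨c, hc⟩ := exists_pow_eq (u := x₀) (h'.elem.2 x₀ hx₀A) ht 1
      rw [zpow_one] at hc
      have hmem : (y ^ n)⁻¹ * w * y ^ n ∈
          Cfsg.sigmaCore M ⊓ Subgroup.centralizer ({x₀} : Set G) :=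
        ⟨hw', Subgroup.mem_centralizer_singleton_iff.2 (hc ▸ (hwc.pow_right c).eq)⟩
      rw [hfix, Subgroup.mem_bot] at hmem
      rw [Subgroup.mem_bot]
      calc w = y ^ n * ((y ^ n)⁻¹ * w * y ^ n) * (y ^ n)⁻¹ := by group
        _ = 1 := by rw [hmem]; group
  -- two Sylow subgroups in `C(z)`
  obtain ⟨q, hq, hqσ, hqM⟩ := exists_sigma_prime h.min h.max
  obtain ⟨S, -, hSσ, -⟩ := h.exists_sylow hqσ (Q₀ := ⊥) IsPGroup.of_bot bot_le
    (h.le.trans fun x _ => Subgroup.mem_normalizer_fintype fun n hn => by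
      rw [Subgroup.mem_bot.1 hn]; simp)
  have hSn := le_normalizer_sylow h hSσ
  have hS1 : (S : Subgroup G) ≠ ⊥ :=
    S.ne_bot_of_dvd_card (hqM.trans M.card_subgroup_dvd_card)
  set S₂ : Sylow q G := g • S with hS₂
  have hS₂e : (S₂ : Subgroup G) = (S : Subgroup G).map (MulAut.conj g).toMonoidHom := by
    rw [hS₂, Sylow.coe_subgroup_smul]; rfl
  have hAS₂ : A' ≤ Subgroup.normalizer ((S₂ : Subgroup G) : Set G) := by
    rw [hS₂e]
    exact le_normalizer_conj (h.le.trans hSn)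
  have hA'z : A' ≤ Subgroup.centralizer ({z} : Set G) := fun b hb =>
    Subgroup.mem_centralizer_singleton_iff.2 (h'.comm hb hzA').eq
  have hSz : (S : Subgroup G) ≤ Subgroup.centralizer ({z} : Set G) := hSσ.trans hzσ
  have hS₂z : (S₂ : Subgroup G) ≤ Subgroup.centralizer ({z} : Set G) := by
    rw [hS₂e]
    rintro _ ⟨x, hx, rfl⟩
    obtain ⟨j, hj⟩ := hgz
    simp only at hj
    refine Subgroup.mem_centralizer_singleton_iff.2 ?_
    have h1 : x * (g⁻¹ * z * g) = (g⁻¹ * z * g) * x := hj ▸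
      (Commute.zpow_right (Subgroup.mem_centralizer_singleton_iff.1 (hSz hx) : Commute x z) j).eq
    show g * x * g⁻¹ * z = z * (g * x * g⁻¹)
    calc g * x * g⁻¹ * z = g * (x * (g⁻¹ * z * g)) * g⁻¹ := by group
      _ = _ := by rw [h1]; group
  have hS₂1 : (S₂ : Subgroup G) ≠ ⊥ :=
    S₂.ne_bot_of_dvd_card (hqM.trans M.card_subgroup_dvd_card)
  obtain ⟨c, hc, hcS⟩ := Transitivity.conj_of_meet h.min h'.transitivity
    (h'.not_dvd hq.out (h.ne_of_sigma hqσ)) (h'.sylow_mem_max (h'.le.trans hSn))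
    (h'.sylow_mem_max hAS₂) (centralizer_singleton_ne_top h.min hz1) hA'z
    (by rw [inf_eq_right.2 hSz]; exact hS1) (by rw [inf_eq_right.2 hS₂z]; exact hS₂1)
  have hS₂S : (S₂ : Subgroup G) = (S : Subgroup G) :=
    hcS.trans (Coprime.conj_smul_eq_self_of_mem_normalizer (hSn (h'.coreC_le hc)))
  refine hgM (normalizer_sylow_le hqσ S (hSσ.trans (sigmaCore_le M))
    (Coprime.mem_normalizer_of_conj_smul_eq ?_))
  exact hS₂e.symm.trans hS₂S

/-- The elements of order `p` of a Sylow subgroup over `A` are those of `A`. -/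
theorem pow_eq_one_iff (h : Ctx M p A) (P : Sylow p M)
    (hAP : A ≤ (P : Subgroup M).map M.subtype) :
    ∀ x ∈ (P : Subgroup M).map M.subtype, x ^ p = 1 ↔ x ∈ A := fun _ hx =>
  ⟨mem_of_centralizes h (Subgroup.le_centralizer_iff.1 (le_centralizer h P hAP) hx),
    fun hxA => h.elem.2 _ hxA⟩

/-- `N(P) ≤ N(A)`. -/
theorem normalizer_le_normalizer (h : Ctx M p A) (P : Sylow p M)
    (hAP : A ≤ (P : Subgroup M).map M.subtype) :
    Subgroup.normalizer ((((P : Subgroup M).map M.subtype : Subgroup G)) : Set G) ≤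
      Subgroup.normalizer (A : Set G) := fun g hg =>
  Subgroup.mem_normalizer_fintype fun x hx => by
    refine (pow_eq_one_iff h P hAP _ ((Subgroup.mem_normalizer_iff.1 hg x).1 (hAP hx))).1 ?_
    rw [conj_pow, h.elem.2 x hx, mul_one, mul_inv_cancel]

end Cfsg.Agent.Lib.OddTau.Sylow
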